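import Cfsg.Agent.Lib.Spor.CoLocal.ThreeData
import Cfsg.Agent.Lib.Spor.GolayElems

/-!
Data for the centraliser of the permutation of order three.
-/

set_option autoImplicit false
set_option maxRecDepth 100000

namespace Cfsg.Agent.Spor.CoLocal

/-- the conjugating permutation -/
def threeNorm : List ℕ := [0, 22, 12, 8, 1, 2, 21, 7, 15, 17, 16, 9, 6, 4, 3, 18, 5, 13, 20, 19, 23, 10, 11, 14]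

/-- the normalised permutation -/
def threeNormed : List ℕ := [1, 2, 0, 22, 9, 20, 14, 3, 16, 15, 11, 18, 6, 8, 12, 4, 13, 19, 10, 23, 21, 5, 7, 17]

/-- images of the fourth point -/
def threeTrans : List (List ℕ) := [[0, 1, 2, 3, 12, 19, 14, 7, 9, 17, 4, 23, 10, 13, 16, 11, 6, 8, 20, 22, 21, 18, 5, 15],
  [0, 1, 2, 4, 10, 17, 5, 12, 8, 18, 7, 19, 3, 23, 21, 14, 20, 11, 16, 6, 22, 13, 9, 15],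
  [0, 1, 2, 5, 11, 9, 13, 16, 10, 6, 20, 12, 7, 17, 19, 8, 21, 18, 3, 22, 14, 23, 15, 4],
  [0, 1, 2, 6, 18, 7, 13, 10, 20, 15, 16, 12, 17, 9, 21, 8, 4, 23, 22, 14, 3, 11, 5, 19],
  [0, 1, 2, 7, 6, 11, 13, 23, 15, 9, 21, 8, 19, 10, 5, 14, 18, 20, 3, 22, 12, 4, 17, 16],
  [0, 1, 2, 8, 18, 21, 15, 12, 7, 3, 23, 16, 11, 4, 22, 17, 9, 10, 20, 13, 14, 6, 19, 5],
  [0, 1, 2, 9, 8, 6, 21, 17, 5, 14, 13, 16, 7, 23, 22, 19, 18, 3, 20, 4, 10, 15, 12, 11],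
  [0, 1, 2, 10, 8, 13, 6, 22, 20, 17, 21, 16, 5, 12, 14, 15, 23, 19, 7, 9, 4, 3, 18, 11],
  [0, 1, 2, 11, 20, 15, 13, 7, 3, 10, 16, 14, 5, 12, 21, 6, 22, 4, 23, 9, 18, 8, 19, 17],
  [0, 1, 2, 12, 11, 5, 14, 18, 10, 16, 8, 9, 23, 17, 13, 3, 4, 6, 20, 7, 19, 22, 21, 15],
  [0, 1, 2, 13, 16, 14, 8, 22, 3, 9, 23, 7, 4, 6, 19, 20, 18, 11, 12, 21, 15, 5, 17, 10],
  [0, 1, 2, 14, 11, 20, 9, 19, 3, 16, 13, 12, 10, 15, 6, 23, 17, 8, 7, 5, 22, 18, 21, 4],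
  [0, 1, 2, 15, 8, 22, 11, 16, 12, 21, 19, 4, 3, 9, 18, 6, 13, 14, 10, 5, 23, 20, 17, 7],
  [0, 1, 2, 16, 17, 20, 8, 18, 9, 19, 10, 3, 6, 4, 7, 14, 21, 5, 22, 12, 13, 23, 15, 11],
  [0, 1, 2, 17, 11, 18, 20, 4, 7, 12, 15, 19, 21, 3, 16, 13, 9, 10, 23, 8, 5, 14, 22, 6],
  [0, 1, 2, 18, 8, 10, 7, 11, 9, 22, 23, 14, 12, 3, 17, 4, 19, 6, 21, 5, 13, 20, 15, 16],
  [0, 1, 2, 19, 10, 17, 3, 13, 4, 16, 11, 8, 14, 23, 12, 5, 9, 22, 6, 18, 7, 21, 15, 20],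
  [0, 1, 2, 20, 8, 18, 10, 14, 5, 23, 4, 15, 6, 17, 21, 16, 7, 3, 12, 11, 22, 19, 9, 13],
  [0, 1, 2, 21, 17, 16, 23, 15, 5, 6, 11, 19, 4, 13, 14, 22, 8, 12, 18, 10, 3, 20, 7, 9],
  [0, 1, 2, 22, 13, 9, 18, 16, 20, 7, 23, 14, 4, 5, 3, 19, 12, 11, 8, 17, 21, 10, 15, 6],
  [0, 1, 2, 23, 22, 20, 5, 13, 8, 17, 4, 3, 16, 7, 10, 11, 18, 9, 19, 12, 21, 6, 14, 15]]

end Cfsg.Agent.Spor.CoLocal
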