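import Cfsg.Agent.Lib.Spor.Co1SevenFix

/-!
Data for a permutation of odd prime order with eight cycles, acting on the lattice, and the conditions
on the data.
-/

set_option autoImplicit false

namespace Cfsg.Agent.Spor.CoLocal

open Cfsg Cfsg.Agent.Spor.MonsterFusion
open scoped Pointwise

local notation "Zv" => GolayPt → ℤ
set_option quotPrecheck false in
local notation "Lv" => ↥leechLattice
local notation "V8" => Fin 8 → ZMod 2

/-- the data -/
structure Dat where
  /-- the order -/
  p : ℕ
  /-- the number of objects -/
  n : ℕ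
  /-- the permutation -/
  perm : List ℕ
  /-- first points of the cycles -/
  reps : List ℕ
  /-- cycle of a point -/
  orbNum : List ℕ
  /-- position of a point -/
  orbPos : List ℕ
  /-- basis of the fixed classes -/
  basis : List (List ℤ)
  /-- dual basis -/
  dual : List (List ℤ)
  /-- fixed vectors for the residues modulo four -/
  resid : List (List ℤ)
  /-- representatives of short classes -/
  short : List (List ℤ)
  /-- bound on the other classes -/
  orbMax : ℕ
  /-- bound on the centralising permutations -/
  centMax : ℕ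
  /-- fixed code words -/
  masks : List ℕ
  /-- words of the generators -/
  gens : List (List LOp)
  /-- their traces at the unit vectors, then at the basis -/
  traces : List (List (List (List ℤ)))
  /-- objects, as sets of numbers of classes -/
  objs : List ℕ
  /-- their permutations -/
  gperm : List (List ℕ)

variable (D : Dat)

/-- the image of a point -/
def Dat.sx (q : GolayPt) : GolayPt := pt (D.perm.getD (idx q) 0)

/-- the cycle of a point -/
def Dat.orb (q : GolayPt) : Fin 8 := Fin.ofNat 8 (D.orbNum.getD (idx q) 0)

/-- the first point of a cycle -/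
def Dat.orep (j : Fin 8) : GolayPt := pt (D.reps.getD j 0)

/-- basis vector -/
def Dat.bF (j : Fin 8) : Zv := vecOf (D.basis.getD j [])

/-- dual vector -/
def Dat.dF (j : Fin 8) : Zv := vecOf (D.dual.getD j [])

/-- coordinates -/
def Dat.coordF (x : Zv) : V8 := fun j => ((dotInt x (D.dF j) / 8 : ℤ) : ZMod 2)

/-- combination -/
def Dat.combF (c : V8) (q : GolayPt) : ℤ := ∑ j, if c j = 1 then D.bF j q else 0

/-- number of a class -/
def num (c : V8) : ℕ := ∑ j : Fin 8, (c j).val * 2 ^ (j : ℕ)

/-- the first class -/
def base : V8 := Pi.single 0 1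

/-- classes with a short representative -/
def Dat.isShort (c : V8) : Bool :=
  decide (c = 0) || D.short.any fun w => decide (D.coordF (vecOf w) = c)

/-- trace of a word at a unit vector or a basis vector -/
def Dat.tr (k i : ℕ) : List (List ℤ) := (D.traces.getD k []).getD i []

/-- image of a unit vector -/
def Dat.mat (k : ℕ) (i : GolayPt) : Zv := vecOf ((D.tr k (idx i)).headD [])

/-- class of the image of a basis vector -/
def Dat.img (k : ℕ) (j : Fin 8) : V8 := D.coordF (vecOf ((D.tr k (24 + j)).headD []))

/-- the linear map of a generator -/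
def Dat.lin (k : ℕ) (c : V8) : V8 := ∑ j, if c j = 1 then D.img k j else 0

/-- membership in an object -/
def Dat.obj (i : Fin D.n) (c : V8) : Bool := Nat.testBit (D.objs.getD i 0) (num c)

/-- image of an object -/
def Dat.gp (k : ℕ) (i : Fin D.n) : ℕ := (D.gperm.getD k []).getD i 0

/-- coefficients of fixed vectors divisible by four -/
def quadVec (j i : Fin 8) : ℤ :=
  if (j : ℕ) = 7 then (if i = j then 2 else 0) else (if i = j ∨ (i : ℕ) = (j : ℕ) + 1 then 1 else 0)

/-- residues modulo four of fixed vectors -/
def Dat.resVec (m : Fin 2) (d : Fin 256) : Zv := fun q =>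
  (m : ℤ) + 2 * (if Nat.testBit d (D.orb q) then 1 else 0)

/-- the conditions on the permutation and the fixed vectors -/
structure Dat.Fix : Prop where
  prime : D.p.Prime
  odd : D.p % 2 = 1
  perm_ok : m24ok D.perm = true
  pow : ∀ q, D.sx^[D.p] q = q
  moves : ∃ i, D.sx i ≠ i
  reach : ∀ q, D.sx^[D.orbPos.getD (idx q) 0] (D.orep (D.orb q)) = q
  orep_orb : ∀ j, D.orb (D.orep j) = j
  size : ∀ j, (Finset.univ.filter fun q => D.orb q = j).card % 2 = 1
  basis_ok : ∀ j, leechCheck (D.bF j) = true
  dual_ok : ∀ j, leechCheck (D.dF j) = true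
  pairing : ∀ j, D.coordF (D.bF j) = Pi.single j 1
  basis_fix : ∀ j q, D.bF j (D.sx q) = D.bF j q
  base_ok : Co1Seven.congB (fun q => if q = none then 8 else 0) (D.bF 0) = true
  resid_ok : (D.resid.all fun e => leechCheck (vecOf e) &&
    decide (∀ q, vecOf e q = vecOf e (D.orep (D.orb q))) &&
    Co1Seven.congB (vecOf e) (D.combF (D.coordF (vecOf e)))) = true
  resid_complete : ∀ m : Fin 2, ∀ d : Fin 256, inCode (wmask (digit (D.resVec m d))) = true →
    (D.resid.any fun e => decide (∀ j : Fin 8,
      vecOf e (D.orep j) % 4 = (m : ℤ) + 2 * (if Nat.testBit d j then 1 else 0))) = true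
  quad_ok : ∀ j, leechCheck (fun q => 4 * quadVec j (D.orb q)) = true ∧
    Co1Seven.congB (fun q => 4 * quadVec j (D.orb q))
      (D.combF (D.coordF fun q => 4 * quadVec j (D.orb q))) = true

/-- the conditions on classes, code words and generators -/
structure Dat.Chk : Prop where
  short_ok : (D.short.all fun w => leechCheck (vecOf w) && decide (sqNorm (vecOf w) ≤ 48) &&
    Co1Seven.congB (vecOf w) (D.combF (D.coordF (vecOf w)))) = true
  orb_max : (Finset.univ.filter fun c : V8 => D.isShort c = false).card ≤ D.orbMax
  mask_ok : (codeMasks.all fun m =>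
    !((List.range 24).all fun i => Nat.testBit m (D.perm.getD i 0) == Nat.testBit m i) || D.masks.elem m) = true
  mask_len : D.masks.length ≤ 16
  words : ∀ k, k < D.gens.length → ((D.gens.getD k []).all LOp.ok &&
    (List.range 32).all fun i => traceOk (D.gens.getD k []) (D.tr k i) &&
      (D.tr k i).getLastD [] == (if i < 24 then Co1Seven.unitL i else D.basis.getD (i - 24) [])) = true
  comm : ∀ k, k < D.gens.length → ∀ i q : GolayPt, D.mat k (D.sx i) (D.sx q) = D.mat k i q
  lin_ok : ∀ k, k < D.gens.length → ∀ (i : Fin D.n) (c : V8),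
    D.gp k i < D.n ∧ Nat.testBit (D.objs.getD (D.gp k i) 0) (num (D.lin k c)) = D.obj i c
  distinct : ∀ i j : Fin D.n, (∀ c, D.obj i c = D.obj j c) → i = j

end Cfsg.Agent.Spor.CoLocal
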