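import Cfsg.Agent.Lib.Spor.CoLocal.Defs

/-!
Words in the permutations of objects, order five.
-/

set_option autoImplicit false
set_option maxRecDepth 100000

namespace Cfsg.Agent.Spor.CoLocal

/-- part of the words -/
def fiveCyc0 : List (List ℕ) := [[],
  [],
  [],
  [],
  [],
  [],
  [],
  [1, 1, 0, 1, 1, 0, 0, 0, 0, 0],
  [1, 1, 0, 1, 0, 0, 0, 0, 0, 1, 1],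
  [1, 1, 0, 0, 1, 0, 0, 0, 1, 0, 1, 0, 0],
  [],
  [0, 1, 0, 0, 0, 0, 0, 1],
  [],
  [0, 0, 1, 0, 1, 0, 1, 0, 1, 0],
  [0, 1, 0, 1, 0, 0, 0, 1, 0, 1, 0, 0],
  [],
  [1, 0, 1, 1, 0, 0, 0, 0, 0, 1],
  [1, 0, 1, 0, 0, 0, 0, 0],
  [],
  [1, 0, 0, 0, 1, 0, 1, 0, 0, 0, 1, 0],
  [],
  [0, 0, 1, 1, 0, 1, 1, 0, 0, 0],
  [1, 0, 1, 0, 0, 0, 1, 0, 1, 0],
  [0, 0, 1, 0, 1, 0, 0, 0],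
  [],
  [],
  [],
  [0, 1, 0, 0, 0, 0, 0, 1],
  [1, 0, 1, 1, 0, 0, 0, 0, 0, 1],
  [0, 0, 1, 1, 0, 1, 1, 0, 0, 0],
  [],
  [],
  [],
  [],
  [],
  [1, 1, 0, 1, 1, 0, 0, 0, 0, 0],
  [],
  [],
  [0, 0, 0, 0, 1, 0, 1, 1, 0, 0, 0, 0, 0, 1, 0, 0],
  [1, 1, 0, 0, 0, 0, 1, 0, 1, 0, 1],
  [1, 1, 0, 1, 0, 0, 0, 0, 0, 1, 1],
  [],
  [0, 1, 0, 0, 0, 0, 0, 1, 1, 0, 1, 0, 0, 0, 0, 0],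
  [],
  [1, 1, 0, 0, 0, 0, 1, 1, 0, 1, 1, 0, 1],
  [1, 1, 0, 0, 1, 0, 0, 0, 1, 0, 1, 0, 0],
  [],
  [0, 0, 0, 0, 1, 1, 0, 1, 1, 0],
  [1, 0, 0, 0, 0, 1, 0, 1, 0, 1, 1],
  []]

/-- part of the words -/
def fiveCyc1 : List (List ℕ) := [[],
  [1, 1, 0, 1, 1, 0, 0, 0, 0, 0],
  [],
  [1, 0, 1, 0, 0, 0, 0, 0],
  [1, 0, 1, 0, 0, 0, 1, 0, 1, 0],
  [0, 1, 0, 0, 0, 0, 0, 1],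
  [],
  [],
  [0, 1, 0, 0, 0, 0, 0, 1, 1, 0, 1, 0, 0, 0, 0, 0],
  [0, 0, 0, 0, 1, 1, 0, 1, 1, 0],
  [],
  [],
  [],
  [],
  [],
  [0, 0, 1, 0, 1, 0, 1, 0, 1, 0],
  [0, 0, 0, 0, 1, 0, 1, 1, 0, 0, 0, 0, 0, 1, 0, 0],
  [],
  [],
  [0, 0, 0, 0, 1, 0, 1, 0],
  [0, 1, 0, 1, 0, 0, 0, 1, 0, 1, 0, 0],
  [1, 1, 0, 0, 0, 0, 1, 0, 1, 0, 1],
  [],
  [1, 0, 1, 0, 1, 0, 1, 0, 0, 0],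
  [],
  [],
  [1, 1, 0, 1, 0, 0, 0, 0, 0, 1, 1],
  [0, 0, 1, 0, 1, 0, 1, 0, 1, 0],
  [],
  [0, 0, 1, 0, 1, 0, 0, 0],
  [1, 0, 1, 1, 0, 0, 0, 0, 0, 1],
  [],
  [0, 0, 0, 0, 1, 0, 1, 1, 0, 0, 0, 0, 0, 1, 0, 0],
  [],
  [1, 0, 0, 0, 0, 1, 0, 1, 0, 1, 1],
  [1, 0, 1, 0, 0, 0, 0, 0],
  [0, 1, 0, 0, 0, 0, 0, 1, 1, 0, 1, 0, 0, 0, 0, 0],
  [],
  [],
  [1, 0, 1, 0, 1, 0, 1, 0, 0, 0],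
  [],
  [],
  [],
  [],
  [],
  [1, 0, 0, 0, 1, 0, 1, 0, 0, 0, 1, 0],
  [1, 1, 0, 0, 0, 0, 1, 1, 0, 1, 1, 0, 1],
  [0, 0, 0, 0, 1, 0, 1, 0],
  [],
  []]

/-- part of the words -/
def fiveCyc2 : List (List ℕ) := [[],
  [1, 1, 0, 0, 1, 0, 0, 0, 1, 0, 1, 0, 0],
  [0, 1, 0, 1, 0, 0, 0, 1, 0, 1, 0, 0],
  [1, 0, 0, 0, 1, 0, 1, 0, 0, 0, 1, 0],
  [],
  [0, 0, 1, 1, 0, 1, 1, 0, 0, 0],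
  [],
  [1, 1, 0, 0, 0, 0, 1, 0, 1, 0, 1],
  [1, 1, 0, 0, 0, 0, 1, 1, 0, 1, 1, 0, 1],
  [],
  [1, 0, 1, 0, 0, 0, 1, 0, 1, 0],
  [0, 0, 0, 0, 1, 1, 0, 1, 1, 0],
  [],
  [0, 0, 0, 0, 1, 0, 1, 0],
  [],
  [0, 0, 1, 0, 1, 0, 0, 0],
  [1, 0, 0, 0, 0, 1, 0, 1, 0, 1, 1],
  [1, 0, 1, 0, 1, 0, 1, 0, 0, 0],
  [],
  [],
  [],
  [],
  [],
  [],
  [],
  [],
  [],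
  [],
  [],
  [],
  [],
  [],
  [1, 0, 0, 0, 0, 0, 1, 1, 0, 1],
  [1, 0, 0, 0, 0, 0, 1, 0],
  [0, 0, 0, 1, 1, 0, 1, 1, 0, 0],
  [],
  [1, 1, 0, 0, 0, 0, 0, 1, 0, 1, 1],
  [],
  [0, 1, 0, 1, 0, 1, 0, 1, 0, 0],
  [0, 0, 0, 1, 0, 1, 0, 0],
  [],
  [0, 0, 0, 0, 0, 1, 1, 0, 1, 1],
  [0, 0, 0, 0, 0, 1, 0, 1],
  [],
  [0, 1, 0, 1, 0, 0, 0, 1, 0, 1],
  [],
  [1, 0, 0, 1, 1, 0, 0, 1, 0, 1, 0, 0, 0],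
  [0, 1, 0, 0, 0, 1, 0, 1, 0, 0, 0, 1],
  [1, 0, 1, 0, 0, 0, 1, 0, 1, 0, 0, 0],
  []]

/-- part of the words -/
def fiveCyc3 : List (List ℕ) := [[],
  [],
  [1, 1, 0, 0, 0, 0, 0, 1, 0, 1, 1],
  [0, 0, 0, 0, 0, 1, 1, 0, 1, 1],
  [1, 0, 0, 1, 1, 0, 0, 1, 0, 1, 0, 0, 0],
  [],
  [],
  [],
  [],
  [],
  [1, 0, 0, 0, 0, 0, 1, 1, 0, 1],
  [],
  [],
  [0, 0, 1, 0, 0, 0, 0, 0, 1, 1, 0, 1, 0, 0, 0, 0],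
  [1, 1, 0, 1, 0, 1, 0, 0, 0, 0, 1],
  [1, 0, 0, 0, 0, 0, 1, 0],
  [],
  [0, 0, 0, 0, 0, 1, 0, 1, 1, 0, 0, 0, 0, 0, 1, 0],
  [],
  [0, 1, 1, 0, 1, 1, 0, 0, 0, 0],
  [0, 0, 0, 1, 1, 0, 1, 1, 0, 0],
  [],
  [1, 0, 1, 1, 0, 1, 1, 0, 0, 0, 0, 1, 1],
  [1, 0, 1, 0, 1, 0, 0, 0, 0, 1, 1],
  [],
  [],
  [1, 0, 0, 0, 0, 0, 1, 1, 0, 1],
  [],
  [0, 0, 0, 0, 0, 1, 0, 1],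
  [0, 1, 0, 0, 0, 1, 0, 1, 0, 0, 0, 1],
  [1, 1, 0, 0, 0, 0, 0, 1, 0, 1, 1],
  [],
  [],
  [0, 0, 0, 0, 0, 1, 0, 1, 1, 0, 0, 0, 0, 0, 1, 0],
  [1, 0, 1, 1, 0, 1, 1, 0, 0, 0, 0, 1, 1],
  [],
  [],
  [],
  [],
  [],
  [0, 1, 0, 1, 0, 1, 0, 1, 0, 0],
  [0, 0, 1, 0, 0, 0, 0, 0, 1, 1, 0, 1, 0, 0, 0, 0],
  [],
  [],
  [0, 1, 0, 1, 0, 0, 0, 0],
  [0, 0, 0, 1, 0, 1, 0, 0],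
  [1, 1, 0, 1, 0, 1, 0, 0, 0, 0, 1],
  [],
  [0, 0, 0, 1, 0, 1, 0, 1, 0, 1],
  []]

/-- part of the words -/
def fiveCyc4 : List (List ℕ) := [[],
  [1, 0, 0, 0, 0, 0, 1, 0],
  [0, 1, 0, 1, 0, 1, 0, 1, 0, 0],
  [],
  [1, 0, 1, 0, 0, 0, 1, 0, 1, 0, 0, 0],
  [0, 0, 0, 0, 0, 1, 1, 0, 1, 1],
  [],
  [0, 0, 1, 0, 0, 0, 0, 0, 1, 1, 0, 1, 0, 0, 0, 0],
  [],
  [1, 0, 1, 0, 1, 0, 0, 0, 0, 1, 1],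
  [0, 0, 0, 0, 0, 1, 0, 1],
  [0, 0, 0, 0, 0, 1, 0, 1, 1, 0, 0, 0, 0, 0, 1, 0],
  [],
  [],
  [0, 0, 0, 1, 0, 1, 0, 1, 0, 1],
  [],
  [],
  [],
  [],
  [],
  [0, 1, 0, 1, 0, 0, 0, 1, 0, 1],
  [0, 1, 1, 0, 1, 1, 0, 0, 0, 0],
  [0, 1, 0, 1, 0, 0, 0, 0],
  [],
  [],
  [],
  [0, 0, 0, 1, 1, 0, 1, 1, 0, 0],
  [0, 0, 0, 1, 0, 1, 0, 0],
  [0, 1, 0, 1, 0, 0, 0, 1, 0, 1],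
  [],
  [1, 0, 0, 1, 1, 0, 0, 1, 0, 1, 0, 0, 0],
  [],
  [1, 1, 0, 1, 0, 1, 0, 0, 0, 0, 1],
  [0, 1, 1, 0, 1, 1, 0, 0, 0, 0],
  [],
  [0, 1, 0, 0, 0, 1, 0, 1, 0, 0, 0, 1],
  [1, 0, 1, 1, 0, 1, 1, 0, 0, 0, 0, 1, 1],
  [],
  [0, 1, 0, 1, 0, 0, 0, 0],
  [],
  [1, 0, 1, 0, 0, 0, 1, 0, 1, 0, 0, 0],
  [1, 0, 1, 0, 1, 0, 0, 0, 0, 1, 1],
  [0, 0, 0, 1, 0, 1, 0, 1, 0, 1],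
  [],
  [],
  [],
  [],
  [],
  [],
  []]

/-- words for cycles of length three -/
def fiveCyc : List (List ℕ) := fiveCyc0 ++ fiveCyc1 ++ fiveCyc2 ++ fiveCyc3 ++ fiveCyc4

/-- words fixing the first object -/
def fiveStab : List (List ℕ) := [[0, 0, 0, 0, 1, 0, 1, 1, 0, 1], [0, 0, 0, 1, 1, 0, 1, 0, 1, 0]]

/-- words moving the first object -/
def fiveMove : List (List ℕ) := [[1], [1, 1, 0, 0, 0, 0], [0, 0, 0, 0, 1], [1, 0, 1, 0, 0, 0], [1, 0, 0], [0, 0, 1, 0], [1, 0, 0, 0, 0, 0], [0, 1, 0, 0, 0, 0], [0, 0, 1, 0, 1, 0, 0], [0]]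

/-- a word for the exchange of the halves -/
def fiveSwap : List ℕ := [0, 0, 0, 1, 0, 1, 1, 0, 1, 1, 0, 1, 0, 0, 0]

end Cfsg.Agent.Spor.CoLocal
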