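import Cfsg.Agent.Lib.Spor.CoLocal.PermGroup
import Cfsg.Agent.Lib.Spor.CoLocal.FiveChk
import Cfsg.Agent.Lib.Spor.CoLocal.FiveWords
import Cfsg.Agent.Lib.Spor.MathieuTwentyFourCounts

/-!
The centraliser of the element of order five permutes ten objects as a wreath product.
-/

set_option autoImplicit false
set_option maxRecDepth 100000
set_option maxHeartbeats 2000000

namespace Cfsg.Agent.Spor.CoLocal

open Cfsg
open scoped Pointwise

theorem five_cent : Nat.card (Subgroup.centralizer ({(⟨fiveDat.sigma, five_fix.mem⟩ : M24)} : Set M24)) ≤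
    fiveDat.centMax := by
  haveI : Fact (Nat.Prime 5) := ⟨by norm_num⟩
  refine M24Block.card_centralizer_five (orderOf_eq_prime (Subtype.ext ?_) fun e => ?_)
  · rw [SubmonoidClass.coe_pow]; exact five_fix.sigma_pow
  · obtain ⟨i, hi⟩ := five_fix.moves
    have h := five_fix.sigma_apply i
    rw [show fiveDat.sigma = 1 from congrArg Subtype.val e, Equiv.Perm.one_apply] at h
    exact hi h.symm

theorem five_ok' : fiveDat.Ok := ⟨five_fix, five_chk, five_cent⟩

/-- the first permutation -/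
def fiveP0 : Equiv.Perm (Fin 10) :=
  ⟨![9, 6, 8, 7, 5, 2, 1, 3, 0, 4], ![8, 6, 5, 7, 9, 4, 1, 3, 2, 0], by decide +kernel, by decide +kernel⟩

/-- the second permutation -/
def fiveP1 : Equiv.Perm (Fin 10) :=
  ⟨![0, 2, 3, 1, 4, 5, 7, 8, 6, 9], ![0, 3, 1, 2, 4, 5, 8, 6, 7, 9], by decide +kernel, by decide +kernel⟩

/-- the permutations -/
def fiveP (k : ℕ) : Equiv.Perm (Fin 10) := if k = 0 then fiveP0 else fiveP1

theorem fiveP_gp : ∀ k, k < 2 → ∀ i : Fin 10, (fiveDat.gperm.getD k []).getD i 0 = (fiveP k i : ℕ) := by decide +kernel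

theorem five_gens_len : fiveDat.gens.length = 2 := rfl

/-- the group of permutations of objects, on plain points -/
noncomputable def fiveKK : Subgroup (Equiv.Perm (Fin 10)) := five_ok'.K

theorem fiveP_mem (k : ℕ) : fiveP k ∈ fiveKK := by
  have h : ∀ k, k < 2 → fiveP k ∈ fiveKK := fun k hk => five_ok'.K_eq fiveP
    (fun k hk => fiveP_gp k (five_gens_len ▸ hk)) k (five_gens_len ▸ hk)
  by_cases h0 : k = 0
  · subst h0; exact h 0 (by norm_num)
  · rw [show fiveP k = fiveP 1 by simp [fiveP, h0]]; exact h 1 (by norm_num)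

/-- transport of permutations of the two halves -/
def halves : Equiv.Perm (Fin 5 ⊕ Fin 5) ≃* Equiv.Perm (Fin 10) := (finSumFinEquiv (m := 5) (n := 5)).permCongrHom

/-- the two embeddings -/
def side : Fin 2 → Equiv.Perm (Fin 5) →* Equiv.Perm (Fin 10) :=
  ![halves.toMonoidHom.comp (MonoidHom.mk' (fun σ => Equiv.Perm.sumCongr σ 1)
      (fun a b => by ext x; cases x <;> rfl)),
    halves.toMonoidHom.comp (MonoidHom.mk' (fun σ => Equiv.Perm.sumCongr 1 σ)
      (fun a b => by ext x; cases x <;> rfl))]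

theorem fiveCyc_ok : ∀ s : Fin 2, ∀ a b c : Fin 5, a ≠ b → a ≠ c → b ≠ c →
    evalW fiveP (fiveCyc.getD (125 * s + 25 * a + 5 * b + c) []) =
      side s (Equiv.swap a b * Equiv.swap a c) := by decide +kernel

theorem fiveSwap_ok : evalW fiveP fiveSwap = halves (Equiv.sumComm (Fin 5) (Fin 5)) := by decide +kernel

theorem side_mem (s : Fin 2) (σ : alternatingGroup (Fin 5)) : side s (σ : Equiv.Perm (Fin 5)) ∈ fiveKK := by
  have h : alternatingGroup (Fin 5) ≤ fiveKK.comap (side s) := alternating_le (by norm_num) fun a b c ha hb hc => by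
    rw [Subgroup.mem_comap, ← fiveCyc_ok s a b c ha hb hc]
    exact evalW_mem fiveP_mem _
  exact h σ.2

/-- components of the generators -/
def fivePart : Fin 2 → Equiv.Perm (Fin 5) × Equiv.Perm (Fin 5) :=
  ![(⟨![4, 1, 3, 2, 0], ![4, 1, 3, 2, 0], by decide +kernel, by decide +kernel⟩,
     ⟨![2, 1, 3, 0, 4], ![3, 1, 0, 2, 4], by decide +kernel, by decide +kernel⟩),
    (⟨![0, 2, 3, 1, 4], ![0, 3, 1, 2, 4], by decide +kernel, by decide +kernel⟩,
     ⟨![0, 2, 3, 1, 4], ![0, 3, 1, 2, 4], by decide +kernel, by decide +kernel⟩)]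

theorem fivePart_even : ∀ k : Fin 2, Equiv.Perm.sign (fivePart k).1 = 1 ∧ Equiv.Perm.sign (fivePart k).2 = 1 := by
  decide +kernel

theorem fivePart_ok : ∀ k : Fin 2, fiveP k = halves ((if k = 0 then Equiv.sumComm (Fin 5) (Fin 5) else 1) *
    Equiv.Perm.sumCongr (fivePart k).1 (fivePart k).2) := by decide +kernel

theorem five_K : fiveKK = alternatingFiveWreathTwo.map halves.toMonoidHom := by
  refine le_antisymm (five_ok'.K_le fiveP (fun k hk => fiveP_gp k (five_gens_len ▸ hk)) fun k hk => ?_) ?_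
  · rw [five_gens_len] at hk
    refine ⟨_, mul_mem ?_ (Subgroup.subset_closure (Or.inl ⟨⟨_, Equiv.Perm.mem_alternatingGroup.2 (fivePart_even ⟨k, hk⟩).1⟩,
      ⟨_, Equiv.Perm.mem_alternatingGroup.2 (fivePart_even ⟨k, hk⟩).2⟩, rfl⟩)), (fivePart_ok ⟨k, hk⟩).symm⟩
    split_ifs
    · exact Subgroup.subset_closure (Or.inr rfl)
    · exact one_mem _
  · rw [Subgroup.map_le_iff_le_comap, alternatingFiveWreathTwo, Subgroup.closure_le]
    rintro g (⟨σ, τ, rfl⟩ | rfl)
    · have h := mul_mem (side_mem 0 σ) (side_mem 1 τ)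
      rw [SetLike.mem_coe, Subgroup.mem_comap]
      convert h using 1
      show halves _ = halves _ * halves _
      rw [← map_mul]
      congr 1
      ext x; cases x <;> rfl
    · rw [SetLike.mem_coe, Subgroup.mem_comap]
      show halves _ ∈ _
      rw [← fiveSwap_ok]
      exact evalW_mem fiveP_mem _

theorem five_iso : Nonempty (↥five_ok'.K ≃* ↥alternatingFiveWreathTwo) :=
  ⟨(MulEquiv.subgroupCongr five_K).trans
    (Subgroup.equivMapOfInjective _ halves.toMonoidHom halves.injective).symm⟩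

theorem five_big : five_ok'.Big := by
  show fiveDat.orbMax * (16 * fiveDat.centMax) ≤ 2 * fiveDat.p * Nat.card fiveKK
  rw [five_K, Subgroup.card_map_of_injective halves.injective]
  let f : (alternatingGroup (Fin 5) × alternatingGroup (Fin 5)) × Bool → alternatingFiveWreathTwo := fun x =>
    ⟨Equiv.Perm.sumCongr (x.1.1 : Equiv.Perm (Fin 5)) (x.1.2 : Equiv.Perm (Fin 5)) *
      (bif x.2 then Equiv.sumComm (Fin 5) (Fin 5) else 1),
      mul_mem (Subgroup.subset_closure (Or.inl ⟨_, _, rfl⟩)) (by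
        cases x.2
        · exact one_mem _
        · exact Subgroup.subset_closure (Or.inr rfl))⟩
  have hf : Function.Injective f := by
    rintro ⟨⟨a, b⟩, s⟩ ⟨⟨a', b'⟩, s'⟩ e
    have e' : ∀ x, _ = _ := fun x => congrArg (fun g : alternatingFiveWreathTwo => (g : Equiv.Perm (Fin 5 ⊕ Fin 5)) x) e
    have hs : s = s' := by
      have := congrArg Sum.isLeft (e' (Sum.inl 0))
      cases s <;> cases s' <;> first | rfl | (simp [f] at this)
    subst hs
    cases s
    · refine Prod.ext (Prod.ext (Subtype.ext (Equiv.ext fun i => ?_)) (Subtype.ext (Equiv.ext fun i => ?_))) rfl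
      · simpa [f] using e' (Sum.inl i)
      · simpa [f] using e' (Sum.inr i)
    · refine Prod.ext (Prod.ext (Subtype.ext (Equiv.ext fun i => ?_)) (Subtype.ext (Equiv.ext fun i => ?_))) rfl
      · simpa [f] using e' (Sum.inr i)
      · simpa [f] using e' (Sum.inl i)
  refine le_trans ?_ (Nat.mul_le_mul_left _ (Nat.card_le_card_of_injective f hf))
  rw [Nat.card_prod, Nat.card_prod, nat_card_alternatingGroup, Nat.card_fin, Nat.card_eq_fintype_card,
    Fintype.card_bool]
  exact le_of_eq rfl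

theorem fiveStab_ok : ∀ j : Fin 2, evalW fiveP (fiveStab.getD j []) 0 = 0 := by decide +kernel

theorem fiveMove_ok : ∀ i : Fin 10, evalW fiveP (fiveMove.getD i []) 0 = i := by decide +kernel

set_option synthInstance.maxSize 512 in
theorem five_noblock : ∀ S : Finset (Fin 10), (0 : Fin 10) ∈ S →
    (∀ i ∈ S, evalW fiveP (fiveStab.getD 0 []) i ∈ S) → (∀ i ∈ S, evalW fiveP (fiveStab.getD 1 []) i ∈ S) →
    S.card ∈ [2, 4, 8] → False := by decide +kernel

theorem five_group : five_ok'.Group where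
  big := five_big
  noTwo N hN h2 := by
    exact no_two_normal (n := 10) (K := fiveKK) (N := N) (hN := hN) (by norm_num) (0 : Fin 10) (fun i => ⟨_, evalW_mem fiveP_mem _, fiveMove_ok i⟩)
      (evalW_mem fiveP_mem _) (evalW_mem fiveP_mem _) (fiveStab_ok 0) (fiveStab_ok 1) five_noblock h2

end Cfsg.Agent.Spor.CoLocal
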