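import Cfsg.Agent.Lib.Spor.CoLocal.Defs

/-!
Data for the element of order five.
-/

set_option autoImplicit false
set_option maxRecDepth 100000

namespace Cfsg.Agent.Spor.CoLocal

/-- part of the data -/
def fiveBasis0 : List (List ℤ) := [[0, 0, 0, 0, 0, 0, 0, 8, 8, 0, 0, 0, 0, 0, 0, 0, 0, 0, 0, 0, 8, 0, 8, 8],
    [2, 2, 0, 2, 2, 2, 2, 0, 0, 0, 0, 0, 0, 0, 0, 0, 2, 0, 0, 0, 0, 2, 0, 0],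
    [0, 2, 2, 2, 0, 0, 0, 2, 2, 0, 0, 0, 0, 0, 0, 0, 0, 0, 0, 0, 2, 0, 2, 2],
    [2, 0, 2, 2, 0, 0, 0, 0, 0, 2, 0, 0, 2, 0, 0, 2, 0, 2, 2, 0, 0, 0, 0, 0],
    [2, 2, 2, 0, 0, 0, 0, 0, 0, 0, 2, 2, 0, 2, 2, 0, 0, 0, 0, 2, 0, 0, 0, 0],
    [4, 4, 0, 0, 0, 0, 0, 0, 0, 0, 0, 0, 0, 0, 0, 0, 0, 0, 0, 0, 0, 0, 0, 0],
    [0, 4, 4, 0, 0, 0, 0, 0, 0, 0, 0, 0, 0, 0, 0, 0, 0, 0, 0, 0, 0, 0, 0, 0],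
    [5, 1, 1, 1, 1, 1, 1, 1, 1, 1, 1, 1, 1, 1, 1, 1, 1, 1, 1, 1, 1, 1, 1, 1]]

/-- part of the data -/
def fiveDual0 : List (List ℤ) := [[11, 5, 3, 3, 1, 1, 1, 1, 1, 3, 1, 1, 3, 1, 1, 3, 1, 3, 3, 1, 1, 1, 1, 1],
    [6, 6, 2, 0, 0, 0, 0, 0, 0, 0, 2, 2, 0, 2, 2, 0, 0, 0, 0, 2, 0, 0, 0, 0],
    [2, 6, 6, 0, 0, 0, 0, 0, 0, 0, 2, 2, 0, 2, 2, 0, 0, 0, 0, 2, 0, 0, 0, 0],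
    [6, 10, 6, 0, 0, 0, 0, 8, 8, 0, 2, 2, 0, 2, 2, 0, 0, 0, 0, 2, 8, 0, 8, 8],
    [4, 4, 4, 6, 2, 2, 2, 2, 2, 2, 0, 0, 2, 0, 0, 2, 2, 2, 2, 0, 2, 2, 2, 2],
    [4, 6, 6, 4, 2, 2, 2, 8, 8, 2, 0, 0, 2, 0, 0, 2, 2, 2, 2, 0, 8, 2, 8, 8],
    [6, 6, 4, 4, 0, 0, 0, 2, 2, 2, 0, 0, 2, 0, 0, 2, 0, 2, 2, 0, 2, 0, 2, 2],
    [0, 0, 0, 0, 0, 0, 0, 8, 8, 0, 0, 0, 0, 0, 0, 0, 0, 0, 0, 0, 8, 0, 8, 8]]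

/-- part of the data -/
def fiveResid0 : List (List ℤ) := [[0, 0, 0, 0, 0, 0, 0, 0, 0, 0, 0, 0, 0, 0, 0, 0, 0, 0, 0, 0, 0, 0, 0, 0],
    [2, 2, 0, 2, 2, 2, 2, 0, 0, 0, 0, 0, 0, 0, 0, 0, 2, 0, 0, 0, 0, 2, 0, 0],
    [0, 2, 2, 2, 0, 0, 0, 2, 2, 0, 0, 0, 0, 0, 0, 0, 0, 0, 0, 0, 2, 0, 2, 2],
    [2, 0, 2, 0, 2, 2, 2, 2, 2, 0, 0, 0, 0, 0, 0, 0, 2, 0, 0, 0, 2, 2, 2, 2],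
    [2, 0, 2, 2, 0, 0, 0, 0, 0, 2, 0, 0, 2, 0, 0, 2, 0, 2, 2, 0, 0, 0, 0, 0],
    [0, 2, 2, 0, 2, 2, 2, 0, 0, 2, 0, 0, 2, 0, 0, 2, 2, 2, 2, 0, 0, 2, 0, 0],
    [2, 2, 0, 0, 0, 0, 0, 2, 2, 2, 0, 0, 2, 0, 0, 2, 0, 2, 2, 0, 2, 0, 2, 2],
    [0, 0, 0, 2, 2, 2, 2, 2, 2, 2, 0, 0, 2, 0, 0, 2, 2, 2, 2, 0, 2, 2, 2, 2],
    [2, 2, 2, 0, 0, 0, 0, 0, 0, 0, 2, 2, 0, 2, 2, 0, 0, 0, 0, 2, 0, 0, 0, 0],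
    [0, 0, 2, 2, 2, 2, 2, 0, 0, 0, 2, 2, 0, 2, 2, 0, 2, 0, 0, 2, 0, 2, 0, 0],
    [2, 0, 0, 2, 0, 0, 0, 2, 2, 0, 2, 2, 0, 2, 2, 0, 0, 0, 0, 2, 2, 0, 2, 2],
    [0, 2, 0, 0, 2, 2, 2, 2, 2, 0, 2, 2, 0, 2, 2, 0, 2, 0, 0, 2, 2, 2, 2, 2],
    [0, 2, 0, 2, 0, 0, 0, 0, 0, 2, 2, 2, 2, 2, 2, 2, 0, 2, 2, 2, 0, 0, 0, 0],
    [2, 0, 0, 0, 2, 2, 2, 0, 0, 2, 2, 2, 2, 2, 2, 2, 2, 2, 2, 2, 0, 2, 0, 0],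
    [0, 0, 2, 0, 0, 0, 0, 2, 2, 2, 2, 2, 2, 2, 2, 2, 0, 2, 2, 2, 2, 0, 2, 2],
    [2, 2, 2, 2, 2, 2, 2, 2, 2, 2, 2, 2, 2, 2, 2, 2, 2, 2, 2, 2, 2, 2, 2, 2],
    [5, 1, 1, 1, 1, 1, 1, 1, 1, 1, 1, 1, 1, 1, 1, 1, 1, 1, 1, 1, 1, 1, 1, 1],
    [7, 3, 1, 3, 3, 3, 3, 1, 1, 1, 1, 1, 1, 1, 1, 1, 3, 1, 1, 1, 1, 3, 1, 1],
    [5, 3, 3, 3, 1, 1, 1, 3, 3, 1, 1, 1, 1, 1, 1, 1, 1, 1, 1, 1, 3, 1, 3, 3],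
    [7, 1, 3, 1, 3, 3, 3, 3, 3, 1, 1, 1, 1, 1, 1, 1, 3, 1, 1, 1, 3, 3, 3, 3],
    [7, 1, 3, 3, 1, 1, 1, 1, 1, 3, 1, 1, 3, 1, 1, 3, 1, 3, 3, 1, 1, 1, 1, 1],
    [5, 3, 3, 1, 3, 3, 3, 1, 1, 3, 1, 1, 3, 1, 1, 3, 3, 3, 3, 1, 1, 3, 1, 1],
    [7, 3, 1, 1, 1, 1, 1, 3, 3, 3, 1, 1, 3, 1, 1, 3, 1, 3, 3, 1, 3, 1, 3, 3],
    [5, 1, 1, 3, 3, 3, 3, 3, 3, 3, 1, 1, 3, 1, 1, 3, 3, 3, 3, 1, 3, 3, 3, 3],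
    [7, 3, 3, 1, 1, 1, 1, 1, 1, 1, 3, 3, 1, 3, 3, 1, 1, 1, 1, 3, 1, 1, 1, 1],
    [5, 1, 3, 3, 3, 3, 3, 1, 1, 1, 3, 3, 1, 3, 3, 1, 3, 1, 1, 3, 1, 3, 1, 1],
    [7, 1, 1, 3, 1, 1, 1, 3, 3, 1, 3, 3, 1, 3, 3, 1, 1, 1, 1, 3, 3, 1, 3, 3],
    [5, 3, 1, 1, 3, 3, 3, 3, 3, 1, 3, 3, 1, 3, 3, 1, 3, 1, 1, 3, 3, 3, 3, 3],
    [5, 3, 1, 3, 1, 1, 1, 1, 1, 3, 3, 3, 3, 3, 3, 3, 1, 3, 3, 3, 1, 1, 1, 1],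
    [7, 1, 1, 1, 3, 3, 3, 1, 1, 3, 3, 3, 3, 3, 3, 3, 3, 3, 3, 3, 1, 3, 1, 1],
    [5, 1, 3, 1, 1, 1, 1, 3, 3, 3, 3, 3, 3, 3, 3, 3, 1, 3, 3, 3, 3, 1, 3, 3],
    [7, 3, 3, 3, 3, 3, 3, 3, 3, 3, 3, 3, 3, 3, 3, 3, 3, 3, 3, 3, 3, 3, 3, 3]]

/-- part of the data -/
def fiveShort0 : List (List ℤ) := [[-2, -2, 0, -2, -2, -2, -2, 0, 0, 0, 0, 0, 0, 0, 0, 0, -2, 0, 0, 0, 0, -2, 0, 0],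
    [0, -2, -2, -2, 0, 0, 0, -2, -2, 0, 0, 0, 0, 0, 0, 0, 0, 0, 0, 0, -2, 0, -2, -2],
    [-2, 0, 2, 0, -2, -2, -2, 2, 2, 0, 0, 0, 0, 0, 0, 0, -2, 0, 0, 0, 2, -2, 2, 2],
    [0, -2, 0, -2, 0, 0, 0, 0, 0, 2, 2, 2, 2, 2, 2, 2, 0, 2, 2, 2, 0, 0, 0, 0],
    [-2, 0, -2, -2, 0, 0, 0, 0, 0, -2, 0, 0, -2, 0, 0, -2, 0, -2, -2, 0, 0, 0, 0, 0],
    [0, -2, 2, 0, -2, -2, -2, 0, 0, 2, 0, 0, 2, 0, 0, 2, -2, 2, 2, 0, 0, -2, 0, 0],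
    [-2, 0, 0, -2, 0, 0, 0, 2, 2, 0, 2, 2, 0, 2, 2, 0, 0, 0, 0, 2, 2, 0, 2, 2],
    [-2, 2, 0, 0, 0, 0, 0, 2, 2, -2, 0, 0, -2, 0, 0, -2, 0, -2, -2, 0, 2, 0, 2, 2],
    [0, 0, -2, -2, 2, 2, 2, 0, 0, 0, 2, 2, 0, 2, 2, 0, 2, 0, 0, 2, 0, 2, 0, 0],
    [-2, -2, -2, 4, 0, 0, 0, 0, 0, 0, 2, 2, 0, 2, 2, 0, 0, 0, 0, 2, 0, 0, 0, 0],
    [-2, -2, -2, -4, 0, 0, 0, 0, 0, 0, 2, 2, 0, 2, 2, 0, 0, 0, 0, 2, 0, 0, 0, 0],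
    [-2, -2, -2, 0, 0, 0, 0, 0, 0, 0, -2, -2, 0, -2, -2, 0, 0, 0, 0, -2, 0, 0, 0, 0],
    [0, 0, -2, 2, 2, 2, 2, 0, 0, 0, -2, -2, 0, -2, -2, 0, 2, 0, 0, -2, 0, 2, 0, 0],
    [-2, -2, 0, 0, 0, 0, 0, 2, 2, 2, 0, 0, 2, 0, 0, 2, 0, 2, 2, 0, 2, 0, 2, 2],
    [-2, 0, 0, 2, 0, 0, 0, 2, 2, 0, -2, -2, 0, -2, -2, 0, 0, 0, 0, -2, 2, 0, 2, 2],
    [0, -2, -2, 0, 2, 2, 2, 0, 0, 2, 0, 0, 2, 0, 0, 2, 2, 2, 2, 0, 0, 2, 0, 0],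
    [-2, 4, -2, -2, 0, 0, 0, 0, 0, 2, 0, 0, 2, 0, 0, 2, 0, 2, 2, 0, 0, 0, 0, 0],
    [-2, -4, -2, -2, 0, 0, 0, 0, 0, 2, 0, 0, 2, 0, 0, 2, 0, 2, 2, 0, 0, 0, 0, 0],
    [0, -2, 0, 2, 0, 0, 0, 0, 0, 2, -2, -2, 2, -2, -2, 2, 0, 2, 2, -2, 0, 0, 0, 0],
    [-2, 0, -2, 0, 2, 2, 2, 2, 2, 0, 0, 0, 0, 0, 0, 0, 2, 0, 0, 0, 2, 2, 2, 2],
    [-4, 2, 2, 2, 0, 0, 0, -2, -2, 0, 0, 0, 0, 0, 0, 0, 0, 0, 0, 0, -2, 0, -2, -2],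
    [-4, -2, -2, -2, 0, 0, 0, 2, 2, 0, 0, 0, 0, 0, 0, 0, 0, 0, 0, 0, 2, 0, 2, 2],
    [-2, -2, 4, -2, 2, 2, 2, 0, 0, 0, 0, 0, 0, 0, 0, 0, 2, 0, 0, 0, 0, 2, 0, 0],
    [-2, -2, -4, -2, 2, 2, 2, 0, 0, 0, 0, 0, 0, 0, 0, 0, 2, 0, 0, 0, 0, 2, 0, 0],
    [-4, -4, 0, 0, 0, 0, 0, 0, 0, 0, 0, 0, 0, 0, 0, 0, 0, 0, 0, 0, 0, 0, 0, 0],
    [-4, 4, 0, 0, 0, 0, 0, 0, 0, 0, 0, 0, 0, 0, 0, 0, 0, 0, 0, 0, 0, 0, 0, 0],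
    [-2, -2, 0, 2, 2, 2, 2, 0, 0, 0, 0, 0, 0, 0, 0, 0, 2, 0, 0, 0, 0, 2, 0, 0],
    [-4, -2, 2, 2, 0, 0, 0, 2, 2, 0, 0, 0, 0, 0, 0, 0, 0, 0, 0, 0, 2, 0, 2, 2],
    [-4, 2, -2, -2, 0, 0, 0, -2, -2, 0, 0, 0, 0, 0, 0, 0, 0, 0, 0, 0, -2, 0, -2, -2],
    [-2, -4, 2, 2, 0, 0, 0, 0, 0, 2, 0, 0, 2, 0, 0, 2, 0, 2, 2, 0, 0, 0, 0, 0],
    [-2, 4, 2, 2, 0, 0, 0, 0, 0, 2, 0, 0, 2, 0, 0, 2, 0, 2, 2, 0, 0, 0, 0, 0],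
    [0, 0, -2, 2, -2, -2, -2, 0, 0, 0, 2, 2, 0, 2, 2, 0, -2, 0, 0, 2, 0, -2, 0, 0]]

/-- part of the data -/
def fiveShort1 : List (List ℤ) := [[-2, 2, 0, 0, 0, 0, 0, -2, -2, 2, 0, 0, 2, 0, 0, 2, 0, 2, 2, 0, -2, 0, -2, -2],
    [-2, -2, 2, -4, 0, 0, 0, 0, 0, 0, -2, -2, 0, -2, -2, 0, 0, 0, 0, -2, 0, 0, 0, 0],
    [-2, -2, 2, 4, 0, 0, 0, 0, 0, 0, -2, -2, 0, -2, -2, 0, 0, 0, 0, -2, 0, 0, 0, 0],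
    [-2, -2, 2, 0, 0, 0, 0, 0, 0, 0, 2, 2, 0, 2, 2, 0, 0, 0, 0, 2, 0, 0, 0, 0],
    [0, 0, -2, -2, -2, -2, -2, 0, 0, 0, -2, -2, 0, -2, -2, 0, -2, 0, 0, -2, 0, -2, 0, 0],
    [-2, -2, 0, 0, 0, 0, 0, -2, -2, -2, 0, 0, -2, 0, 0, -2, 0, -2, -2, 0, -2, 0, -2, -2],
    [-2, 0, 2, 2, 0, 0, 0, 0, 0, -2, 0, 0, -2, 0, 0, -2, 0, -2, -2, 0, 0, 0, 0, 0],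
    [0, -2, 2, 2, 0, 0, 0, -2, -2, 0, 0, 0, 0, 0, 0, 0, 0, 0, 0, 0, -2, 0, -2, -2],
    [-2, -2, -4, 2, -2, -2, -2, 0, 0, 0, 0, 0, 0, 0, 0, 0, -2, 0, 0, 0, 0, -2, 0, 0],
    [-2, -2, 4, 2, -2, -2, -2, 0, 0, 0, 0, 0, 0, 0, 0, 0, -2, 0, 0, 0, 0, -2, 0, 0],
    [0, 0, -4, 4, 0, 0, 0, 0, 0, 0, 0, 0, 0, 0, 0, 0, 0, 0, 0, 0, 0, 0, 0, 0],
    [0, 0, -4, -4, 0, 0, 0, 0, 0, 0, 0, 0, 0, 0, 0, 0, 0, 0, 0, 0, 0, 0, 0, 0],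
    [0, -4, -4, 0, 0, 0, 0, 0, 0, 0, 0, 0, 0, 0, 0, 0, 0, 0, 0, 0, 0, 0, 0, 0],
    [0, -4, 4, 0, 0, 0, 0, 0, 0, 0, 0, 0, 0, 0, 0, 0, 0, 0, 0, 0, 0, 0, 0, 0],
    [-2, 2, 4, -2, -2, -2, -2, 0, 0, 0, 0, 0, 0, 0, 0, 0, -2, 0, 0, 0, 0, -2, 0, 0],
    [-2, 2, -4, -2, -2, -2, -2, 0, 0, 0, 0, 0, 0, 0, 0, 0, -2, 0, 0, 0, 0, -2, 0, 0],
    [0, -2, -2, 2, 0, 0, 0, 2, 2, 0, 0, 0, 0, 0, 0, 0, 0, 0, 0, 0, 2, 0, 2, 2],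
    [-2, 4, 2, -2, 0, 0, 0, 0, 0, -2, 0, 0, -2, 0, 0, -2, 0, -2, -2, 0, 0, 0, 0, 0],
    [-2, -4, 2, -2, 0, 0, 0, 0, 0, -2, 0, 0, -2, 0, 0, -2, 0, -2, -2, 0, 0, 0, 0, 0],
    [-2, 0, 0, 2, 0, 0, 0, -2, -2, 0, 2, 2, 0, 2, 2, 0, 0, 0, 0, 2, -2, 0, -2, -2],
    [0, -2, 2, 0, 2, 2, 2, 0, 0, -2, 0, 0, -2, 0, 0, -2, 2, -2, -2, 0, 0, 2, 0, 0],
    [-2, 2, 2, 4, 0, 0, 0, 0, 0, 0, 2, 2, 0, 2, 2, 0, 0, 0, 0, 2, 0, 0, 0, 0],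
    [-2, 2, 2, -4, 0, 0, 0, 0, 0, 0, 2, 2, 0, 2, 2, 0, 0, 0, 0, 2, 0, 0, 0, 0],
    [-2, 2, 2, 0, 0, 0, 0, 0, 0, 0, -2, -2, 0, -2, -2, 0, 0, 0, 0, -2, 0, 0, 0, 0],
    [-2, 0, 0, -2, 0, 0, 0, -2, -2, 0, -2, -2, 0, -2, -2, 0, 0, 0, 0, -2, -2, 0, -2, -2],
    [0, -2, -2, 0, -2, -2, -2, 0, 0, -2, 0, 0, -2, 0, 0, -2, -2, -2, -2, 0, 0, -2, 0, 0],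
    [-2, 0, 2, -2, 0, 0, 0, 0, 0, 2, 0, 0, 2, 0, 0, 2, 0, 2, 2, 0, 0, 0, 0, 0],
    [-4, -2, -2, 2, 0, 0, 0, -2, -2, 0, 0, 0, 0, 0, 0, 0, 0, 0, 0, 0, -2, 0, -2, -2],
    [-4, 2, 2, -2, 0, 0, 0, 2, 2, 0, 0, 0, 0, 0, 0, 0, 0, 0, 0, 0, 2, 0, 2, 2],
    [-2, 2, 0, -2, 2, 2, 2, 0, 0, 0, 0, 0, 0, 0, 0, 0, 2, 0, 0, 0, 0, 2, 0, 0],
    [-4, 0, 0, 4, 0, 0, 0, 0, 0, 0, 0, 0, 0, 0, 0, 0, 0, 0, 0, 0, 0, 0, 0, 0],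
    [-4, 0, 0, -4, 0, 0, 0, 0, 0, 0, 0, 0, 0, 0, 0, 0, 0, 0, 0, 0, 0, 0, 0, 0]]

/-- part of the data -/
def fiveShort2 : List (List ℤ) := [[-4, 0, 4, 0, 0, 0, 0, 0, 0, 0, 0, 0, 0, 0, 0, 0, 0, 0, 0, 0, 0, 0, 0, 0],
    [-4, 0, -4, 0, 0, 0, 0, 0, 0, 0, 0, 0, 0, 0, 0, 0, 0, 0, 0, 0, 0, 0, 0, 0],
    [-2, 2, 4, 2, 2, 2, 2, 0, 0, 0, 0, 0, 0, 0, 0, 0, 2, 0, 0, 0, 0, 2, 0, 0],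
    [-2, 2, -4, 2, 2, 2, 2, 0, 0, 0, 0, 0, 0, 0, 0, 0, 2, 0, 0, 0, 0, 2, 0, 0],
    [-4, -2, 2, -2, 0, 0, 0, -2, -2, 0, 0, 0, 0, 0, 0, 0, 0, 0, 0, 0, -2, 0, -2, -2],
    [-4, 2, -2, 2, 0, 0, 0, 2, 2, 0, 0, 0, 0, 0, 0, 0, 0, 0, 0, 0, 2, 0, 2, 2],
    [-2, 0, 2, 0, 2, 2, 2, -2, -2, 0, 0, 0, 0, 0, 0, 0, 2, 0, 0, 0, -2, 2, -2, -2],
    [0, -2, 0, 2, 0, 0, 0, 0, 0, -2, 2, 2, -2, 2, 2, -2, 0, -2, -2, 2, 0, 0, 0, 0],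
    [-2, 0, -2, 2, 0, 0, 0, 0, 0, 2, 0, 0, 2, 0, 0, 2, 0, 2, 2, 0, 0, 0, 0, 0],
    [-2, 2, -2, 4, 0, 0, 0, 0, 0, 0, -2, -2, 0, -2, -2, 0, 0, 0, 0, -2, 0, 0, 0, 0],
    [-2, 2, -2, -4, 0, 0, 0, 0, 0, 0, -2, -2, 0, -2, -2, 0, 0, 0, 0, -2, 0, 0, 0, 0],
    [-2, 2, -2, 0, 0, 0, 0, 0, 0, 0, 2, 2, 0, 2, 2, 0, 0, 0, 0, 2, 0, 0, 0, 0],
    [-2, 4, -2, 2, 0, 0, 0, 0, 0, -2, 0, 0, -2, 0, 0, -2, 0, -2, -2, 0, 0, 0, 0, 0],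
    [-2, -4, -2, 2, 0, 0, 0, 0, 0, -2, 0, 0, -2, 0, 0, -2, 0, -2, -2, 0, 0, 0, 0, 0],
    [-2, 0, -2, 0, -2, -2, -2, -2, -2, 0, 0, 0, 0, 0, 0, 0, -2, 0, 0, 0, -2, -2, -2, -2],
    [0, -2, 0, -2, 0, 0, 0, 0, 0, -2, -2, -2, -2, -2, -2, -2, 0, -2, -2, -2, 0, 0, 0, 0],
    [0, -2, 2, -2, 0, 0, 0, 2, 2, 0, 0, 0, 0, 0, 0, 0, 0, 0, 0, 0, 2, 0, 2, 2],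
    [-2, 2, 0, 2, -2, -2, -2, 0, 0, 0, 0, 0, 0, 0, 0, 0, -2, 0, 0, 0, 0, -2, 0, 0],
    [0, -4, 0, -4, 0, 0, 0, 0, 0, 0, 0, 0, 0, 0, 0, 0, 0, 0, 0, 0, 0, 0, 0, 0],
    [0, -4, 0, 4, 0, 0, 0, 0, 0, 0, 0, 0, 0, 0, 0, 0, 0, 0, 0, 0, 0, 0, 0, 0],
    [5, 1, 1, 1, 1, 1, 1, 1, 1, 1, 1, 1, 1, 1, 1, 1, 1, 1, 1, 1, 1, 1, 1, 1],
    [-3, 1, 1, 1, 1, 1, 1, 1, 1, 1, 1, 1, 1, 1, 1, 1, 1, 1, 1, 1, 1, 1, 1, 1],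
    [3, -1, 1, -1, -1, -1, -1, 1, 1, 1, 1, 1, 1, 1, 1, 1, -1, 1, 1, 1, 1, -1, 1, 1],
    [-5, -1, 1, -1, -1, -1, -1, 1, 1, 1, 1, 1, 1, 1, 1, 1, -1, 1, 1, 1, 1, -1, 1, 1],
    [5, -1, -1, -1, 1, 1, 1, -1, -1, 1, 1, 1, 1, 1, 1, 1, 1, 1, 1, 1, -1, 1, -1, -1],
    [-3, -1, -1, -1, 1, 1, 1, -1, -1, 1, 1, 1, 1, 1, 1, 1, 1, 1, 1, 1, -1, 1, -1, -1],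
    [3, -3, -1, -3, -1, -1, -1, -1, -1, 1, 1, 1, 1, 1, 1, 1, -1, 1, 1, 1, -1, -1, -1, -1],
    [3, 1, -1, -1, 1, 1, 1, 1, 1, -1, 1, 1, -1, 1, 1, -1, 1, -1, -1, 1, 1, 1, 1, 1],
    [-5, 1, -1, -1, 1, 1, 1, 1, 1, -1, 1, 1, -1, 1, 1, -1, 1, -1, -1, 1, 1, 1, 1, 1],
    [1, -1, -1, -3, -1, -1, -1, 1, 1, -1, 1, 1, -1, 1, 1, -1, -1, -1, -1, 1, 1, -1, 1, 1],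
    [1, -1, -1, 5, -1, -1, -1, 1, 1, -1, 1, 1, -1, 1, 1, -1, -1, -1, -1, 1, 1, -1, 1, 1],
    [3, -1, -3, -3, 1, 1, 1, -1, -1, -1, 1, 1, -1, 1, 1, -1, 1, -1, -1, 1, -1, 1, -1, -1]]

/-- part of the data -/
def fiveShort3 : List (List ℤ) := [[1, -3, -3, 3, -1, -1, -1, -1, -1, -1, 1, 1, -1, 1, 1, -1, -1, -1, -1, 1, -1, -1, -1, -1],
    [-3, 1, 1, -1, -1, -1, -1, -1, -1, -1, 1, 1, -1, 1, 1, -1, -1, -1, -1, 1, -1, -1, -1, -1],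
    [5, 1, 1, -1, -1, -1, -1, -1, -1, -1, 1, 1, -1, 1, 1, -1, -1, -1, -1, 1, -1, -1, -1, -1],
    [-1, 3, 1, 1, 1, 1, 1, -1, -1, -1, 1, 1, -1, 1, 1, -1, 1, -1, -1, 1, -1, 1, -1, -1],
    [-1, -5, 1, 1, 1, 1, 1, -1, -1, -1, 1, 1, -1, 1, 1, -1, 1, -1, -1, 1, -1, 1, -1, -1],
    [-3, 3, 3, 1, -1, -1, -1, 1, 1, -1, 1, 1, -1, 1, 1, -1, -1, -1, -1, 1, 1, -1, 1, 1],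
    [-1, -3, 3, 3, 1, 1, 1, 1, 1, -1, 1, 1, -1, 1, 1, -1, 1, -1, -1, 1, 1, 1, 1, 1],
    [-1, 1, 3, 1, -1, -1, -1, -1, -1, 1, 1, 1, 1, 1, 1, 1, -1, 1, 1, 1, -1, -1, -1, -1],
    [-1, 1, -5, 1, -1, -1, -1, -1, -1, 1, 1, 1, 1, 1, 1, 1, -1, 1, 1, 1, -1, -1, -1, -1],
    [1, 3, 3, 3, 1, 1, 1, -1, -1, 1, 1, 1, 1, 1, 1, 1, 1, 1, 1, 1, -1, 1, -1, -1],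
    [-1, 3, -3, 3, -1, -1, -1, 1, 1, 1, 1, 1, 1, 1, 1, 1, -1, 1, 1, 1, 1, -1, 1, 1],
    [1, -3, -3, -3, 1, 1, 1, 1, 1, 1, 1, 1, 1, 1, 1, 1, 1, 1, 1, 1, 1, 1, 1, 1],
    [1, -3, 1, 1, 1, 1, 1, 1, 1, 1, 1, 1, 1, 1, 1, 1, 1, 1, 1, 1, 1, 1, 1, 1],
    [1, 5, 1, 1, 1, 1, 1, 1, 1, 1, 1, 1, 1, 1, 1, 1, 1, 1, 1, 1, 1, 1, 1, 1],
    [-1, -5, 1, -1, -1, -1, -1, 1, 1, 1, 1, 1, 1, 1, 1, 1, -1, 1, 1, 1, 1, -1, 1, 1],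
    [-1, 3, 1, -1, -1, -1, -1, 1, 1, 1, 1, 1, 1, 1, 1, 1, -1, 1, 1, 1, 1, -1, 1, 1],
    [1, -5, -1, -1, 1, 1, 1, -1, -1, 1, 1, 1, 1, 1, 1, 1, 1, 1, 1, 1, -1, 1, -1, -1],
    [1, 3, -1, -1, 1, 1, 1, -1, -1, 1, 1, 1, 1, 1, 1, 1, 1, 1, 1, 1, -1, 1, -1, -1],
    [-1, 1, -1, 5, -1, -1, -1, -1, -1, 1, 1, 1, 1, 1, 1, 1, -1, 1, 1, 1, -1, -1, -1, -1],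
    [-1, 1, -1, -3, -1, -1, -1, -1, -1, 1, 1, 1, 1, 1, 1, 1, -1, 1, 1, 1, -1, -1, -1, -1],
    [-1, -3, -1, -1, 1, 1, 1, 1, 1, -1, 1, 1, -1, 1, 1, -1, 1, -1, -1, 1, 1, 1, 1, 1],
    [-1, 5, -1, -1, 1, 1, 1, 1, 1, -1, 1, 1, -1, 1, 1, -1, 1, -1, -1, 1, 1, 1, 1, 1],
    [-3, 3, -1, -3, -1, -1, -1, 1, 1, -1, 1, 1, -1, 1, 1, -1, -1, -1, -1, 1, 1, -1, 1, 1],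
    [-1, 3, -3, -3, 1, 1, 1, -1, -1, -1, 1, 1, -1, 1, 1, -1, 1, -1, -1, 1, -1, 1, -1, -1],
    [-3, 1, -3, 3, -1, -1, -1, -1, -1, -1, 1, 1, -1, 1, 1, -1, -1, -1, -1, 1, -1, -1, -1, -1],
    [1, 5, 1, -1, -1, -1, -1, -1, -1, -1, 1, 1, -1, 1, 1, -1, -1, -1, -1, 1, -1, -1, -1, -1],
    [1, -3, 1, -1, -1, -1, -1, -1, -1, -1, 1, 1, -1, 1, 1, -1, -1, -1, -1, 1, -1, -1, -1, -1],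
    [-5, -1, 1, 1, 1, 1, 1, -1, -1, -1, 1, 1, -1, 1, 1, -1, 1, -1, -1, 1, -1, 1, -1, -1],
    [3, -1, 1, 1, 1, 1, 1, -1, -1, -1, 1, 1, -1, 1, 1, -1, 1, -1, -1, 1, -1, 1, -1, -1],
    [1, -1, -5, 1, -1, -1, -1, 1, 1, -1, 1, 1, -1, 1, 1, -1, -1, -1, -1, 1, 1, -1, 1, 1],
    [1, -1, 3, 1, -1, -1, -1, 1, 1, -1, 1, 1, -1, 1, 1, -1, -1, -1, -1, 1, 1, -1, 1, 1],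
    [3, 1, 3, 3, 1, 1, 1, 1, 1, -1, 1, 1, -1, 1, 1, -1, 1, -1, -1, 1, 1, 1, 1, 1]]

/-- part of the data -/
def fiveShort4 : List (List ℤ) := [[3, -3, 3, 1, -1, -1, -1, -1, -1, 1, 1, 1, 1, 1, 1, 1, -1, 1, 1, 1, -1, -1, -1, -1],
    [-3, -1, 3, 3, 1, 1, 1, -1, -1, 1, 1, 1, 1, 1, 1, 1, 1, 1, 1, 1, -1, 1, -1, -1],
    [3, -1, -3, 3, -1, -1, -1, 1, 1, 1, 1, 1, 1, 1, 1, 1, -1, 1, 1, 1, 1, -1, 1, 1],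
    [-3, 1, -3, -3, 1, 1, 1, 1, 1, 1, 1, 1, 1, 1, 1, 1, 1, 1, 1, 1, 1, 1, 1, 1],
    [-3, -3, -3, 1, 1, 1, 1, 1, 1, 1, 1, 1, 1, 1, 1, 1, 1, 1, 1, 1, 1, 1, 1, 1],
    [3, 3, -3, -1, -1, -1, -1, 1, 1, 1, 1, 1, 1, 1, 1, 1, -1, 1, 1, 1, 1, -1, 1, 1],
    [-3, 3, 3, -1, 1, 1, 1, -1, -1, 1, 1, 1, 1, 1, 1, 1, 1, 1, 1, 1, -1, 1, -1, -1],
    [3, 1, 3, -3, -1, -1, -1, -1, -1, 1, 1, 1, 1, 1, 1, 1, -1, 1, 1, 1, -1, -1, -1, -1],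
    [3, -3, 3, -1, 1, 1, 1, 1, 1, -1, 1, 1, -1, 1, 1, -1, 1, -1, -1, 1, 1, 1, 1, 1],
    [1, 3, 3, -3, -1, -1, -1, 1, 1, -1, 1, 1, -1, 1, 1, -1, -1, -1, -1, 1, 1, -1, 1, 1],
    [3, 3, 1, -3, 1, 1, 1, -1, -1, -1, 1, 1, -1, 1, 1, -1, 1, -1, -1, 1, -1, 1, -1, -1],
    [1, 1, 1, -5, -1, -1, -1, -1, -1, -1, 1, 1, -1, 1, 1, -1, -1, -1, -1, 1, -1, -1, -1, -1],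
    [1, 1, 1, 3, -1, -1, -1, -1, -1, -1, 1, 1, -1, 1, 1, -1, -1, -1, -1, 1, -1, -1, -1, -1],
    [-3, -3, -3, -1, -1, -1, -1, -1, -1, -1, 1, 1, -1, 1, 1, -1, -1, -1, -1, 1, -1, -1, -1, -1],
    [-1, -1, -3, 1, 1, 1, 1, -1, -1, -1, 1, 1, -1, 1, 1, -1, 1, -1, -1, 1, -1, 1, -1, -1],
    [-1, -1, 5, 1, 1, 1, 1, -1, -1, -1, 1, 1, -1, 1, 1, -1, 1, -1, -1, 1, -1, 1, -1, -1],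
    [-3, -1, -1, 1, -1, -1, -1, 1, 1, -1, 1, 1, -1, 1, 1, -1, -1, -1, -1, 1, 1, -1, 1, 1],
    [5, -1, -1, 1, -1, -1, -1, 1, 1, -1, 1, 1, -1, 1, 1, -1, -1, -1, -1, 1, 1, -1, 1, 1],
    [-1, 1, -1, 3, 1, 1, 1, 1, 1, -1, 1, 1, -1, 1, 1, -1, 1, -1, -1, 1, 1, 1, 1, 1],
    [-1, 1, -1, -5, 1, 1, 1, 1, 1, -1, 1, 1, -1, 1, 1, -1, 1, -1, -1, 1, 1, 1, 1, 1],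
    [-1, -3, -1, 1, -1, -1, -1, -1, -1, 1, 1, 1, 1, 1, 1, 1, -1, 1, 1, 1, -1, -1, -1, -1],
    [-1, 5, -1, 1, -1, -1, -1, -1, -1, 1, 1, 1, 1, 1, 1, 1, -1, 1, 1, 1, -1, -1, -1, -1],
    [1, -1, -1, 3, 1, 1, 1, -1, -1, 1, 1, 1, 1, 1, 1, 1, 1, 1, 1, 1, -1, 1, -1, -1],
    [1, -1, -1, -5, 1, 1, 1, -1, -1, 1, 1, 1, 1, 1, 1, 1, 1, 1, 1, 1, -1, 1, -1, -1],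
    [-1, -1, 1, 3, -1, -1, -1, 1, 1, 1, 1, 1, 1, 1, 1, 1, -1, 1, 1, 1, 1, -1, 1, 1],
    [-1, -1, 1, -5, -1, -1, -1, 1, 1, 1, 1, 1, 1, 1, 1, 1, -1, 1, 1, 1, 1, -1, 1, 1],
    [1, 1, 1, 5, 1, 1, 1, 1, 1, 1, 1, 1, 1, 1, 1, 1, 1, 1, 1, 1, 1, 1, 1, 1],
    [1, 1, 1, -3, 1, 1, 1, 1, 1, 1, 1, 1, 1, 1, 1, 1, 1, 1, 1, 1, 1, 1, 1, 1],
    [1, 1, 5, 1, 1, 1, 1, 1, 1, 1, 1, 1, 1, 1, 1, 1, 1, 1, 1, 1, 1, 1, 1, 1],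
    [1, 1, -3, 1, 1, 1, 1, 1, 1, 1, 1, 1, 1, 1, 1, 1, 1, 1, 1, 1, 1, 1, 1, 1],
    [-1, -1, 5, -1, -1, -1, -1, 1, 1, 1, 1, 1, 1, 1, 1, 1, -1, 1, 1, 1, 1, -1, 1, 1],
    [-1, -1, -3, -1, -1, -1, -1, 1, 1, 1, 1, 1, 1, 1, 1, 1, -1, 1, 1, 1, 1, -1, 1, 1]]

/-- part of the data -/
def fiveShort5 : List (List ℤ) := [[1, -1, 3, -1, 1, 1, 1, -1, -1, 1, 1, 1, 1, 1, 1, 1, 1, 1, 1, 1, -1, 1, -1, -1],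
    [1, -1, -5, -1, 1, 1, 1, -1, -1, 1, 1, 1, 1, 1, 1, 1, 1, 1, 1, 1, -1, 1, -1, -1],
    [-1, -3, 3, -3, -1, -1, -1, -1, -1, 1, 1, 1, 1, 1, 1, 1, -1, 1, 1, 1, -1, -1, -1, -1],
    [-1, 1, 3, -1, 1, 1, 1, 1, 1, -1, 1, 1, -1, 1, 1, -1, 1, -1, -1, 1, 1, 1, 1, 1],
    [-1, 1, -5, -1, 1, 1, 1, 1, 1, -1, 1, 1, -1, 1, 1, -1, 1, -1, -1, 1, 1, 1, 1, 1],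
    [-3, -1, 3, -3, -1, -1, -1, 1, 1, -1, 1, 1, -1, 1, 1, -1, -1, -1, -1, 1, 1, -1, 1, 1],
    [-1, -1, 1, -3, 1, 1, 1, -1, -1, -1, 1, 1, -1, 1, 1, -1, 1, -1, -1, 1, -1, 1, -1, -1],
    [-1, -1, 1, 5, 1, 1, 1, -1, -1, -1, 1, 1, -1, 1, 1, -1, 1, -1, -1, 1, -1, 1, -1, -1],
    [-3, -3, 1, 3, -1, -1, -1, -1, -1, -1, 1, 1, -1, 1, 1, -1, -1, -1, -1, 1, -1, -1, -1, -1],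
    [1, 1, -3, -1, -1, -1, -1, -1, -1, -1, 1, 1, -1, 1, 1, -1, -1, -1, -1, 1, -1, -1, -1, -1],
    [1, 1, 5, -1, -1, -1, -1, -1, -1, -1, 1, 1, -1, 1, 1, -1, -1, -1, -1, 1, -1, -1, -1, -1],
    [3, 3, -3, 1, 1, 1, 1, -1, -1, -1, 1, 1, -1, 1, 1, -1, 1, -1, -1, 1, -1, 1, -1, -1],
    [1, 3, -1, 1, -1, -1, -1, 1, 1, -1, 1, 1, -1, 1, 1, -1, -1, -1, -1, 1, 1, -1, 1, 1],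
    [1, -5, -1, 1, -1, -1, -1, 1, 1, -1, 1, 1, -1, 1, 1, -1, -1, -1, -1, 1, 1, -1, 1, 1],
    [3, -3, -1, 3, 1, 1, 1, 1, 1, -1, 1, 1, -1, 1, 1, -1, 1, -1, -1, 1, 1, 1, 1, 1],
    [3, 1, -1, 1, -1, -1, -1, -1, -1, 1, 1, 1, 1, 1, 1, 1, -1, 1, 1, 1, -1, -1, -1, -1],
    [-5, 1, -1, 1, -1, -1, -1, -1, -1, 1, 1, 1, 1, 1, 1, 1, -1, 1, 1, 1, -1, -1, -1, -1],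
    [-3, 3, -1, 3, 1, 1, 1, -1, -1, 1, 1, 1, 1, 1, 1, 1, 1, 1, 1, 1, -1, 1, -1, -1],
    [3, 3, 1, 3, -1, -1, -1, 1, 1, 1, 1, 1, 1, 1, 1, 1, -1, 1, 1, 1, 1, -1, 1, 1],
    [-3, -3, 1, -3, 1, 1, 1, 1, 1, 1, 1, 1, 1, 1, 1, 1, 1, 1, 1, 1, 1, 1, 1, 1]]

/-- part of the data -/
def fiveTrace0x0 : List (List (List ℤ)) := [[[-2, -6, 0, -2, 2, 2, 2, 0, 0, 0, 0, 0, 0, 0, 0, 0, 2, 0, 0, 0, 0, 2, 0, 0],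
      [2, 2, -2, 2, 0, 0, 0, 0, 2, 0, 0, 0, 0, 0, 0, -2, 2, 0, 0, -6, 0, 0, 0, 0],
      [2, -2, -2, -2, 0, 0, 0, 0, -2, 0, 0, 0, 0, 0, 0, 2, -2, 0, 0, 6, 0, 0, 0, 0],
      [4, 0, 0, 0, 0, 0, 0, 0, 4, 0, 0, 0, 0, 0, 0, 0, 4, 0, 0, -4, 0, 0, 0, 0],
      [-4, 4, 4, 4, 0, 0, 0, 0, 0, 0, 0, 0, 0, 0, 0, 0, 0, 0, 0, 0, 0, 0, 0, 0],
      [-4, 4, 4, 4, 0, 0, 0, 0, 0, 0, 0, 0, 0, 0, 0, 0, 0, 0, 0, 0, 0, 0, 0, 0],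
      [-8, 0, 0, 0, 0, 0, 0, 0, 0, 0, 0, 0, 0, 0, 0, 0, 0, 0, 0, 0, 0, 0, 0, 0],
      [8, 0, 0, 0, 0, 0, 0, 0, 0, 0, 0, 0, 0, 0, 0, 0, 0, 0, 0, 0, 0, 0, 0, 0],
      [8, 0, 0, 0, 0, 0, 0, 0, 0, 0, 0, 0, 0, 0, 0, 0, 0, 0, 0, 0, 0, 0, 0, 0]],
    [[-6, -2, 0, 2, -2, -2, -2, 0, 0, 0, 0, 0, 0, 0, 0, 0, -2, 0, 0, 0, 0, -2, 0, 0],
      [-2, -2, 2, -2, 0, 0, 0, 0, -2, 0, 0, 0, 0, 0, 0, -6, -2, 0, 0, -2, 0, 0, 0, 0],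
      [-2, 2, 2, 2, 0, 0, 0, 0, 2, 0, 0, 0, 0, 0, 0, 6, 2, 0, 0, 2, 0, 0, 0, 0],
      [-4, 0, 0, 0, 0, 0, 0, 0, 4, 0, 0, 0, 0, 0, 0, 0, 4, 0, 0, 4, 0, 0, 0, 0],
      [4, -4, 4, 4, 0, 0, 0, 0, 0, 0, 0, 0, 0, 0, 0, 0, 0, 0, 0, 0, 0, 0, 0, 0],
      [4, -4, 4, 4, 0, 0, 0, 0, 0, 0, 0, 0, 0, 0, 0, 0, 0, 0, 0, 0, 0, 0, 0, 0],
      [0, -8, 0, 0, 0, 0, 0, 0, 0, 0, 0, 0, 0, 0, 0, 0, 0, 0, 0, 0, 0, 0, 0, 0],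
      [0, 8, 0, 0, 0, 0, 0, 0, 0, 0, 0, 0, 0, 0, 0, 0, 0, 0, 0, 0, 0, 0, 0, 0],
      [0, 8, 0, 0, 0, 0, 0, 0, 0, 0, 0, 0, 0, 0, 0, 0, 0, 0, 0, 0, 0, 0, 0, 0]],
    [[0, 0, -2, 0, 0, 0, 0, 2, 2, -2, 2, 2, -2, 2, 2, -2, 0, -2, -2, 2, 2, 0, 2, 2],
      [0, 0, 0, 0, -2, -2, 2, 2, 0, -2, 2, 2, 2, -2, 2, 0, 0, -2, 2, 0, 2, 2, 2, -2],
      [0, 0, 0, 0, -2, -2, 2, -2, 0, 2, -2, -2, 2, -2, 2, 0, 0, -2, -2, 0, 2, -2, 2, -2],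
      [0, 0, 0, 0, 0, 0, 0, 0, 0, 0, 0, 4, -4, 0, -4, 0, 0, 0, 0, 0, -4, 0, 0, 0],
      [0, 0, 0, 0, 0, 0, -4, 0, 0, 4, 0, -4, 0, 0, 0, 0, 0, 0, 0, 0, 0, 0, -4, 0],
      [0, 0, 0, 0, 0, 0, 4, 0, 0, 4, 0, 4, 0, 0, 0, 0, 0, 0, 0, 0, 0, 0, -4, 0],
      [0, 0, 0, 0, 0, 0, 0, 0, 0, 0, 0, 0, 0, 0, 0, 0, 0, 0, 0, 0, 0, 0, 8, 0],
      [0, 0, 0, 0, 0, 0, 0, 0, 0, 0, 0, 0, 0, 0, 0, 0, 0, 0, 0, 0, 0, 0, 8, 0],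
      [0, 0, 8, 0, 0, 0, 0, 0, 0, 0, 0, 0, 0, 0, 0, 0, 0, 0, 0, 0, 0, 0, 0, 0]],
    [[2, -2, 0, -6, -2, -2, -2, 0, 0, 0, 0, 0, 0, 0, 0, 0, -2, 0, 0, 0, 0, -2, 0, 0],
      [-2, -2, -6, -2, 0, 0, 0, 0, -2, 0, 0, 0, 0, 0, 0, 2, -2, 0, 0, -2, 0, 0, 0, 0],
      [-2, 2, -6, 2, 0, 0, 0, 0, 2, 0, 0, 0, 0, 0, 0, -2, 2, 0, 0, 2, 0, 0, 0, 0],
      [0, 4, -4, 4, 0, 0, 0, 0, 0, 0, 0, 0, 0, 0, 0, 4, 0, 0, 0, 0, 0, 0, 0, 0],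
      [0, 0, 0, 0, 0, 0, 0, 0, 0, 0, 0, 0, 0, -4, 0, 0, 0, 0, 4, 0, 4, 4, 0, 0],
      [0, 0, 0, 0, 0, 0, 0, 0, 0, 0, 0, 0, 0, 4, 0, 0, 0, 0, -4, 0, 4, 4, 0, 0],
      [0, 0, 0, 0, 0, 0, 0, 0, 0, 0, 0, 0, 0, 0, 0, 0, 0, 0, 8, 0, 0, 0, 0, 0],
      [0, 0, 0, 0, 0, 0, 0, 0, 0, 0, 0, 0, 0, 0, 0, 0, 0, 0, 8, 0, 0, 0, 0, 0],
      [0, 0, 0, 8, 0, 0, 0, 0, 0, 0, 0, 0, 0, 0, 0, 0, 0, 0, 0, 0, 0, 0, 0, 0]],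
    [[-2, 2, 0, -2, -6, 2, 2, 0, 0, 0, 0, 0, 0, 0, 0, 0, 2, 0, 0, 0, 0, 2, 0, 0],
      [2, 2, -2, 2, 0, 0, 0, 0, -6, 0, 0, 0, 0, 0, 0, -2, 2, 0, 0, 2, 0, 0, 0, 0],
      [2, -2, -2, -2, 0, 0, 0, 0, 6, 0, 0, 0, 0, 0, 0, 2, -2, 0, 0, -2, 0, 0, 0, 0],
      [4, 0, 0, 0, 0, 0, 0, 0, -4, 0, 0, 0, 0, 0, 0, 0, 4, 0, 0, 4, 0, 0, 0, 0],
      [4, 4, -4, 4, 0, 0, 0, 0, 0, 0, 0, 0, 0, 0, 0, 0, 0, 0, 0, 0, 0, 0, 0, 0],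
      [4, 4, -4, 4, 0, 0, 0, 0, 0, 0, 0, 0, 0, 0, 0, 0, 0, 0, 0, 0, 0, 0, 0, 0],
      [0, 0, -8, 0, 0, 0, 0, 0, 0, 0, 0, 0, 0, 0, 0, 0, 0, 0, 0, 0, 0, 0, 0, 0],
      [0, 0, 8, 0, 0, 0, 0, 0, 0, 0, 0, 0, 0, 0, 0, 0, 0, 0, 0, 0, 0, 0, 0, 0],
      [0, 0, 0, 0, 8, 0, 0, 0, 0, 0, 0, 0, 0, 0, 0, 0, 0, 0, 0, 0, 0, 0, 0, 0]],
    [[-2, 2, 0, -2, 2, -6, 2, 0, 0, 0, 0, 0, 0, 0, 0, 0, 2, 0, 0, 0, 0, 2, 0, 0],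
      [2, 2, -2, -6, 0, 0, 0, 0, 2, 0, 0, 0, 0, 0, 0, -2, 2, 0, 0, 2, 0, 0, 0, 0],
      [2, -2, -2, 6, 0, 0, 0, 0, -2, 0, 0, 0, 0, 0, 0, 2, -2, 0, 0, -2, 0, 0, 0, 0],
      [0, -4, -4, 4, 0, 0, 0, 0, 0, 0, 0, 0, 0, 0, 0, -4, 0, 0, 0, 0, 0, 0, 0, 0],
      [0, 0, 0, 0, 0, 0, 0, 0, 0, 0, 0, 0, 0, -4, 0, 0, 0, 0, -4, 0, 4, -4, 0, 0],
      [0, 0, 0, 0, 0, 0, 0, 0, 0, 0, 0, 0, 0, 4, 0, 0, 0, 0, 4, 0, 4, -4, 0, 0],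
      [0, 0, 0, 0, 0, 0, 0, 0, 0, 0, 0, 0, 0, 0, 0, 0, 0, 0, 0, 0, 0, 8, 0, 0],
      [0, 0, 0, 0, 0, 0, 0, 0, 0, 0, 0, 0, 0, 0, 0, 0, 0, 0, 0, 0, 0, 8, 0, 0],
      [0, 0, 0, 0, 0, 8, 0, 0, 0, 0, 0, 0, 0, 0, 0, 0, 0, 0, 0, 0, 0, 0, 0, 0]],
    [[-2, 2, 0, -2, 2, 2, -6, 0, 0, 0, 0, 0, 0, 0, 0, 0, 2, 0, 0, 0, 0, 2, 0, 0],
      [-6, 2, -2, 2, 0, 0, 0, 0, 2, 0, 0, 0, 0, 0, 0, -2, 2, 0, 0, 2, 0, 0, 0, 0],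
      [-6, -2, -2, -2, 0, 0, 0, 0, -2, 0, 0, 0, 0, 0, 0, 2, -2, 0, 0, -2, 0, 0, 0, 0],
      [0, 4, 4, 4, 0, 0, 0, 0, 0, 0, 0, 0, 0, 0, 0, -4, 0, 0, 0, 0, 0, 0, 0, 0],
      [0, 0, 0, 0, 0, 0, 0, 0, 0, 0, 0, 0, 0, 4, 0, 0, 0, 0, -4, 0, 4, 4, 0, 0],
      [0, 0, 0, 0, 0, 0, 0, 0, 0, 0, 0, 0, 0, -4, 0, 0, 0, 0, 4, 0, 4, 4, 0, 0],
      [0, 0, 0, 0, 0, 0, 0, 0, 0, 0, 0, 0, 0, 8, 0, 0, 0, 0, 0, 0, 0, 0, 0, 0],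
      [0, 0, 0, 0, 0, 0, 0, 0, 0, 0, 0, 0, 0, 8, 0, 0, 0, 0, 0, 0, 0, 0, 0, 0],
      [0, 0, 0, 0, 0, 0, 8, 0, 0, 0, 0, 0, 0, 0, 0, 0, 0, 0, 0, 0, 0, 0, 0, 0]],
    [[0, 0, -2, 0, 0, 0, 0, 2, -2, 2, 2, 2, -2, -2, -2, 2, 0, 2, 2, 2, 2, 0, -2, 2],
      [0, 0, 0, 0, 2, 2, -2, 2, 0, -2, 2, -2, -2, 2, 2, 0, 0, 2, 2, 0, 2, -2, 2, -2],
      [0, 0, 0, 0, 2, 2, -2, -2, 0, 2, -2, 2, -2, 2, 2, 0, 0, 2, -2, 0, 2, 2, 2, -2],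
      [0, 0, 0, 0, -4, 0, 4, 0, 0, 0, 0, 0, 0, 0, 0, 0, 0, 0, 4, 0, 0, 0, 0, 4],
      [0, 0, 0, 0, 4, 0, 0, -4, 0, 0, 4, 0, 4, 0, 0, 0, 0, 0, 0, 0, 0, 0, 0, 0],
      [0, 0, 0, 0, -4, 0, 0, 4, 0, 0, -4, 0, -4, 0, 0, 0, 0, 0, 0, 0, 0, 0, 0, 0],
      [0, 0, 0, 0, 0, 0, 0, -8, 0, 0, 0, 0, 0, 0, 0, 0, 0, 0, 0, 0, 0, 0, 0, 0],
      [0, 0, 0, 0, 0, 0, 0, 8, 0, 0, 0, 0, 0, 0, 0, 0, 0, 0, 0, 0, 0, 0, 0, 0],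
      [0, 0, 0, 0, 0, 0, 0, 8, 0, 0, 0, 0, 0, 0, 0, 0, 0, 0, 0, 0, 0, 0, 0, 0]]]

/-- part of the data -/
def fiveTrace0x1 : List (List (List ℤ)) := [[[0, 0, -2, 0, 0, 0, 0, -2, 2, 2, 2, -2, 2, -2, 2, -2, 0, 2, 2, 2, 2, 0, 2, -2],
      [0, 0, 0, 0, 2, -2, -2, -2, 0, 2, 2, 2, 2, 2, -2, 0, 0, 2, 2, 0, -2, 2, 2, -2],
      [0, 0, 0, 0, 2, -2, -2, 2, 0, -2, -2, -2, 2, 2, -2, 0, 0, 2, -2, 0, -2, -2, 2, -2],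
      [0, 0, 0, 0, 0, 0, 0, 0, 0, 0, 4, 0, 0, -4, 0, 0, 0, -4, 0, 0, 0, 0, -4, 0],
      [0, 0, 0, 0, 0, 4, 0, 0, 0, 0, 0, 0, 0, 0, -4, 0, 0, -4, 0, 0, 0, 0, 0, -4],
      [0, 0, 0, 0, 0, 4, 0, 0, 0, 0, 0, 0, 0, 0, 4, 0, 0, 4, 0, 0, 0, 0, 0, -4],
      [0, 0, 0, 0, 0, 0, 0, 0, 0, 0, 0, 0, 0, 0, 0, 0, 0, 0, 0, 0, 0, 0, 0, 8],
      [0, 0, 0, 0, 0, 0, 0, 0, 0, 0, 0, 0, 0, 0, 0, 0, 0, 0, 0, 0, 0, 0, 0, 8],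
      [0, 0, 0, 0, 0, 0, 0, 0, 8, 0, 0, 0, 0, 0, 0, 0, 0, 0, 0, 0, 0, 0, 0, 0]],
    [[0, 0, 2, 0, 0, 0, 0, 2, 2, 2, 2, -2, 2, 2, -2, -2, 0, -2, 2, -2, 2, 0, -2, 2],
      [0, 0, 0, 0, 2, -2, 2, 2, 0, 2, 2, 2, -2, 2, -2, 0, 0, -2, 2, 0, 2, -2, -2, 2],
      [0, 0, 0, 0, 2, -2, 2, -2, 0, -2, -2, -2, -2, 2, -2, 0, 0, -2, -2, 0, 2, 2, -2, 2],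
      [0, 0, 0, 0, -4, 0, -4, 0, 0, 0, 0, 0, 0, 0, 0, 0, 0, 0, 4, 0, 0, 0, 0, -4],
      [0, 0, 0, 0, -4, 0, 0, -4, 0, 0, 4, 0, -4, 0, 0, 0, 0, 0, 0, 0, 0, 0, 0, 0],
      [0, 0, 0, 0, 4, 0, 0, 4, 0, 0, -4, 0, 4, 0, 0, 0, 0, 0, 0, 0, 0, 0, 0, 0],
      [0, 0, 0, 0, 0, 0, 0, 0, 0, 0, 8, 0, 0, 0, 0, 0, 0, 0, 0, 0, 0, 0, 0, 0],
      [0, 0, 0, 0, 0, 0, 0, 0, 0, 0, 8, 0, 0, 0, 0, 0, 0, 0, 0, 0, 0, 0, 0, 0],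
      [0, 0, 0, 0, 0, 0, 0, 0, 0, 8, 0, 0, 0, 0, 0, 0, 0, 0, 0, 0, 0, 0, 0, 0]],
    [[0, 0, 2, 0, 0, 0, 0, -2, -2, -2, -2, 2, 2, 2, 2, -2, 0, 2, 2, 2, 2, 0, -2, 2],
      [0, 0, 0, 0, -2, -2, 2, -2, 0, 2, 2, -2, -2, 2, 2, 0, 0, 2, -2, 0, 2, 2, 2, 2],
      [0, 0, 0, 0, -2, -2, 2, 2, 0, -2, -2, 2, -2, 2, 2, 0, 0, 2, 2, 0, 2, -2, 2, 2],
      [0, 0, 0, 0, 0, 4, 0, -4, 0, 4, 0, 0, 0, 0, 0, 0, 0, 0, 0, 0, 0, 4, 0, 0],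
      [0, 0, 0, 0, 0, 0, 0, 0, -4, 0, 0, 0, 0, 0, 0, 4, 4, 0, 0, 4, 0, 0, 0, 0],
      [0, 0, 0, 0, 0, 0, 0, 0, 4, 0, 0, 0, 0, 0, 0, -4, 4, 0, 0, 4, 0, 0, 0, 0],
      [0, 0, 0, 0, 0, 0, 0, 0, 0, 0, 0, 0, 0, 0, 0, 8, 0, 0, 0, 0, 0, 0, 0, 0],
      [0, 0, 0, 0, 0, 0, 0, 0, 0, 0, 0, 0, 0, 0, 0, 8, 0, 0, 0, 0, 0, 0, 0, 0],
      [0, 0, 0, 0, 0, 0, 0, 0, 0, 0, 8, 0, 0, 0, 0, 0, 0, 0, 0, 0, 0, 0, 0, 0]],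
    [[0, 0, 2, 0, 0, 0, 0, -2, 2, 2, 2, -2, -2, 2, 2, 2, 0, 2, -2, 2, -2, 0, -2, 2],
      [0, 0, 0, 0, 2, 2, 2, -2, 0, -2, -2, 2, -2, -2, -2, 0, 0, 2, 2, 0, 2, 2, 2, 2],
      [0, 0, 0, 0, 2, 2, 2, 2, 0, 2, 2, -2, -2, -2, -2, 0, 0, 2, -2, 0, 2, -2, 2, 2],
      [0, 0, 0, 0, 0, 0, 0, 0, 0, 0, 0, 4, 4, 0, 4, 0, 0, 0, 0, 0, -4, 0, 0, 0],
      [0, 0, 0, 0, 0, 0, 4, 0, 0, 4, 0, 4, 0, 0, 0, 0, 0, 0, 0, 0, 0, 0, -4, 0],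
      [0, 0, 0, 0, 0, 0, -4, 0, 0, 4, 0, -4, 0, 0, 0, 0, 0, 0, 0, 0, 0, 0, -4, 0],
      [0, 0, 0, 0, 0, 0, 0, 0, 0, -8, 0, 0, 0, 0, 0, 0, 0, 0, 0, 0, 0, 0, 0, 0],
      [0, 0, 0, 0, 0, 0, 0, 0, 0, 8, 0, 0, 0, 0, 0, 0, 0, 0, 0, 0, 0, 0, 0, 0],
      [0, 0, 0, 0, 0, 0, 0, 0, 0, 0, 0, 8, 0, 0, 0, 0, 0, 0, 0, 0, 0, 0, 0, 0]],
    [[0, 0, 2, 0, 0, 0, 0, -2, 2, 2, -2, 2, 2, -2, -2, 2, 0, -2, -2, 2, 2, 0, 2, 2],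
      [0, 0, 0, 0, 2, 2, -2, -2, 0, 2, 2, 2, 2, -2, 2, 0, 0, -2, -2, 0, 2, -2, 2, 2],
      [0, 0, 0, 0, 2, 2, -2, 2, 0, -2, -2, -2, 2, -2, 2, 0, 0, -2, 2, 0, 2, 2, 2, 2],
      [0, 0, 0, 0, 0, 0, 0, 0, 0, 0, 4, 0, 0, 4, 0, 0, 0, 4, 0, 0, 0, 0, -4, 0],
      [0, 0, 0, 0, 0, 4, 0, 0, 0, 0, 0, 0, 0, 0, 4, 0, 0, -4, 0, 0, 0, 0, 0, 4],
      [0, 0, 0, 0, 0, 4, 0, 0, 0, 0, 0, 0, 0, 0, -4, 0, 0, 4, 0, 0, 0, 0, 0, 4],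
      [0, 0, 0, 0, 0, 0, 0, 0, 0, 0, 0, 0, 0, 0, 8, 0, 0, 0, 0, 0, 0, 0, 0, 0],
      [0, 0, 0, 0, 0, 0, 0, 0, 0, 0, 0, 0, 0, 0, 8, 0, 0, 0, 0, 0, 0, 0, 0, 0],
      [0, 0, 0, 0, 0, 0, 0, 0, 0, 0, 0, 0, 8, 0, 0, 0, 0, 0, 0, 0, 0, 0, 0, 0]],
    [[0, 0, 2, 0, 0, 0, 0, 2, 2, -2, 2, 2, 2, -2, 2, 2, 0, -2, 2, 2, -2, 0, -2, -2],
      [0, 0, 0, 0, -2, 2, -2, 2, 0, 2, -2, 2, -2, 2, 2, 0, 0, -2, 2, 0, -2, 2, 2, 2],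
      [0, 0, 0, 0, -2, 2, -2, -2, 0, -2, 2, -2, -2, 2, 2, 0, 0, -2, -2, 0, -2, -2, 2, 2],
      [0, 0, 0, 0, 0, 0, 0, 0, 0, 0, -4, 0, 0, -4, 0, 0, 0, 4, 0, 0, 0, 0, -4, 0],
      [0, 0, 0, 0, 0, -4, 0, 0, 0, 0, 0, 0, 0, 0, 4, 0, 0, -4, 0, 0, 0, 0, 0, -4],
      [0, 0, 0, 0, 0, -4, 0, 0, 0, 0, 0, 0, 0, 0, -4, 0, 0, 4, 0, 0, 0, 0, 0, -4],
      [0, 0, 0, 0, 0, 0, 0, 0, 0, 0, 0, 0, 0, 0, 0, 0, 0, -8, 0, 0, 0, 0, 0, 0],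
      [0, 0, 0, 0, 0, 0, 0, 0, 0, 0, 0, 0, 0, 0, 0, 0, 0, 8, 0, 0, 0, 0, 0, 0],
      [0, 0, 0, 0, 0, 0, 0, 0, 0, 0, 0, 0, 0, 8, 0, 0, 0, 0, 0, 0, 0, 0, 0, 0]],
    [[0, 0, 2, 0, 0, 0, 0, 2, -2, 2, 2, 2, 2, 2, -2, -2, 0, 2, -2, 2, -2, 0, 2, -2],
      [0, 0, 0, 0, 2, -2, 2, 2, 0, 2, -2, -2, 2, -2, 2, 0, 0, 2, 2, 0, -2, -2, 2, 2],
      [0, 0, 0, 0, 2, -2, 2, -2, 0, -2, 2, 2, 2, -2, 2, 0, 0, 2, -2, 0, -2, 2, 2, 2],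
      [0, 0, 0, 0, 0, 4, 0, 4, 0, 4, 0, 0, 0, 0, 0, 0, 0, 0, 0, 0, 0, -4, 0, 0],
      [0, 0, 0, 0, 0, 0, 0, 0, 4, 0, 0, 0, 0, 0, 0, 4, 4, 0, 0, -4, 0, 0, 0, 0],
      [0, 0, 0, 0, 0, 0, 0, 0, -4, 0, 0, 0, 0, 0, 0, -4, 4, 0, 0, -4, 0, 0, 0, 0],
      [0, 0, 0, 0, 0, 0, 0, 0, 0, 0, 0, 0, 0, 0, 0, 0, -8, 0, 0, 0, 0, 0, 0, 0],
      [0, 0, 0, 0, 0, 0, 0, 0, 0, 0, 0, 0, 0, 0, 0, 0, 8, 0, 0, 0, 0, 0, 0, 0],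
      [0, 0, 0, 0, 0, 0, 0, 0, 0, 0, 0, 0, 0, 0, 8, 0, 0, 0, 0, 0, 0, 0, 0, 0]],
    [[0, 0, 2, 0, 0, 0, 0, 2, -2, -2, 2, -2, 2, -2, 2, 2, 0, 2, -2, -2, 2, 0, 2, 2],
      [0, 0, 0, 0, -2, 2, -2, 2, 0, 2, 2, -2, 2, -2, -2, 0, 0, 2, 2, 0, 2, 2, -2, 2],
      [0, 0, 0, 0, -2, 2, -2, -2, 0, -2, -2, 2, 2, -2, -2, 0, 0, 2, -2, 0, 2, -2, -2, 2],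
      [0, 0, 0, 0, 0, 0, 0, 0, 0, 0, 0, -4, -4, 0, 4, 0, 0, 0, 0, 0, -4, 0, 0, 0],
      [0, 0, 0, 0, 0, 0, -4, 0, 0, -4, 0, 4, 0, 0, 0, 0, 0, 0, 0, 0, 0, 0, -4, 0],
      [0, 0, 0, 0, 0, 0, 4, 0, 0, -4, 0, -4, 0, 0, 0, 0, 0, 0, 0, 0, 0, 0, -4, 0],
      [0, 0, 0, 0, 0, 0, -8, 0, 0, 0, 0, 0, 0, 0, 0, 0, 0, 0, 0, 0, 0, 0, 0, 0],
      [0, 0, 0, 0, 0, 0, 8, 0, 0, 0, 0, 0, 0, 0, 0, 0, 0, 0, 0, 0, 0, 0, 0, 0],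
      [0, 0, 0, 0, 0, 0, 0, 0, 0, 0, 0, 0, 0, 0, 0, 8, 0, 0, 0, 0, 0, 0, 0, 0]]]

/-- part of the data -/
def fiveTrace0x2 : List (List (List ℤ)) := [[[-2, 2, 0, -2, 2, 2, 2, 0, 0, 0, 0, 0, 0, 0, 0, 0, -6, 0, 0, 0, 0, 2, 0, 0],
      [2, -6, -2, 2, 0, 0, 0, 0, 2, 0, 0, 0, 0, 0, 0, -2, 2, 0, 0, 2, 0, 0, 0, 0],
      [2, 6, -2, -2, 0, 0, 0, 0, -2, 0, 0, 0, 0, 0, 0, 2, -2, 0, 0, -2, 0, 0, 0, 0],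
      [0, 4, -4, -4, 0, 0, 0, 0, 0, 0, 0, 0, 0, 0, 0, -4, 0, 0, 0, 0, 0, 0, 0, 0],
      [0, 0, 0, 0, 0, 0, 0, 0, 0, 0, 0, 0, 0, -4, 0, 0, 0, 0, -4, 0, -4, 4, 0, 0],
      [0, 0, 0, 0, 0, 0, 0, 0, 0, 0, 0, 0, 0, 4, 0, 0, 0, 0, 4, 0, -4, 4, 0, 0],
      [0, 0, 0, 0, 0, 0, 0, 0, 0, 0, 0, 0, 0, 0, 0, 0, 0, 0, 0, 0, 8, 0, 0, 0],
      [0, 0, 0, 0, 0, 0, 0, 0, 0, 0, 0, 0, 0, 0, 0, 0, 0, 0, 0, 0, 8, 0, 0, 0],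
      [0, 0, 0, 0, 0, 0, 0, 0, 0, 0, 0, 0, 0, 0, 0, 0, 8, 0, 0, 0, 0, 0, 0, 0]],
    [[0, 0, 2, 0, 0, 0, 0, 2, 2, -2, -2, -2, -2, 2, -2, 2, 0, 2, 2, 2, 2, 0, 2, -2],
      [0, 0, 0, 0, -2, 2, 2, 2, 0, -2, 2, 2, 2, 2, -2, 0, 0, 2, -2, 0, -2, -2, 2, 2],
      [0, 0, 0, 0, -2, 2, 2, -2, 0, 2, -2, -2, 2, 2, -2, 0, 0, 2, 2, 0, -2, 2, 2, 2],
      [0, 0, 0, 0, 0, 0, 0, 0, 0, 0, 0, 4, -4, 0, 4, 0, 0, 0, 0, 0, 4, 0, 0, 0],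
      [0, 0, 0, 0, 0, 0, -4, 0, 0, 4, 0, 4, 0, 0, 0, 0, 0, 0, 0, 0, 0, 0, 4, 0],
      [0, 0, 0, 0, 0, 0, 4, 0, 0, 4, 0, -4, 0, 0, 0, 0, 0, 0, 0, 0, 0, 0, 4, 0],
      [0, 0, 0, 0, 0, 0, 0, 0, 0, 0, 0, 8, 0, 0, 0, 0, 0, 0, 0, 0, 0, 0, 0, 0],
      [0, 0, 0, 0, 0, 0, 0, 0, 0, 0, 0, 8, 0, 0, 0, 0, 0, 0, 0, 0, 0, 0, 0, 0],
      [0, 0, 0, 0, 0, 0, 0, 0, 0, 0, 0, 0, 0, 0, 0, 0, 0, 8, 0, 0, 0, 0, 0, 0]],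
    [[0, 0, 2, 0, 0, 0, 0, 2, 2, 2, -2, 2, -2, -2, 2, -2, 0, 2, 2, -2, -2, 0, 2, 2],
      [0, 0, 0, 0, 2, -2, -2, 2, 0, -2, -2, 2, 2, 2, 2, 0, 0, 2, -2, 0, 2, 2, -2, 2],
      [0, 0, 0, 0, 2, -2, -2, -2, 0, 2, 2, -2, 2, 2, 2, 0, 0, 2, 2, 0, 2, -2, -2, 2],
      [0, 0, 0, 0, 0, 4, 0, 4, 0, -4, 0, 0, 0, 0, 0, 0, 0, 0, 0, 0, 0, 4, 0, 0],
      [0, 0, 0, 0, 0, 0, 0, 0, 4, 0, 0, 0, 0, 0, 0, -4, 4, 0, 0, 4, 0, 0, 0, 0],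
      [0, 0, 0, 0, 0, 0, 0, 0, -4, 0, 0, 0, 0, 0, 0, 4, 4, 0, 0, 4, 0, 0, 0, 0],
      [0, 0, 0, 0, 0, 0, 0, 0, 8, 0, 0, 0, 0, 0, 0, 0, 0, 0, 0, 0, 0, 0, 0, 0],
      [0, 0, 0, 0, 0, 0, 0, 0, 8, 0, 0, 0, 0, 0, 0, 0, 0, 0, 0, 0, 0, 0, 0, 0],
      [0, 0, 0, 0, 0, 0, 0, 0, 0, 0, 0, 0, 0, 0, 0, 0, 0, 0, 8, 0, 0, 0, 0, 0]],
    [[0, 0, 2, 0, 0, 0, 0, -2, -2, 2, 2, 2, -2, 2, 2, 2, 0, -2, 2, -2, 2, 0, 2, -2],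
      [0, 0, 0, 0, 2, 2, 2, -2, 0, -2, 2, -2, 2, 2, 2, 0, 0, -2, 2, 0, -2, 2, -2, 2],
      [0, 0, 0, 0, 2, 2, 2, 2, 0, 2, -2, 2, 2, 2, 2, 0, 0, -2, -2, 0, -2, -2, -2, 2],
      [0, 0, 0, 0, 0, 0, 0, 0, 0, 0, 4, 0, 0, -4, 0, 0, 0, 4, 0, 0, 0, 0, 4, 0],
      [0, 0, 0, 0, 0, 4, 0, 0, 0, 0, 0, 0, 0, 0, 4, 0, 0, 4, 0, 0, 0, 0, 0, -4],
      [0, 0, 0, 0, 0, 4, 0, 0, 0, 0, 0, 0, 0, 0, -4, 0, 0, -4, 0, 0, 0, 0, 0, -4],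
      [0, 0, 0, 0, 0, -8, 0, 0, 0, 0, 0, 0, 0, 0, 0, 0, 0, 0, 0, 0, 0, 0, 0, 0],
      [0, 0, 0, 0, 0, 8, 0, 0, 0, 0, 0, 0, 0, 0, 0, 0, 0, 0, 0, 0, 0, 0, 0, 0],
      [0, 0, 0, 0, 0, 0, 0, 0, 0, 0, 0, 0, 0, 0, 0, 0, 0, 0, 0, 8, 0, 0, 0, 0]],
    [[0, 0, -2, 0, 0, 0, 0, 2, 2, 2, -2, 2, 2, 2, 2, 2, 0, 2, -2, -2, 2, 0, -2, -2],
      [0, 0, 0, 0, 2, 2, 2, 2, 0, 2, 2, 2, -2, -2, 2, 0, 0, 2, -2, 0, -2, 2, -2, -2],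
      [0, 0, 0, 0, 2, 2, 2, -2, 0, -2, -2, -2, -2, -2, 2, 0, 0, 2, 2, 0, -2, -2, -2, -2],
      [0, 0, 0, 0, -4, 0, -4, 0, 0, 0, 0, 0, 0, 0, 0, 0, 0, 0, -4, 0, 0, 0, 0, 4],
      [0, 0, 0, 0, 4, 0, 0, -4, 0, 0, -4, 0, -4, 0, 0, 0, 0, 0, 0, 0, 0, 0, 0, 0],
      [0, 0, 0, 0, -4, 0, 0, 4, 0, 0, 4, 0, 4, 0, 0, 0, 0, 0, 0, 0, 0, 0, 0, 0],
      [0, 0, 0, 0, 8, 0, 0, 0, 0, 0, 0, 0, 0, 0, 0, 0, 0, 0, 0, 0, 0, 0, 0, 0],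
      [0, 0, 0, 0, 8, 0, 0, 0, 0, 0, 0, 0, 0, 0, 0, 0, 0, 0, 0, 0, 0, 0, 0, 0],
      [0, 0, 0, 0, 0, 0, 0, 0, 0, 0, 0, 0, 0, 0, 0, 0, 0, 0, 0, 0, 8, 0, 0, 0]],
    [[-2, 2, 0, -2, 2, 2, 2, 0, 0, 0, 0, 0, 0, 0, 0, 0, 2, 0, 0, 0, 0, -6, 0, 0],
      [2, 2, -2, 2, 0, 0, 0, 0, 2, 0, 0, 0, 0, 0, 0, -2, -6, 0, 0, 2, 0, 0, 0, 0],
      [2, -2, -2, -2, 0, 0, 0, 0, -2, 0, 0, 0, 0, 0, 0, 2, 6, 0, 0, -2, 0, 0, 0, 0],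
      [4, 0, 0, 0, 0, 0, 0, 0, 4, 0, 0, 0, 0, 0, 0, 0, -4, 0, 0, 4, 0, 0, 0, 0],
      [4, 4, 4, -4, 0, 0, 0, 0, 0, 0, 0, 0, 0, 0, 0, 0, 0, 0, 0, 0, 0, 0, 0, 0],
      [4, 4, 4, -4, 0, 0, 0, 0, 0, 0, 0, 0, 0, 0, 0, 0, 0, 0, 0, 0, 0, 0, 0, 0],
      [0, 0, 0, -8, 0, 0, 0, 0, 0, 0, 0, 0, 0, 0, 0, 0, 0, 0, 0, 0, 0, 0, 0, 0],
      [0, 0, 0, 8, 0, 0, 0, 0, 0, 0, 0, 0, 0, 0, 0, 0, 0, 0, 0, 0, 0, 0, 0, 0],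
      [0, 0, 0, 0, 0, 0, 0, 0, 0, 0, 0, 0, 0, 0, 0, 0, 0, 0, 0, 0, 0, 8, 0, 0]],
    [[0, 0, -2, 0, 0, 0, 0, -2, 2, -2, 2, 2, 2, 2, -2, 2, 0, 2, 2, -2, -2, 0, 2, 2],
      [0, 0, 0, 0, -2, 2, 2, -2, 0, 2, -2, 2, 2, 2, 2, 0, 0, 2, 2, 0, 2, -2, -2, -2],
      [0, 0, 0, 0, -2, 2, 2, 2, 0, -2, 2, -2, 2, 2, 2, 0, 0, 2, -2, 0, 2, 2, -2, -2],
      [0, 0, 0, 0, 4, 0, -4, 0, 0, 0, 0, 0, 0, 0, 0, 0, 0, 0, 4, 0, 0, 0, 0, 4],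
      [0, 0, 0, 0, 4, 0, 0, 4, 0, 0, 4, 0, -4, 0, 0, 0, 0, 0, 0, 0, 0, 0, 0, 0],
      [0, 0, 0, 0, -4, 0, 0, -4, 0, 0, -4, 0, 4, 0, 0, 0, 0, 0, 0, 0, 0, 0, 0, 0],
      [0, 0, 0, 0, 0, 0, 0, 0, 0, 0, 0, 0, -8, 0, 0, 0, 0, 0, 0, 0, 0, 0, 0, 0],
      [0, 0, 0, 0, 0, 0, 0, 0, 0, 0, 0, 0, 8, 0, 0, 0, 0, 0, 0, 0, 0, 0, 0, 0],
      [0, 0, 0, 0, 0, 0, 0, 0, 0, 0, 0, 0, 0, 0, 0, 0, 0, 0, 0, 0, 0, 0, 8, 0]],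
    [[0, 0, -2, 0, 0, 0, 0, 2, -2, 2, -2, -2, 2, 2, 2, 2, 0, -2, 2, 2, -2, 0, 2, 2],
      [0, 0, 0, 0, 2, 2, 2, 2, 0, 2, -2, -2, 2, 2, -2, 0, 0, -2, -2, 0, 2, 2, 2, -2],
      [0, 0, 0, 0, 2, 2, 2, -2, 0, -2, 2, 2, 2, 2, -2, 0, 0, -2, 2, 0, 2, -2, 2, -2],
      [0, 0, 0, 0, 0, -4, 0, 4, 0, 4, 0, 0, 0, 0, 0, 0, 0, 0, 0, 0, 0, 4, 0, 0],
      [0, 0, 0, 0, 0, 0, 0, 0, 4, 0, 0, 0, 0, 0, 0, 4, -4, 0, 0, 4, 0, 0, 0, 0],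
      [0, 0, 0, 0, 0, 0, 0, 0, -4, 0, 0, 0, 0, 0, 0, -4, -4, 0, 0, 4, 0, 0, 0, 0],
      [0, 0, 0, 0, 0, 0, 0, 0, 0, 0, 0, 0, 0, 0, 0, 0, 0, 0, 0, -8, 0, 0, 0, 0],
      [0, 0, 0, 0, 0, 0, 0, 0, 0, 0, 0, 0, 0, 0, 0, 0, 0, 0, 0, 8, 0, 0, 0, 0],
      [0, 0, 0, 0, 0, 0, 0, 0, 0, 0, 0, 0, 0, 0, 0, 0, 0, 0, 0, 0, 0, 0, 0, 8]]]

/-- part of the data -/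
def fiveTrace0x3 : List (List (List ℤ)) := [[[0, 0, -10, 0, 0, 0, 0, 2, 2, 6, 2, 2, 6, 2, 2, 6, 0, 6, 6, 2, 2, 0, 2, 2],
      [0, 0, 0, 0, 6, 6, 2, 2, 0, 6, 2, 2, 2, 6, 2, 0, 0, 6, 2, 0, 2, 2, 2, -10],
      [0, 0, 0, 0, 6, 6, 2, -2, 0, -6, -2, -2, 2, 6, 2, 0, 0, 6, -2, 0, 2, -2, 2, -10],
      [0, 0, 0, 0, -4, -4, -4, 4, 0, 4, 4, 0, 0, -4, 0, 0, 0, -4, 4, 0, 0, 4, -4, 12],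
      [0, 0, 0, 0, 12, 4, 0, -4, 4, 0, 4, 0, -4, 0, -4, 4, -4, -4, 0, 4, 0, 0, 0, -4],
      [0, 0, 0, 0, -12, 4, 0, 4, -4, 0, -4, 0, 4, 0, 4, -4, -4, 4, 0, 4, 0, 0, 0, -4],
      [0, 0, 0, 0, 8, 0, 0, -8, 0, 0, 0, 0, -8, 0, 0, 0, 0, 0, 0, -8, 0, 0, 0, 8],
      [0, 0, 0, 0, 8, 0, 0, 8, 0, 0, 0, 0, 8, 0, 0, 0, 0, 0, 0, 8, 0, 0, 0, 8],
      [0, 0, 0, 0, 0, 0, 0, 8, 8, 0, 0, 0, 0, 0, 0, 0, 0, 0, 0, 0, 8, 0, 8, 8]],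
    [[-4, 0, 0, -4, 0, 0, 0, 0, 0, 0, 0, 0, 0, 0, 0, 0, 0, 0, 0, 0, 0, 0, 0, 0],
      [0, 0, -4, 0, 0, 0, 0, 0, 0, 0, 0, 0, 0, 0, 0, -4, 0, 0, 0, 0, 0, 0, 0, 0],
      [0, 0, -4, 0, 0, 0, 0, 0, 0, 0, 0, 0, 0, 0, 0, 4, 0, 0, 0, 0, 0, 0, 0, 0],
      [2, 2, -2, 2, 0, 0, 0, 0, 2, 0, 0, 0, 0, 0, 0, -2, 2, 0, 0, 2, 0, 0, 0, 0],
      [2, 2, 2, 2, 0, 0, 0, 0, 0, 0, 0, 0, 0, -2, 0, 0, 0, 0, -2, 0, 2, 2, 0, 0],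
      [2, 2, 2, 2, 0, 0, 0, 0, 0, 0, 0, 0, 0, 2, 0, 0, 0, 0, 2, 0, 2, 2, 0, 0],
      [-2, -2, -2, -2, 0, 0, 0, 0, 0, 0, 0, 0, 0, 2, 0, 0, 0, 0, 2, 0, 2, 2, 0, 0],
      [2, 2, 2, 2, 0, 0, 0, 0, 0, 0, 0, 0, 0, 2, 0, 0, 0, 0, 2, 0, 2, 2, 0, 0],
      [2, 2, 0, 2, 2, 2, 2, 0, 0, 0, 0, 0, 0, 0, 0, 0, 2, 0, 0, 0, 0, 2, 0, 0]],
    [[-1, -1, -3, -1, -1, -1, -1, 1, 1, 1, 1, 1, 1, 1, 1, 1, -1, 1, 1, 1, 1, -1, 1, 1],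
      [-1, -1, -1, -1, 1, 1, 1, 1, -1, 1, 1, 1, 1, 1, 1, -1, -1, 1, 1, -1, 1, 1, 1, -3],
      [-1, 1, -1, 1, 1, 1, 1, -1, 1, -1, -1, -1, 1, 1, 1, 1, 1, 1, -1, 1, 1, -1, 1, -3],
      [-1, 1, -1, 1, -1, -1, -1, 1, 1, 1, 1, 1, -1, -1, -1, 1, 1, -1, 1, 1, -1, 1, -1, 3],
      [1, -1, 1, 1, 3, 1, -1, -1, 1, 1, 1, -1, -1, -1, -1, 1, -1, -1, 1, 1, 1, 1, -1, -1],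
      [1, -1, 1, 1, -3, 1, 1, 1, -1, 1, -1, 1, 1, 1, 1, -1, -1, 1, -1, 1, 1, 1, -1, -1],
      [0, -2, 0, 0, 2, 0, 0, -2, 0, 0, 0, 0, -2, 0, 0, 0, 0, 0, 2, -2, 0, 0, 2, 2],
      [0, 2, 0, 0, 2, 0, 0, 2, 0, 0, 0, 0, 2, 0, 0, 0, 0, 0, 2, 2, 0, 0, 2, 2],
      [0, 2, 2, 2, 0, 0, 0, 2, 2, 0, 0, 0, 0, 0, 0, 0, 0, 0, 0, 0, 2, 0, 2, 2]],
    [[0, -2, 2, -2, 0, 0, 0, 2, 2, 0, 0, 0, 0, 0, 0, 0, 0, 0, 0, 0, 2, 0, 2, 2],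
      [0, 0, -2, 0, 0, 0, 0, 2, 0, 0, 2, 2, 2, 0, 0, 0, 0, 0, 0, -2, 2, 0, 0, 2],
      [0, 0, -2, 0, 0, 0, 0, -2, 0, 0, -2, -2, 2, 0, 0, 0, 0, 0, 0, 2, 2, 0, 0, 2],
      [1, 1, -1, 1, -1, 1, -1, 1, 1, -1, 1, 1, -3, 1, 1, 1, 1, 1, 1, -1, -1, 1, -1, -1],
      [-1, 1, 1, 1, -1, 1, -3, -1, 1, 1, 1, 1, -1, -1, 1, -1, 1, -1, 1, 1, 1, 1, -1, 1],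
      [-1, 1, 1, 1, 1, 1, 3, 1, -1, 1, -1, -1, 1, 1, -1, 1, 1, 1, -1, 1, 1, 1, -1, 1],
      [-2, 0, 0, 0, 0, 0, -2, 0, 2, 0, 2, 2, 0, 0, 2, 0, 0, 0, 2, 0, 0, 0, 2, 0],
      [2, 0, 0, 0, 0, 0, 2, 0, 2, 0, 2, 2, 0, 0, 2, 0, 0, 0, 2, 0, 0, 0, 2, 0],
      [2, 0, 2, 2, 0, 0, 0, 0, 0, 2, 0, 0, 2, 0, 0, 2, 0, 2, 2, 0, 0, 0, 0, 0]],
    [[-2, -2, 2, 0, 0, 0, 0, 0, 0, 0, 2, 2, 0, 2, 2, 0, 0, 0, 0, 2, 0, 0, 0, 0],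
      [0, 0, 0, 0, 0, 0, 2, 0, 0, 0, 0, 0, 0, 0, 2, -2, 0, 0, 2, -2, 0, 2, 2, 2],
      [0, 0, 0, 0, 0, 0, 2, 0, 0, 0, 0, 0, 0, 0, 2, 2, 0, 0, -2, 2, 0, -2, 2, 2],
      [0, 0, 0, 0, 0, 2, 0, 0, 2, 2, 0, 2, 0, -2, 0, 0, 2, 2, 0, 0, -2, 0, 0, 0],
      [0, 0, 2, 2, 0, 0, 0, 0, 0, 2, 0, 0, 0, 0, 2, 2, 2, 0, 0, 0, 0, 0, -2, -2],
      [0, 0, 2, 2, 0, 0, 0, 0, 0, 2, 0, 0, 0, 0, -2, -2, 2, 0, 0, 0, 0, 0, -2, -2],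
      [-2, -2, 0, 0, 0, -2, 0, 0, 0, -2, 0, 0, 0, 0, 0, 2, -2, -2, 0, 0, 0, 0, 2, 0],
      [2, 2, 0, 0, 0, 2, 0, 0, 0, 2, 0, 0, 0, 0, 0, 2, 2, 2, 0, 0, 0, 0, 2, 0],
      [2, 2, 2, 0, 0, 0, 0, 0, 0, 0, 2, 2, 0, 2, 2, 0, 0, 0, 0, 2, 0, 0, 0, 0]],
    [[-4, -4, 0, 0, 0, 0, 0, 0, 0, 0, 0, 0, 0, 0, 0, 0, 0, 0, 0, 0, 0, 0, 0, 0],
      [0, 0, 0, 0, 0, 0, 0, 0, 0, 0, 0, 0, 0, 0, 0, -4, 0, 0, 0, -4, 0, 0, 0, 0],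
      [0, 0, 0, 0, 0, 0, 0, 0, 0, 0, 0, 0, 0, 0, 0, 4, 0, 0, 0, 4, 0, 0, 0, 0],
      [0, 0, 0, 0, 0, 0, 0, 0, 4, 0, 0, 0, 0, 0, 0, 0, 4, 0, 0, 0, 0, 0, 0, 0],
      [0, 0, 4, 4, 0, 0, 0, 0, 0, 0, 0, 0, 0, 0, 0, 0, 0, 0, 0, 0, 0, 0, 0, 0],
      [0, 0, 4, 4, 0, 0, 0, 0, 0, 0, 0, 0, 0, 0, 0, 0, 0, 0, 0, 0, 0, 0, 0, 0],
      [-4, -4, 0, 0, 0, 0, 0, 0, 0, 0, 0, 0, 0, 0, 0, 0, 0, 0, 0, 0, 0, 0, 0, 0],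
      [4, 4, 0, 0, 0, 0, 0, 0, 0, 0, 0, 0, 0, 0, 0, 0, 0, 0, 0, 0, 0, 0, 0, 0],
      [4, 4, 0, 0, 0, 0, 0, 0, 0, 0, 0, 0, 0, 0, 0, 0, 0, 0, 0, 0, 0, 0, 0, 0]],
    [[-3, -1, -1, 1, -1, -1, -1, 1, 1, -1, 1, 1, -1, 1, 1, -1, -1, -1, -1, 1, 1, -1, 1, 1],
      [-1, -1, 1, -1, -1, -1, 1, 1, -1, -1, 1, 1, 1, -1, 1, -3, -1, -1, 1, -1, 1, 1, 1, -1],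
      [-1, 1, 1, 1, -1, -1, 1, -1, 1, 1, -1, -1, 1, -1, 1, 3, 1, -1, -1, 1, 1, -1, 1, -1],
      [-2, 0, 0, 0, 0, 0, 0, 0, 2, 0, 0, 2, -2, 0, -2, 0, 2, 0, 0, 2, -2, 0, 0, 0],
      [2, -2, 2, 2, 0, 0, -2, 0, 0, 2, 0, -2, 0, 0, 0, 0, 0, 0, 0, 0, 0, 0, -2, 0],
      [2, -2, 2, 2, 0, 0, 2, 0, 0, 2, 0, 2, 0, 0, 0, 0, 0, 0, 0, 0, 0, 0, -2, 0],
      [0, -4, 0, 0, 0, 0, 0, 0, 0, 0, 0, 0, 0, 0, 0, 0, 0, 0, 0, 0, 0, 0, 4, 0],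
      [0, 4, 0, 0, 0, 0, 0, 0, 0, 0, 0, 0, 0, 0, 0, 0, 0, 0, 0, 0, 0, 0, 4, 0],
      [0, 4, 4, 0, 0, 0, 0, 0, 0, 0, 0, 0, 0, 0, 0, 0, 0, 0, 0, 0, 0, 0, 0, 0]],
    [[-3, -3, 1, -3, 1, 1, 1, 1, 1, 1, 1, 1, 1, 1, 1, 1, 1, 1, 1, 1, 1, 1, 1, 1],
      [1, 1, -3, 1, 1, 1, 1, 1, 1, 1, 1, 1, 1, 1, 1, -3, 1, 1, 1, -3, 1, 1, 1, 1],
      [1, -1, -3, -1, 1, 1, 1, -1, -1, -1, -1, -1, 1, 1, 1, 3, -1, 1, -1, 3, 1, -1, 1, 1],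
      [3, 1, -1, 1, -1, 1, -1, 1, 3, 1, 1, 1, -1, -1, 1, -1, 3, 1, 1, -1, -1, 1, -1, 1],
      [-1, 3, 3, 3, 1, 1, -1, -1, 1, 1, 1, 1, -1, -1, 1, 1, 1, -1, -1, 1, 1, 1, -1, -1],
      [-1, 3, 3, 3, -1, 1, 1, 1, -1, 1, -1, -1, 1, 1, -1, -1, 1, 1, 1, 1, 1, 1, -1, -1],
      [-5, -1, -1, -1, 1, -1, -1, -1, 1, -1, 1, 1, -1, 1, 1, 1, -1, -1, 1, -1, 1, 1, 1, 1],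
      [5, 1, 1, 1, 1, 1, 1, 1, 1, 1, 1, 1, 1, 1, 1, 1, 1, 1, 1, 1, 1, 1, 1, 1],
      [5, 1, 1, 1, 1, 1, 1, 1, 1, 1, 1, 1, 1, 1, 1, 1, 1, 1, 1, 1, 1, 1, 1, 1]]]

/-- part of the data -/
def fiveTrace1x0 : List (List (List ℤ)) := [[[0, 8, 0, 0, 0, 0, 0, 0, 0, 0, 0, 0, 0, 0, 0, 0, 0, 0, 0, 0, 0, 0, 0, 0],
      [8, 0, 0, 0, 0, 0, 0, 0, 0, 0, 0, 0, 0, 0, 0, 0, 0, 0, 0, 0, 0, 0, 0, 0]],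
    [[0, 0, 8, 0, 0, 0, 0, 0, 0, 0, 0, 0, 0, 0, 0, 0, 0, 0, 0, 0, 0, 0, 0, 0],
      [0, 8, 0, 0, 0, 0, 0, 0, 0, 0, 0, 0, 0, 0, 0, 0, 0, 0, 0, 0, 0, 0, 0, 0]],
    [[8, 0, 0, 0, 0, 0, 0, 0, 0, 0, 0, 0, 0, 0, 0, 0, 0, 0, 0, 0, 0, 0, 0, 0],
      [0, 0, 8, 0, 0, 0, 0, 0, 0, 0, 0, 0, 0, 0, 0, 0, 0, 0, 0, 0, 0, 0, 0, 0]],
    [[0, 0, 0, 8, 0, 0, 0, 0, 0, 0, 0, 0, 0, 0, 0, 0, 0, 0, 0, 0, 0, 0, 0, 0],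
      [0, 0, 0, 8, 0, 0, 0, 0, 0, 0, 0, 0, 0, 0, 0, 0, 0, 0, 0, 0, 0, 0, 0, 0]],
    [[0, 0, 0, 0, 0, 0, 0, 8, 0, 0, 0, 0, 0, 0, 0, 0, 0, 0, 0, 0, 0, 0, 0, 0],
      [0, 0, 0, 0, 8, 0, 0, 0, 0, 0, 0, 0, 0, 0, 0, 0, 0, 0, 0, 0, 0, 0, 0, 0]],
    [[0, 0, 0, 0, 0, 0, 0, 0, 0, 0, 0, 0, 0, 0, 0, 0, 0, 0, 0, 0, 0, 0, 0, 8],
      [0, 0, 0, 0, 0, 8, 0, 0, 0, 0, 0, 0, 0, 0, 0, 0, 0, 0, 0, 0, 0, 0, 0, 0]],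
    [[0, 0, 0, 0, 0, 0, 0, 0, 0, 0, 0, 0, 0, 0, 0, 0, 0, 0, 0, 0, 0, 0, 8, 0],
      [0, 0, 0, 0, 0, 0, 8, 0, 0, 0, 0, 0, 0, 0, 0, 0, 0, 0, 0, 0, 0, 0, 0, 0]],
    [[0, 0, 0, 0, 0, 0, 0, 0, 0, 0, 0, 0, 8, 0, 0, 0, 0, 0, 0, 0, 0, 0, 0, 0],
      [0, 0, 0, 0, 0, 0, 0, 8, 0, 0, 0, 0, 0, 0, 0, 0, 0, 0, 0, 0, 0, 0, 0, 0]]]

/-- part of the data -/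
def fiveTrace1x1 : List (List (List ℤ)) := [[[0, 0, 0, 0, 0, 0, 0, 0, 0, 0, 0, 0, 0, 0, 0, 8, 0, 0, 0, 0, 0, 0, 0, 0],
      [0, 0, 0, 0, 0, 0, 0, 0, 8, 0, 0, 0, 0, 0, 0, 0, 0, 0, 0, 0, 0, 0, 0, 0]],
    [[0, 0, 0, 0, 0, 0, 8, 0, 0, 0, 0, 0, 0, 0, 0, 0, 0, 0, 0, 0, 0, 0, 0, 0],
      [0, 0, 0, 0, 0, 0, 0, 0, 0, 8, 0, 0, 0, 0, 0, 0, 0, 0, 0, 0, 0, 0, 0, 0]],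
    [[0, 0, 0, 0, 0, 0, 0, 0, 0, 0, 8, 0, 0, 0, 0, 0, 0, 0, 0, 0, 0, 0, 0, 0],
      [0, 0, 0, 0, 0, 0, 0, 0, 0, 0, 8, 0, 0, 0, 0, 0, 0, 0, 0, 0, 0, 0, 0, 0]],
    [[0, 0, 0, 0, 0, 0, 0, 0, 0, 0, 0, 8, 0, 0, 0, 0, 0, 0, 0, 0, 0, 0, 0, 0],
      [0, 0, 0, 0, 0, 0, 0, 0, 0, 0, 0, 8, 0, 0, 0, 0, 0, 0, 0, 0, 0, 0, 0, 0]],
    [[0, 0, 0, 0, 8, 0, 0, 0, 0, 0, 0, 0, 0, 0, 0, 0, 0, 0, 0, 0, 0, 0, 0, 0],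
      [0, 0, 0, 0, 0, 0, 0, 0, 0, 0, 0, 0, 8, 0, 0, 0, 0, 0, 0, 0, 0, 0, 0, 0]],
    [[0, 0, 0, 0, 0, 0, 0, 0, 0, 0, 0, 0, 0, 8, 0, 0, 0, 0, 0, 0, 0, 0, 0, 0],
      [0, 0, 0, 0, 0, 0, 0, 0, 0, 0, 0, 0, 0, 8, 0, 0, 0, 0, 0, 0, 0, 0, 0, 0]],
    [[0, 0, 0, 0, 0, 0, 0, 0, 0, 0, 0, 0, 0, 0, 8, 0, 0, 0, 0, 0, 0, 0, 0, 0],
      [0, 0, 0, 0, 0, 0, 0, 0, 0, 0, 0, 0, 0, 0, 8, 0, 0, 0, 0, 0, 0, 0, 0, 0]],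
    [[0, 0, 0, 0, 0, 0, 0, 0, 0, 0, 0, 0, 0, 0, 0, 0, 8, 0, 0, 0, 0, 0, 0, 0],
      [0, 0, 0, 0, 0, 0, 0, 0, 0, 0, 0, 0, 0, 0, 0, 8, 0, 0, 0, 0, 0, 0, 0, 0]]]

/-- part of the data -/
def fiveTrace1x2 : List (List (List ℤ)) := [[[0, 0, 0, 0, 0, 0, 0, 0, 8, 0, 0, 0, 0, 0, 0, 0, 0, 0, 0, 0, 0, 0, 0, 0],
      [0, 0, 0, 0, 0, 0, 0, 0, 0, 0, 0, 0, 0, 0, 0, 0, 8, 0, 0, 0, 0, 0, 0, 0]],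
    [[0, 0, 0, 0, 0, 8, 0, 0, 0, 0, 0, 0, 0, 0, 0, 0, 0, 0, 0, 0, 0, 0, 0, 0],
      [0, 0, 0, 0, 0, 0, 0, 0, 0, 0, 0, 0, 0, 0, 0, 0, 0, 8, 0, 0, 0, 0, 0, 0]],
    [[0, 0, 0, 0, 0, 0, 0, 0, 0, 0, 0, 0, 0, 0, 0, 0, 0, 0, 0, 0, 0, 8, 0, 0],
      [0, 0, 0, 0, 0, 0, 0, 0, 0, 0, 0, 0, 0, 0, 0, 0, 0, 0, 8, 0, 0, 0, 0, 0]],
    [[0, 0, 0, 0, 0, 0, 0, 0, 0, 0, 0, 0, 0, 0, 0, 0, 0, 0, 0, 8, 0, 0, 0, 0],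
      [0, 0, 0, 0, 0, 0, 0, 0, 0, 0, 0, 0, 0, 0, 0, 0, 0, 0, 0, 8, 0, 0, 0, 0]],
    [[0, 0, 0, 0, 0, 0, 0, 0, 0, 0, 0, 0, 0, 0, 0, 0, 0, 0, 8, 0, 0, 0, 0, 0],
      [0, 0, 0, 0, 0, 0, 0, 0, 0, 0, 0, 0, 0, 0, 0, 0, 0, 0, 0, 0, 8, 0, 0, 0]],
    [[0, 0, 0, 0, 0, 0, 0, 0, 0, 0, 0, 0, 0, 0, 0, 0, 0, 0, 0, 0, 8, 0, 0, 0],
      [0, 0, 0, 0, 0, 0, 0, 0, 0, 0, 0, 0, 0, 0, 0, 0, 0, 0, 0, 0, 0, 8, 0, 0]],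
    [[0, 0, 0, 0, 0, 0, 0, 0, 0, 8, 0, 0, 0, 0, 0, 0, 0, 0, 0, 0, 0, 0, 0, 0],
      [0, 0, 0, 0, 0, 0, 0, 0, 0, 0, 0, 0, 0, 0, 0, 0, 0, 0, 0, 0, 0, 0, 8, 0]],
    [[0, 0, 0, 0, 0, 0, 0, 0, 0, 0, 0, 0, 0, 0, 0, 0, 0, 8, 0, 0, 0, 0, 0, 0],
      [0, 0, 0, 0, 0, 0, 0, 0, 0, 0, 0, 0, 0, 0, 0, 0, 0, 0, 0, 0, 0, 0, 0, 8]]]

/-- part of the data -/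
def fiveTrace1x3 : List (List (List ℤ)) := [[[0, 0, 0, 0, 0, 0, 0, 0, 0, 8, 0, 0, 8, 0, 0, 8, 0, 8, 8, 0, 0, 0, 0, 0],
      [0, 0, 0, 0, 0, 0, 0, 8, 8, 0, 0, 0, 0, 0, 0, 0, 0, 0, 0, 0, 8, 0, 8, 8]],
    [[0, 2, 2, 2, 0, 0, 0, 2, 2, 0, 0, 0, 0, 0, 0, 0, 0, 0, 0, 0, 2, 0, 2, 2],
      [2, 2, 0, 2, 2, 2, 2, 0, 0, 0, 0, 0, 0, 0, 0, 0, 2, 0, 0, 0, 0, 2, 0, 0]],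
    [[2, 0, 2, 2, 0, 0, 0, 0, 0, 2, 0, 0, 2, 0, 0, 2, 0, 2, 2, 0, 0, 0, 0, 0],
      [0, 2, 2, 2, 0, 0, 0, 2, 2, 0, 0, 0, 0, 0, 0, 0, 0, 0, 0, 0, 2, 0, 2, 2]],
    [[2, 2, 0, 2, 2, 2, 2, 0, 0, 0, 0, 0, 0, 0, 0, 0, 2, 0, 0, 0, 0, 2, 0, 0],
      [2, 0, 2, 2, 0, 0, 0, 0, 0, 2, 0, 0, 2, 0, 0, 2, 0, 2, 2, 0, 0, 0, 0, 0]],
    [[2, 2, 2, 0, 0, 0, 0, 0, 0, 0, 2, 2, 0, 2, 2, 0, 0, 0, 0, 2, 0, 0, 0, 0],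
      [2, 2, 2, 0, 0, 0, 0, 0, 0, 0, 2, 2, 0, 2, 2, 0, 0, 0, 0, 2, 0, 0, 0, 0]],
    [[0, 4, 4, 0, 0, 0, 0, 0, 0, 0, 0, 0, 0, 0, 0, 0, 0, 0, 0, 0, 0, 0, 0, 0],
      [4, 4, 0, 0, 0, 0, 0, 0, 0, 0, 0, 0, 0, 0, 0, 0, 0, 0, 0, 0, 0, 0, 0, 0]],
    [[4, 0, 4, 0, 0, 0, 0, 0, 0, 0, 0, 0, 0, 0, 0, 0, 0, 0, 0, 0, 0, 0, 0, 0],
      [0, 4, 4, 0, 0, 0, 0, 0, 0, 0, 0, 0, 0, 0, 0, 0, 0, 0, 0, 0, 0, 0, 0, 0]],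
    [[1, 5, 1, 1, 1, 1, 1, 1, 1, 1, 1, 1, 1, 1, 1, 1, 1, 1, 1, 1, 1, 1, 1, 1],
      [5, 1, 1, 1, 1, 1, 1, 1, 1, 1, 1, 1, 1, 1, 1, 1, 1, 1, 1, 1, 1, 1, 1, 1]]]

/-- the data -/
def fiveDat : Dat where
  p := 5
  n := 10
  perm := [0, 1, 2, 3, 5, 6, 16, 23, 20, 15, 14, 19, 17, 10, 11, 18, 21, 9, 12, 13, 7, 4, 8, 22]
  reps := [0, 1, 2, 3, 4, 7, 9, 10]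
  orbNum := [0, 1, 2, 3, 4, 4, 4, 5, 5, 6, 7, 7, 6, 7, 7, 6, 4, 6, 6, 7, 5, 4, 5, 5]
  orbPos := [0, 0, 0, 0, 0, 1, 2, 0, 3, 0, 0, 2, 3, 4, 1, 1, 3, 4, 2, 3, 4, 4, 2, 1]
  basis := fiveBasis0
  dual := fiveDual0
  resid := fiveResid0
  short := fiveShort0 ++ fiveShort1 ++ fiveShort2 ++ fiveShort3 ++ fiveShort4 ++ fiveShort5
  orbMax := 75
  centMax := 60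
  masks := [0, 430605, 551943, 982538, 2162811, 2593398, 2714748, 3145329, 13631886, 14062467, 14183817, 14614404, 15794677, 16225272, 16346610, 16777215]
  gens := [[.plO [15, 19, 23, 2, 8, 3, 0, 7, 11, 4, 18, 14, 9, 6, 21, 5, 1, 17, 13, 22, 10, 16, 12, 20], .sgO 2985866, .xiO, .plO [1, 21, 13, 20, 7, 16, 12, 8, 2, 15, 5, 9, 6, 23, 11, 18, 3, 14, 10, 0, 22, 19, 17, 4], .sgO 458192, .xiO, .sgO 725743, .plO [0, 1, 4, 21, 20, 19, 15, 7, 18, 11, 9, 17, 22, 6, 12, 10, 14, 13, 3, 23, 16, 5, 2, 8]],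
    [.plO [2, 0, 1, 3, 12, 17, 9, 4, 16, 22, 10, 11, 7, 13, 14, 8, 15, 23, 20, 19, 21, 18, 6, 5]]]
  traces := [fiveTrace0x0 ++ fiveTrace0x1 ++ fiveTrace0x2 ++ fiveTrace0x3, fiveTrace1x0 ++ fiveTrace1x1 ++ fiveTrace1x2 ++ fiveTrace1x3]
  objs := [249473638139649329857278093853458435, 43422033463993587746502197067055141681018173471643683628178559951973788942345, 127212988664044500307475878569726980834511757974752649014842396342266888225, 445162639419516960014445577687845842785890249367617036646415852195807745, 1809306608304662637344002160450873918987242404071532017407155898332796289025, 63281118891851782975136778663493635, 43422033463993574187741823150738494875274156974520129801967572693654769238025,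 496925737021950357313495089413483294318760088447800653669149687532224545, 1823386170851305511887404884092428855510248874570321700165250702697522266625, 113081663019812751127148021733093212604175107279684406397594257776414162945]
  gperm := [[9, 6, 8, 7, 5, 2, 1, 3, 0, 4], [0, 2, 3, 1, 4, 5, 7, 8, 6, 9]]

end Cfsg.Agent.Spor.CoLocal
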