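import Cfsg.Agent.Lib.Spor.CoLocal.Defs

/-!
The classes modulo two fixed by a permutation of odd prime order with eight cycles.
-/

set_option autoImplicit false

namespace Cfsg.Agent.Spor.CoLocal

open Cfsg Cfsg.Agent.Spor.MonsterFusion
open Co1Seven (congB congB_sound cong_symm cong_add cong_sum cong_neg cong_smul co0_neg units_ext)
open scoped Pointwise

local notation "Zv" => GolayPt → ℤ
set_option quotPrecheck false in
local notation "Lv" => ↥leechLattice
local notation "V8" => Fin 8 → ZMod 2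

variable {D : Dat}

theorem Dat.Fix.mem (h : D.Fix) : lperm D.perm ∈ M24 := lperm_mem h.perm_ok

/-- the permutation -/
noncomputable def Dat.sigma (D : Dat) : Equiv.Perm GolayPt := lperm D.perm

theorem Dat.Fix.sigma_apply (h : D.Fix) (q : GolayPt) : D.sigma q = D.sx q :=
  (rep_lperm (m24ok_lok h.perm_ok)).apply q

theorem Dat.Fix.pel_exists (h : D.Fix) :
    ∃ g : ↥Co0, ∀ v : Lv, ((g • v : Lv) : Zv) = prm D.sigma (v : Zv) := exists_prm h.mem

/-- the element -/
noncomputable def Dat.Fix.pel (h : D.Fix) : ↥Co0 := h.pel_exists.choose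

theorem Dat.Fix.pel_spec (h : D.Fix) (v : Lv) : ((h.pel • v : Lv) : Zv) = prm D.sigma (v : Zv) :=
  h.pel_exists.choose_spec v

theorem Dat.Fix.pel_apply (h : D.Fix) (v : Lv) (q : GolayPt) :
    ((h.pel • v : Lv) : Zv) (D.sx q) = (v : Zv) q := by
  rw [← h.sigma_apply, h.pel_spec]; simp [prm]

theorem Dat.Fix.pel_e8 (h : D.Fix) (i : GolayPt) : h.pel • e8 i = e8 (D.sx i) := Subtype.ext (by
  rw [h.pel_spec, ← h.sigma_apply]
  funext q
  simp [prm, e8, Pi.single_apply, Equiv.symm_apply_eq])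

theorem Dat.Fix.pel_pow_spec (h : D.Fix) : ∀ (n : ℕ) (v : Lv),
    ((h.pel ^ n • v : Lv) : Zv) = prm (D.sigma ^ n) (v : Zv)
  | 0, v => by rw [pow_zero, pow_zero, one_smul]; funext q; simp [prm, Equiv.Perm.one_def]
  | n + 1, v => by rw [pow_succ', pow_succ', mul_smul, h.pel_spec, h.pel_pow_spec n]; rfl

theorem Dat.Fix.sigma_pow (h : D.Fix) : D.sigma ^ D.p = 1 := Equiv.ext fun q => by
  rw [Equiv.Perm.one_apply, ← Equiv.Perm.iterate_eq_pow,
    show (D.sigma : GolayPt → GolayPt) = D.sx from funext h.sigma_apply]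
  exact h.pow q

theorem Dat.Fix.pel_pow (h : D.Fix) : h.pel ^ D.p = 1 := co0_ext fun v => by
  rw [h.pel_pow_spec, h.sigma_pow, one_smul]; funext q; simp [prm, Equiv.Perm.one_def]

theorem Dat.Fix.pel_ne (h : D.Fix) : h.pel ≠ 1 := by
  intro e
  obtain ⟨i, hi⟩ := h.moves
  have := congrArg (fun v : Lv => (v : Zv) (D.sx i)) (h.pel_e8 i)
  rw [e, one_smul] at this
  simp [e8, hi] at this

/-! ### coordinates -/

theorem dot_add_l (a b y : Zv) : dotInt (a + b) y = dotInt a y + dotInt b y := by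
  simp only [dotInt, Pi.add_apply, add_mul, Finset.sum_add_distrib]

theorem dot_two (a y : Zv) : dotInt (2 • a) y = 2 * dotInt a y := by
  simp only [dotInt, Pi.smul_apply, nsmul_eq_mul, Finset.mul_sum]
  exact Finset.sum_congr rfl fun _ _ => by push_cast; ring

theorem Dat.Fix.dual_mem (h : D.Fix) (j : Fin 8) : D.dF j ∈ leechLattice := leechCheck_mem (h.dual_ok j)

theorem Dat.Fix.coord_add (h : D.Fix) {x y : Zv} (hx : x ∈ leechLattice) (hy : y ∈ leechLattice) :
    D.coordF (x + y) = D.coordF x + D.coordF y := funext fun j => by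
  show ((dotInt (x + y) (D.dF j) / 8 : ℤ) : ZMod 2) = _
  rw [dot_add_l, Int.add_ediv_of_dvd_left (leech_dot hx (h.dual_mem j)), Int.cast_add]
  rfl

theorem Dat.Fix.coord_cong (h : D.Fix) {x y : Zv} (hy : y ∈ leechLattice) (e : Cong2 x y) :
    D.coordF x = D.coordF y := by
  obtain ⟨w, hw, e⟩ := e
  have hx : x = y + 2 • w := by rw [← e]; abel
  subst hx
  funext j
  show ((dotInt (y + 2 • w) (D.dF j) / 8 : ℤ) : ZMod 2) = ((dotInt y (D.dF j) / 8 : ℤ) : ZMod 2)
  obtain ⟨k, hk⟩ := leech_dot hw (h.dual_mem j)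
  obtain ⟨l, hl⟩ := leech_dot hy (h.dual_mem j)
  rw [dot_add_l, dot_two, hk, hl, show 8 * l + 2 * (8 * k) = 8 * (l + 2 * k) by ring,
    Int.mul_ediv_cancel_left _ (by norm_num), Int.mul_ediv_cancel_left _ (by norm_num), Int.cast_add,
    Int.cast_mul, show ((2 : ℤ) : ZMod 2) = 0 from rfl, zero_mul, add_zero]

/-- a basis vector -/
def Dat.Fix.bv (h : D.Fix) (j : Fin 8) : Lv := ⟨D.bF j, leechCheck_mem (h.basis_ok j)⟩

/-- a combination -/
def Dat.Fix.comb (h : D.Fix) (c : V8) : Lv := ∑ j, if c j = 1 then h.bv j else 0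

theorem Dat.Fix.comb_val (h : D.Fix) (c : V8) : ((h.comb c : Lv) : Zv) = D.combF c := by
  funext q
  simp only [Dat.Fix.comb, Dat.combF, AddSubgroup.val_finsetSum, Finset.sum_apply]
  exact Finset.sum_congr rfl fun j _ => by split_ifs <;> rfl

theorem Dat.Fix.comb_zero (h : D.Fix) : h.comb 0 = 0 := by simp [Dat.Fix.comb]

theorem Dat.Fix.comb_add_cong (h : D.Fix) (c d : V8) :
    Cong2 ((h.comb c + h.comb d : Lv) : Zv) ((h.comb (c + d) : Lv) : Zv) := by
  have hj : ∀ j, Cong2 ((((if c j = 1 then h.bv j else 0) + if d j = 1 then h.bv j else 0) : Lv) : Zv)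
      (((if (c + d) j = 1 then h.bv j else 0) : Lv) : Zv) := by
    intro j
    rw [Pi.add_apply]
    rcases word_eq_one_or_zero (c j) with e | e <;> rcases word_eq_one_or_zero (d j) with e' | e' <;>
      rw [e, e'] <;>
      simp only [zero_ne_one, if_true, if_false, add_zero, zero_add, AddSubgroup.coe_add, AddSubgroup.coe_zero] <;>
      first
        | exact Cong2.refl' _
        | (rw [show (1 : ZMod 2) + 1 = 0 from rfl, if_neg zero_ne_one]
           exact ⟨(h.bv j : Zv), (h.bv j).2, by rw [AddSubgroup.coe_zero, sub_zero, two_nsmul]⟩)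
  rw [Dat.Fix.comb, Dat.Fix.comb, Dat.Fix.comb, ← Finset.sum_add_distrib, AddSubgroup.val_finsetSum,
    AddSubgroup.val_finsetSum]
  exact cong_sum _ _ fun j _ => hj j

theorem Dat.Fix.coord_zero (h : D.Fix) : D.coordF 0 = 0 := by
  funext j; simp [Dat.coordF, dotInt]

/-- coordinates as a homomorphism -/
def Dat.Fix.coordHom (h : D.Fix) : Lv →+ V8 :=
  AddMonoidHom.mk' (fun v => D.coordF (v : Zv)) fun u v => h.coord_add u.2 v.2

theorem Dat.Fix.coord_comb (h : D.Fix) (c : V8) : D.coordF ((h.comb c : Lv) : Zv) = c := by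
  show h.coordHom (h.comb c) = c
  rw [Dat.Fix.comb, map_sum]
  funext i
  rw [Finset.sum_apply, Finset.sum_eq_single i]
  · split_ifs with e
    · show D.coordF (D.bF i) i = _
      rw [h.pairing, Pi.single_eq_same, e]
    · rw [map_zero, Pi.zero_apply]
      exact ((word_eq_one_or_zero (c i)).resolve_right e).symm
  · intro j _ hji
    split_ifs
    · show D.coordF (D.bF j) i = 0
      rw [h.pairing, Pi.single_eq_of_ne (Ne.symm hji)]
    · rw [map_zero, Pi.zero_apply]
  · simp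

theorem Dat.Fix.comb_inj (h : D.Fix) {c d : V8}
    (e : Cong2 ((h.comb c : Lv) : Zv) ((h.comb d : Lv) : Zv)) : c = d := by
  rw [← h.coord_comb c, ← h.coord_comb d, h.coord_cong (h.comb d).2 e]

theorem Dat.Fix.e8_cong (h : D.Fix) : Cong2 ((e8 none : Lv) : Zv) ((h.comb base : Lv) : Zv) := by
  have hc : h.comb base = h.bv 0 := by
    rw [Dat.Fix.comb, Finset.sum_eq_single 0 (fun j _ hj => by simp [base, hj]) (by simp)]
    simp [base]
  rw [hc]
  have := congB_sound h.base_ok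
  rwa [show (fun p : GolayPt => if p = none then (8 : ℤ) else 0) = ((e8 none : Lv) : Zv) from
    funext fun p => by simp [e8, Pi.single_apply]] at this

theorem Dat.Fix.pel_bv (h : D.Fix) (j : Fin 8) : h.pel • h.bv j = h.bv j := Subtype.ext (funext fun q => by
  obtain ⟨r, rfl⟩ := D.sigma.surjective q
  rw [h.sigma_apply, h.pel_apply]
  exact (h.basis_fix j r).symm)

theorem Dat.Fix.pel_comb (h : D.Fix) (c : V8) : h.pel • h.comb c = h.comb c := by
  let f : Lv →+ Lv := AddMonoidHom.mk' (fun u => h.pel • u) (co0_add h.pel)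
  show f (h.comb c) = h.comb c
  rw [Dat.Fix.comb, map_sum]
  refine Finset.sum_congr rfl fun j _ => ?_
  split_ifs
  · exact h.pel_bv j
  · exact map_zero f

/-! ### fixed vectors -/

/-- vectors congruent to combinations -/
def Dat.Fix.span (h : D.Fix) : AddSubgroup Zv where
  carrier := {x | x ∈ leechLattice ∧ ∃ c, Cong2 x ((h.comb c : Lv) : Zv)}
  zero_mem' := ⟨zero_mem _, 0, by rw [h.comb_zero]; exact Cong2.refl' _⟩
  add_mem' := by
    rintro x y ⟨hx, c, e⟩ ⟨hy, d, e'⟩
    refine ⟨add_mem hx hy, c + d, (cong_add e e').trans ?_⟩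
    rw [← AddSubgroup.coe_add]
    exact h.comb_add_cong c d
  neg_mem' := by
    rintro x ⟨hx, c, e⟩
    exact ⟨neg_mem hx, c, (cong_neg hx).trans e⟩

theorem Dat.Fix.const (h : D.Fix) {v : Lv} (e : h.pel • v = v) (q : GolayPt) :
    (v : Zv) q = (v : Zv) (D.orep (D.orb q)) := by
  have key : ∀ (n : ℕ) (r : GolayPt), (v : Zv) (D.sx^[n] r) = (v : Zv) r := by
    intro n
    induction n with
    | zero => intro r; rfl
    | succ n ih =>
      intro r
      rw [Function.iterate_succ_apply', ← ih r]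
      conv_lhs => rw [← e]
      exact h.pel_apply v _
  conv_lhs => rw [← h.reach q]
  exact key _ _

theorem mod_two_sum {ι : Type*} (s : Finset ι) (k : ι → ℕ) (f : ι → ℤ) (hk : ∀ i ∈ s, k i % 2 = 1) :
    (∑ i ∈ s, (k i : ℤ) * f i) % 2 = (∑ i ∈ s, f i) % 2 := by
  refine Int.ModEq.sum fun i hi => ?_
  have := hk i hi
  show (k i : ℤ) * f i % 2 = f i % 2
  rw [Int.mul_emod, show (k i : ℤ) % 2 = 1 by omega, one_mul, Int.emod_emod_of_dvd _ dvd_rfl]

theorem Dat.Fix.sum_parity (h : D.Fix) (s : Fin 8 → ℤ) : (∑ q, s (D.orb q)) % 2 = (∑ j, s j) % 2 := by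
  rw [← Finset.sum_fiberwise Finset.univ D.orb]
  have e : ∀ j, ∑ q ∈ Finset.univ.filter (fun q => D.orb q = j), s (D.orb q) =
      (((Finset.univ.filter fun q => D.orb q = j).card : ℕ) : ℤ) * s j := fun j => by
    rw [Finset.sum_congr rfl (g := fun _ => s j) (fun q hq => by rw [(Finset.mem_filter.1 hq).2]),
      Finset.sum_const, nsmul_eq_mul]
  simp only [e]
  exact mod_two_sum _ _ _ fun j _ => h.size j

theorem Dat.Fix.quad_span (h : D.Fix) (s : Fin 8 → ℤ) (hs : (2 : ℤ) ∣ ∑ j, s j) :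
    (fun q => 4 * s (D.orb q)) ∈ h.span := by
  rw [Fin.sum_univ_eight] at hs
  obtain ⟨k, hk⟩ := hs
  have hq : ∀ j, (fun q => 4 * quadVec j (D.orb q)) ∈ h.span := fun j =>
    ⟨leechCheck_mem (h.quad_ok j).1, _, by rw [h.comb_val]; exact congB_sound (h.quad_ok j).2⟩
  let t : Fin 8 → ℤ := ![s 0, s 1 - s 0, s 2 - (s 1 - s 0), s 3 - (s 2 - (s 1 - s 0)),
    s 4 - (s 3 - (s 2 - (s 1 - s 0))), s 5 - (s 4 - (s 3 - (s 2 - (s 1 - s 0)))),
    s 6 - (s 5 - (s 4 - (s 3 - (s 2 - (s 1 - s 0))))), k - (s 6 + s 4 + s 2 + s 0)]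
  have e : (fun q => 4 * s (D.orb q)) = ∑ j, t j • (fun q => 4 * quadVec j (D.orb q) : Zv) := by
    funext q
    simp only [Finset.sum_apply, Pi.smul_apply, smul_eq_mul, Fin.sum_univ_eight]
    generalize D.orb q = o
    fin_cases o <;> simp [t, quadVec] <;> omega
  rw [e]
  exact sum_mem fun j _ => zsmul_mem (hq j) _

theorem Dat.Fix.fixed_vector (h : D.Fix) {v : Lv} (e : h.pel • v = v) : (v : Zv) ∈ h.span := by
  obtain ⟨m, hm, hsum, hdig⟩ := mem_leech.1 v.2
  set t : Fin 8 → ℤ := fun j => (v : Zv) (D.orep j) with ht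
  have hconst := h.const e
  let m' : Fin 2 := ⟨(m % 2).toNat, by omega⟩
  have hd' : ∀ f : Fin 8 → Bool, ∃ d : Fin 256, ∀ j : Fin 8, Nat.testBit d j = f j := by decide +kernel
  obtain ⟨d, hdd⟩ := hd' fun j => decide (t j / 2 % 2 = 1)
  have hbit : ∀ j : Fin 8, (if Nat.testBit d j then (1 : ℤ) else 0) = t j / 2 % 2 := fun j => by
    rw [hdd]
    rcases Int.emod_two_eq_zero_or_one (t j / 2) with a | a <;> simp [a]
  have hd : digit (D.resVec m' d) = digit (v : Zv) := by
    funext q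
    simp only [digit, Dat.resVec, hbit]
    rw [ZMod.intCast_eq_intCast_iff_dvd_sub, hconst q]
    show (2 : ℤ) ∣ t (D.orb q) / 2 - (((m % 2).toNat : ℤ) + 2 * (t (D.orb q) / 2 % 2)) / 2
    omega
  have hcode : inCode (wmask (digit (D.resVec m' d))) = true := by
    rw [hd]; exact inCode_of_mem (mem_code.1 hdig)
  obtain ⟨l, hl, hres⟩ := List.any_eq_true.1 (h.resid_complete m' d hcode)
  rw [decide_eq_true_eq] at hres
  have hok := List.all_eq_true.1 h.resid_ok l hl
  simp only [Bool.and_eq_true, decide_eq_true_eq] at hok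
  obtain ⟨⟨hmem, hec⟩, hcg⟩ := hok
  set x : Zv := vecOf l with hx
  have hw : x ∈ h.span := ⟨leechCheck_mem hmem, _, by rw [h.comb_val]; exact congB_sound hcg⟩
  have hdiv : ∀ j, ∃ k : ℤ, t j - x (D.orep j) = 4 * k := fun j => by
    refine ⟨(t j - x (D.orep j)) / 4, ?_⟩
    have h1 : x (D.orep j) % 4 = ((m % 2).toNat : ℤ) + 2 * (t j / 2 % 2) := by rw [← hbit]; exact hres j
    have h2 : t j % 2 = m % 2 := hm (D.orep j)
    omega
  choose s hs using hdiv
  have hsub : (v : Zv) - x = fun q => 4 * s (D.orb q) := by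
    funext q
    rw [Pi.sub_apply, hconst q, hec q]
    exact hs _
  have hmem2 : (v : Zv) - x ∈ leechLattice := sub_mem v.2 hw.1
  obtain ⟨m2, hm2, hsum2, -⟩ := mem_leech.1 hmem2
  rw [hsub] at hm2 hsum2
  have hpar := hm2 none
  have hsp := h.sum_parity s
  simp only at hpar hsum2
  rw [← Finset.mul_sum] at hsum2
  have : (v : Zv) = x + fun q => 4 * s (D.orb q) := by rw [← hsub]; abel
  rw [this]
  refine add_mem hw (h.quad_span s ?_)
  omega

theorem Dat.Fix.fixed_class (h : D.Fix) {v : Lv} (e : Cong2 ((h.pel • v : Lv) : Zv) (v : Zv)) :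
    Cong2 (v : Zv) ((h.comb (D.coordF (v : Zv)) : Lv) : Zv) := by
  have hp : ∀ n : ℕ, Cong2 ((h.pel ^ n • v : Lv) : Zv) (v : Zv) := by
    intro n
    induction n with
    | zero => rw [pow_zero, one_smul]; exact Cong2.refl' _
    | succ n ih => rw [pow_succ', mul_smul]; exact (cong_smul h.pel ih).trans e
  let y : Lv := ∑ i ∈ Finset.range D.p, h.pel ^ i • v
  have hy : h.pel • y = y := by
    let f : Lv →+ Lv := AddMonoidHom.mk' (fun u => h.pel • u) (co0_add h.pel)
    show f y = y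
    rw [map_sum]
    show ∑ i ∈ Finset.range D.p, h.pel • h.pel ^ i • v = y
    simp only [← mul_smul, ← pow_succ']
    have e1 := Finset.sum_range_succ' (fun i => h.pel ^ i • v) D.p
    rw [Finset.sum_range_succ, h.pel_pow, pow_zero] at e1
    exact (add_right_cancel e1).symm
  obtain ⟨-, c, hc⟩ := h.fixed_vector hy
  obtain ⟨k, hk⟩ : ∃ k, D.p = 2 * k + 1 := ⟨D.p / 2, by have := h.odd; omega⟩
  have hvy : Cong2 (v : Zv) (y : Zv) := by
    refine cong_symm ?_
    have h7 : Cong2 (y : Zv) ((∑ _i ∈ Finset.range D.p, v : Lv) : Zv) := by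
      rw [AddSubgroup.val_finsetSum, AddSubgroup.val_finsetSum]
      exact cong_sum _ _ fun i _ => hp i
    refine h7.trans ⟨(k • v : Lv), (k • v : Lv).2, ?_⟩
    rw [Finset.sum_const, Finset.card_range, AddSubgroup.coe_nsmul, AddSubgroup.coe_nsmul, hk]
    funext q
    simp only [Pi.sub_apply, Pi.smul_apply, smul_eq_mul, nsmul_eq_mul, Pi.mul_apply, Pi.natCast_apply]
    push_cast
    ring
  have hvc := hvy.trans hc
  rwa [h.coord_cong (h.comb c).2 hvc, h.coord_comb]

end Cfsg.Agent.Spor.CoLocal
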