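import Cfsg.Agent.Lib.Spor.CoLocal.Rep

/-!
The centraliser of the image of the element permutes the objects, with kernel generated by the element.
-/

set_option autoImplicit false

namespace Cfsg.Agent.Spor.CoLocal

open Cfsg Cfsg.Agent.Spor.MonsterFusion
open Co1Seven (congB congB_sound cong_symm cong_add cong_sum cong_neg cong_smul co0_neg units_ext pr)
open scoped Pointwise

local notation "Zv" => GolayPt → ℤ
set_option quotPrecheck false in
local notation "Lv" => ↥leechLattice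
local notation "V8" => Fin 8 → ZMod 2

variable {D : Dat}

/-- permutations of classes compatible with permutations of objects -/
def Dat.Rel (D : Dat) (π : Equiv.Perm V8) (τ : Equiv.Perm (Fin D.n)) : Prop :=
  ∀ i c, D.obj (τ i) (π c) = D.obj i c

theorem Dat.Ok.rel_unique (O : D.Ok) {π : Equiv.Perm V8} {τ τ' : Equiv.Perm (Fin D.n)} (h : D.Rel π τ)
    (h' : D.Rel π τ') : τ = τ' := Equiv.ext fun i => O.chk.distinct _ _ fun c => by
  obtain ⟨d, rfl⟩ := π.surjective c
  rw [h, h']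

theorem Dat.rel_one (D : Dat) : D.Rel 1 1 := fun _ _ => rfl

theorem Dat.Rel.mul {π π' : Equiv.Perm V8} {τ τ' : Equiv.Perm (Fin D.n)} (h : D.Rel π τ) (h' : D.Rel π' τ') :
    D.Rel (π * π') (τ * τ') := fun i c => (h _ _).trans (h' i c)

theorem Dat.Rel.inv {π : Equiv.Perm V8} {τ : Equiv.Perm (Fin D.n)} (h : D.Rel π τ) : D.Rel π⁻¹ τ⁻¹ := fun i c => by
  have := h (τ⁻¹ i) (π⁻¹ c)
  simpa using this.symm

theorem Dat.Ok.gel_exists (O : D.Ok) {k : ℕ} (hk : k < D.gens.length) :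
    ∃ g : ↥Co0, (∀ i : GolayPt, ((g • e8 i : Lv) : Zv) = D.mat k i) ∧
      (∀ j : Fin 8, D.coordF ((g • O.fix.bv j : Lv) : Zv) = D.img k j) ∧
      g * O.fix.pel = O.fix.pel * g := by
  have h := O.chk.words k hk
  simp only [Bool.and_eq_true, List.all_eq_true, List.mem_range, beq_iff_eq] at h
  obtain ⟨x, hx⟩ := exists_xi
  obtain ⟨g, -, hg⟩ := word_elem ⊤ (fun _ _ => Subgroup.mem_top _) (Subgroup.mem_top x) hx (D.gens.getD k [])
    (List.all_eq_true.2 h.1)
  have hmat : ∀ i : GolayPt, ((g • e8 i : Lv) : Zv) = D.mat k i := fun i => by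
    obtain ⟨ht, he⟩ := h.2 (idx i) ((idx_lt i).trans (by norm_num))
    have := (trace_sound _ _ ht).2
    rw [he, if_pos (idx_lt i), Co1Seven.vecOf_unit] at this
    rw [hg]; exact this
  refine ⟨g, hmat, fun j => ?_, units_ext fun i => ?_⟩
  · obtain ⟨ht, he⟩ := h.2 (24 + j) (by omega)
    have := (trace_sound _ _ ht).2
    rw [he, if_neg (by omega), Nat.add_sub_cancel_left] at this
    rw [hg]
    exact congrArg D.coordF this
  · rw [mul_smul, mul_smul, O.fix.pel_e8]
    refine Subtype.ext (funext fun q => ?_)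
    obtain ⟨r, rfl⟩ := D.sigma.surjective q
    rw [O.fix.sigma_apply, O.fix.pel_apply, hmat, hmat]
    exact O.chk.comm k hk i r

/-- a generator -/
noncomputable def Dat.Ok.gel (O : D.Ok) (k : Fin D.gens.length) : O.C0 :=
  ⟨(O.gel_exists k.2).choose,
    Subgroup.mem_centralizer_singleton_iff.2 (O.gel_exists k.2).choose_spec.2.2⟩

theorem Dat.Ok.gel_act (O : D.Ok) (k : Fin D.gens.length) (c : V8) : O.act (O.gel k) c = D.lin k c := by
  let f : V8 →+ V8 := AddMonoidHom.mk' (O.act (O.gel k)) (O.act_add _)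
  have e : c = ∑ j, (if c j = 1 then Pi.single j 1 else 0 : V8) := by revert c; decide +kernel
  show f c = _
  conv_lhs => rw [e]
  rw [map_sum]
  refine Finset.sum_congr rfl fun j _ => ?_
  split_ifs
  · exact (O.act_bv _ j).trans ((O.gel_exists k.2).choose_spec.2.1 j)
  · exact map_zero f

/-- the permutation of objects of a generator -/
noncomputable def Dat.Ok.gtau (O : D.Ok) (k : Fin D.gens.length) : Equiv.Perm (Fin D.n) :=
  Equiv.ofBijective (fun i => ⟨D.gp k i, (O.chk.lin_ok k k.2 i 0).1⟩) (Finite.injective_iff_bijective.1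
    fun i j e => O.chk.distinct _ _ fun c => by
      rw [← (O.chk.lin_ok k k.2 i c).2, ← (O.chk.lin_ok k k.2 j c).2,
        show D.gp k i = D.gp k j from congrArg Fin.val e])

theorem Dat.Ok.gtau_val (O : D.Ok) (k : Fin D.gens.length) (i : Fin D.n) : ((O.gtau k i : Fin D.n) : ℕ) = D.gp k i :=
  rfl

theorem Dat.Ok.gel_rel (O : D.Ok) (k : Fin D.gens.length) : D.Rel (O.rho (O.gel k)) (O.gtau k) := fun i c => by
  rw [O.rho_apply, O.gel_act]
  exact (O.chk.lin_ok k k.2 i c).2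

/-- the group of permutations of objects -/
noncomputable def Dat.Ok.K (O : D.Ok) : Subgroup (Equiv.Perm (Fin D.n)) := Subgroup.closure (Set.range O.gtau)

/-- enough permutations of objects -/
def Dat.Ok.Big (O : D.Ok) : Prop := D.orbMax * (16 * D.centMax) ≤ 2 * D.p * Nat.card O.K

theorem Dat.Ok.K_lifts (O : D.Ok) : ∀ τ ∈ O.K, ∃ g : O.C0, D.Rel (O.rho g) τ := by
  intro τ hτ
  induction hτ using Subgroup.closure_induction with
  | mem x hx => obtain ⟨k, rfl⟩ := hx; exact ⟨O.gel k, O.gel_rel k⟩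
  | one => exact ⟨1, by rw [map_one]; exact D.rel_one⟩
  | mul a b _ _ ha hb =>
    obtain ⟨g, hg⟩ := ha
    obtain ⟨g', hg'⟩ := hb
    exact ⟨g * g', by rw [map_mul]; exact hg.mul hg'⟩
  | inv a _ ha =>
    obtain ⟨g, hg⟩ := ha
    exact ⟨g⁻¹, by rw [map_inv]; exact hg.inv⟩

theorem Dat.Ok.neg_act (O : D.Ok) {m : ↥Co0} (hm : ∀ v : Lv, ((m • v : Lv) : Zv) = -(v : Zv)) (c : V8) :
    Cong2 ((m • O.fix.comb c : Lv) : Zv) ((O.fix.comb c : Lv) : Zv) := by
  rw [hm]; exact cong_neg (O.fix.comb c).2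

theorem lift_rel {p : ℕ} (hp : p % 2 = 1) {x y : ↥Co0} (h : pr x = pr y) (hx : x ^ p = 1) (hy : y ^ p = 1) :
    x = y := by
  obtain ⟨k, rfl⟩ : ∃ k, p = 2 * k + 1 := ⟨p / 2, by omega⟩
  obtain ⟨m, hm⟩ := negation_exists
  have hm2 : m * m = 1 := co0_ext fun v => by rw [mul_smul, hm, hm, neg_neg, one_smul]
  have hc : x⁻¹ * y ∈ Subgroup.center ↥Co0 := QuotientGroup.eq.1 h
  rcases center_cases hm hc with e | e
  · exact inv_mul_eq_one.1 e
  · exfalso
    have e2 : y = x * m := by rw [← e, mul_inv_cancel_left]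
    have hcm : Commute x m := Subgroup.mem_center_iff.1 (negation_mem_center hm) x
    rw [e2, hcm.mul_pow, hx, one_mul, pow_succ, pow_mul, sq, hm2, one_pow, one_mul] at hy
    have := congrArg (fun v : Lv => (v : Zv) none) (show m • e8 none = e8 none by rw [hy, one_smul])
    simp only [hm, Pi.neg_apply] at this
    simp [e8] at this

theorem pow_two_inj {m : ↥Co0} (hm : ∀ v : Lv, ((m • v : Lv) : Zv) = -(v : Zv)) :
    ∀ i i' : Fin 2, m ^ (i : ℕ) = m ^ (i' : ℕ) → i = i' := by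
  have hne : m ≠ 1 := fun hm1 => by
    have := congrArg (fun v : Lv => (v : Zv) none) (show m • e8 none = e8 none by rw [hm1, one_smul])
    simp only [hm, Pi.neg_apply] at this
    simp [e8] at this
  simp [Fin.forall_fin_two, hne, hne.symm]

theorem Dat.Ok.ker_big (O : D.Ok) : 2 * D.p ≤ Nat.card O.rho.ker := by
  classical
  haveI := O.C0_finite
  haveI : Fact D.p.Prime := ⟨O.fix.prime⟩
  obtain ⟨m, hm⟩ := negation_exists
  have hmc := negation_mem_center hm
  have hord : orderOf O.fix.pel = D.p := orderOf_eq_prime O.fix.pel_pow O.fix.pel_ne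
  let x : Fin 2 × Fin D.p → ↥Co0 := fun a => m ^ (a.1 : ℕ) * O.fix.pel ^ (a.2 : ℕ)
  have hxc : ∀ a, x a ∈ O.C0 := fun a => mul_mem
    (pow_mem (Subgroup.center_le_centralizer _ hmc) _) (pow_mem (Subgroup.mem_centralizer_singleton_iff.2 rfl) _)
  have hmem : ∀ a, (⟨x a, hxc a⟩ : O.C0) ∈ O.rho.ker := fun a => Equiv.ext fun c => by
    rw [O.rho_apply]
    have hp : ∀ i : ℕ, O.fix.pel ^ i • O.fix.comb c = O.fix.comb c := by
      intro i
      induction i with
      | zero => rw [pow_zero, one_smul]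
      | succ i ih => rw [pow_succ', mul_smul, ih, O.fix.pel_comb]
    show D.coordF ((x a • O.fix.comb c : Lv) : Zv) = c
    rw [mul_smul, hp]
    obtain ⟨i, j⟩ := a
    fin_cases i
    · simp [O.fix.coord_comb]
    · change D.coordF ((m ^ 1 • O.fix.comb c : Lv) : Zv) = c
      rw [pow_one, O.fix.coord_cong (O.fix.comb c).2 (O.neg_act hm c), O.fix.coord_comb]
  refine le_trans (by rw [Nat.card_prod, Nat.card_fin, Nat.card_fin])
    (Nat.card_le_card_of_injective (fun a => (⟨⟨x a, hxc a⟩, hmem a⟩ : O.rho.ker)) fun a b e => ?_)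
  have e' : x a = x b := congrArg (fun g : O.rho.ker => ((g : O.C0) : ↥Co0)) e
  have hm2 : m * m = 1 := co0_ext fun v => by rw [mul_smul, hm, hm, neg_neg, one_smul]
  have hpr : pr (O.fix.pel ^ (a.2 : ℕ)) = pr (O.fix.pel ^ (b.2 : ℕ)) := by
    have hk : ∀ i : ℕ, pr (m ^ i) = 1 := fun i => by
      rw [map_pow, show pr m = 1 from (QuotientGroup.eq_one_iff m).2 hmc, one_pow]
    have := congrArg pr e'
    simpa [x, hk] using this
  have h2 := lift_rel O.fix.odd hpr
    (by rw [← pow_mul, mul_comm, pow_mul, O.fix.pel_pow, one_pow])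
    (by rw [← pow_mul, mul_comm, pow_mul, O.fix.pel_pow, one_pow])
  have h3 : (a.2 : ℕ) = b.2 := pow_injOn_Iio_orderOf (by simp [hord]) (by simp [hord]) h2
  simp only [x, h3, mul_left_inj] at e'
  exact Prod.ext (pow_two_inj hm _ _ e') (Fin.ext h3)

theorem Dat.Ok.range_eq (O : D.Ok) (hB : O.Big) (g : O.C0) : ∃ τ ∈ O.K, D.Rel (O.rho g) τ := by
  classical
  haveI := O.C0_finite
  choose h hh using O.K_lifts
  let f : O.K → O.rho.range := fun τ => ⟨O.rho (h τ.1 τ.2), _, rfl⟩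
  have hf : Function.Injective f := fun a b e => Subtype.ext (O.rel_unique (π := O.rho (h a.1 a.2)) (hh _ _)
    (by rw [show O.rho (h a.1 a.2) = O.rho (h b.1 b.2) from congrArg Subtype.val e]; exact hh _ _))
  have hcard : 2 * D.p * Nat.card O.rho.range ≤ 2 * D.p * Nat.card O.K := by
    refine le_trans ?_ (O.card_C0.trans hB)
    rw [Subgroup.card_eq_card_quotient_mul_card_subgroup O.rho.ker,
      Nat.card_congr (QuotientGroup.quotientKerEquivRange O.rho).toEquiv, mul_comm (2 * D.p)]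
    exact Nat.mul_le_mul_left _ O.ker_big
  have hle : Nat.card O.rho.range ≤ Nat.card O.K :=
    Nat.le_of_mul_le_mul_left hcard (by have := O.fix.prime.pos; omega)
  have hbij : Function.Bijective f :=
    (Nat.bijective_iff_injective_and_card f).2 ⟨hf, le_antisymm (Nat.card_le_card_of_injective f hf) hle⟩
  obtain ⟨τ, hτ⟩ := hbij.2 ⟨O.rho g, g, rfl⟩
  exact ⟨τ.1, τ.2, by rw [← show O.rho (h τ.1 τ.2) = O.rho g from congrArg Subtype.val hτ]; exact hh _ _⟩

/-- the action on objects -/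
noncomputable def Dat.Ok.nu (O : D.Ok) (hB : O.Big) : O.C0 →* O.K :=
  MonoidHom.mk' (fun g => ⟨(O.range_eq hB g).choose, (O.range_eq hB g).choose_spec.1⟩) fun a b =>
    Subtype.ext (O.rel_unique (O.range_eq hB (a * b)).choose_spec.2
      (by rw [map_mul]; exact (O.range_eq hB a).choose_spec.2.mul (O.range_eq hB b).choose_spec.2))

theorem Dat.Ok.nu_eq (O : D.Ok) (hB : O.Big) {g : O.C0} {τ : O.K} (h : D.Rel (O.rho g) τ) : O.nu hB g = τ :=
  Subtype.ext (O.rel_unique (O.range_eq hB g).choose_spec.2 h)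

theorem Dat.Ok.nu_surj (O : D.Ok) (hB : O.Big) : Function.Surjective (O.nu hB) := fun τ => by
  obtain ⟨g, hg⟩ := O.K_lifts τ.1 τ.2
  exact ⟨g, O.nu_eq hB hg⟩

theorem Dat.Ok.nu_ker (O : D.Ok) (hB : O.Big) : Nat.card (O.nu hB).ker ≤ 2 * D.p := by
  haveI := O.C0_finite
  have h := O.card_C0.trans hB
  rw [Subgroup.card_eq_card_quotient_mul_card_subgroup (O.nu hB).ker,
    Nat.card_congr (QuotientGroup.quotientKerEquivOfSurjective _ (O.nu_surj hB)).toEquiv, mul_comm] at h
  exact Nat.le_of_mul_le_mul_right h Nat.card_pos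

/-! ### the image in the first Conway group -/

/-- the element -/
noncomputable def Dat.Ok.beta (O : D.Ok) : Cfsg.Spor.Co1 := pr O.fix.pel

theorem Dat.Ok.orderOf_beta (O : D.Ok) : orderOf O.beta = D.p := by
  haveI : Fact D.p.Prime := ⟨O.fix.prime⟩
  refine orderOf_eq_prime (by rw [Dat.Ok.beta, ← map_pow, O.fix.pel_pow, map_one]) fun h => ?_
  exact O.fix.pel_ne (lift_rel O.fix.odd (x := O.fix.pel) (y := 1) (by rw [map_one]; exact h) O.fix.pel_pow
    (one_pow _))

theorem Dat.Ok.exists_lift (O : D.Ok) (a : Subgroup.centralizer ({O.beta} : Set Cfsg.Spor.Co1)) :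
    ∃ g : O.C0, pr (g : ↥Co0) = a := by
  obtain ⟨g, hg⟩ := QuotientGroup.mk'_surjective (Subgroup.center ↥Co0) (a : Cfsg.Spor.Co1)
  have hg' : pr g = (a : Cfsg.Spor.Co1) := hg
  have h1 : pr (g * O.fix.pel * g⁻¹) = pr O.fix.pel := by
    rw [map_mul, map_mul, map_inv, hg', ← Dat.Ok.beta, Subgroup.mem_centralizer_singleton_iff.1 a.2,
      mul_inv_cancel_right]
  have e := lift_rel O.fix.odd h1 (by rw [conj_pow, O.fix.pel_pow, mul_one, mul_inv_cancel]) O.fix.pel_pow
  exact ⟨⟨g, Subgroup.mem_centralizer_singleton_iff.2 (mul_inv_eq_iff_eq_mul.1 e)⟩, hg'⟩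

theorem Dat.Ok.nu_lift (O : D.Ok) (hB : O.Big) {g g' : O.C0} (e : pr (g : ↥Co0) = pr (g' : ↥Co0)) :
    O.nu hB g = O.nu hB g' := by
  refine O.nu_eq hB (g := g) (τ := O.nu hB g') ?_
  suffices h : O.rho g = O.rho g' by
    rw [h]; exact (O.range_eq hB g').choose_spec.2
  refine Equiv.ext fun c => ?_
  obtain ⟨m, hm⟩ := negation_exists
  have hc : (g : ↥Co0)⁻¹ * g' ∈ Subgroup.center ↥Co0 := QuotientGroup.eq.1 e
  rcases center_cases hm hc with h | h
  · rw [show g = g' from Subtype.ext (inv_mul_eq_one.1 h)]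
  · have e2 : (g' : ↥Co0) = g * m := by rw [← h, mul_inv_cancel_left]
    rw [O.rho_apply, O.rho_apply]
    refine (O.fix.coord_cong ((g : ↥Co0) • O.fix.comb c : Lv).2 ?_).symm
    rw [e2, mul_smul]
    exact cong_smul _ (O.neg_act hm c)

/-- the action on objects of the centraliser -/
noncomputable def Dat.Ok.mu (O : D.Ok) (hB : O.Big) : ↥(Subgroup.centralizer ({O.beta} : Set Cfsg.Spor.Co1)) →* O.K :=
  MonoidHom.mk' (fun a => O.nu hB (O.exists_lift a).choose) fun a b => by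
    rw [← map_mul]
    refine O.nu_lift hB ?_
    exact (O.exists_lift (a * b)).choose_spec.trans (by
      rw [Subgroup.coe_mul, Subgroup.coe_mul, map_mul, (O.exists_lift a).choose_spec, (O.exists_lift b).choose_spec])

theorem Dat.Ok.mu_eq (O : D.Ok) (hB : O.Big) {a : Subgroup.centralizer ({O.beta} : Set Cfsg.Spor.Co1)}
    {g : O.C0} (h : pr (g : ↥Co0) = a) : O.mu hB a = O.nu hB g :=
  O.nu_lift hB ((O.exists_lift a).choose_spec.trans h.symm)

theorem Dat.Ok.mu_surj (O : D.Ok) (hB : O.Big) : Function.Surjective (O.mu hB) := fun τ => by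
  obtain ⟨g, rfl⟩ := O.nu_surj hB τ
  refine ⟨⟨pr (g : ↥Co0), Subgroup.mem_centralizer_singleton_iff.2 ?_⟩, O.mu_eq hB rfl⟩
  rw [Dat.Ok.beta, ← map_mul, ← map_mul, O.C0_comm g]

theorem Dat.Ok.mu_trivial (O : D.Ok) (hB : O.Big) {a : Subgroup.centralizer ({O.beta} : Set Cfsg.Spor.Co1)}
    {g : ↥Co0} (hg : pr g = a) (h : ∀ c, Cong2 ((g • O.fix.comb c : Lv) : Zv) ((O.fix.comb c : Lv) : Zv)) :
    O.mu hB a = 1 := by
  obtain ⟨g', hg'⟩ := O.exists_lift a
  rw [O.mu_eq hB hg']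
  refine O.nu_eq hB (τ := 1) ?_
  suffices hr : O.rho g' = 1 by rw [hr]; exact D.rel_one
  refine Equiv.ext fun c => ?_
  obtain ⟨m, hm⟩ := negation_exists
  have hc : g⁻¹ * (g' : ↥Co0) ∈ Subgroup.center ↥Co0 := QuotientGroup.eq.1 (hg.trans hg'.symm)
  rw [O.rho_apply, Equiv.Perm.one_apply]
  refine (O.fix.coord_cong (O.fix.comb c).2 ?_).trans (O.fix.coord_comb c)
  rcases center_cases hm hc with e | e
  · rw [← inv_mul_eq_one.1 e]; exact h c
  · rw [show (g' : ↥Co0) = g * m by rw [← e, mul_inv_cancel_left], mul_smul]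
    exact (cong_smul _ (O.neg_act hm c)).trans (h c)

theorem Dat.Ok.beta_mem (O : D.Ok) : O.beta ∈ Subgroup.centralizer ({O.beta} : Set Cfsg.Spor.Co1) :=
  Subgroup.mem_centralizer_singleton_iff.2 rfl

theorem Dat.Ok.mu_ker (O : D.Ok) (hB : O.Big) (a : Subgroup.centralizer ({O.beta} : Set Cfsg.Spor.Co1)) :
    O.mu hB a = 1 ↔ (a : Cfsg.Spor.Co1) ∈ Subgroup.zpowers O.beta := by
  classical
  haveI := co0_finite
  have hb : (⟨O.beta, O.beta_mem⟩ : Subgroup.centralizer ({O.beta} : Set Cfsg.Spor.Co1)) ∈ (O.mu hB).ker :=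
    O.mu_trivial hB (g := O.fix.pel) rfl fun c => by rw [O.fix.pel_comb]; exact Cong2.refl' _
  obtain ⟨m, hm⟩ := negation_exists
  have hmc := negation_mem_center hm
  choose l hl using O.exists_lift
  let f : (O.mu hB).ker × Fin 2 → (O.nu hB).ker := fun x =>
    ⟨l x.1 * ⟨m ^ (x.2 : ℕ), pow_mem (Subgroup.center_le_centralizer _ hmc) _⟩, by
      rw [MonoidHom.mem_ker, ← O.mu_eq hB (a := (x.1 : Subgroup.centralizer ({O.beta} : Set Cfsg.Spor.Co1))) ?_]
      · exact x.1.2
      · rw [Subgroup.coe_mul, map_mul, hl, map_pow, show pr m = 1 from (QuotientGroup.eq_one_iff m).2 hmc,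
          one_pow, mul_one]⟩
  have hf : Function.Injective f := by
    intro x y e
    have e' : (l x.1 : ↥Co0) * m ^ (x.2 : ℕ) = l y.1 * m ^ (y.2 : ℕ) :=
      congrArg (fun g : (O.nu hB).ker => ((g : O.C0) : ↥Co0)) e
    have h1 : x.1 = y.1 := by
      have := congrArg pr e'
      rw [map_mul, map_mul, hl, hl, map_pow, map_pow, show pr m = 1 from (QuotientGroup.eq_one_iff m).2 hmc,
        one_pow, one_pow, mul_one, mul_one] at this
      exact Subtype.ext (Subtype.ext this)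
    rw [h1, mul_right_inj] at e'
    exact Prod.ext h1 (pow_two_inj hm _ _ e')
  have h2 := (Nat.card_le_card_of_injective f hf).trans (O.nu_ker hB)
  rw [Nat.card_prod, Nat.card_fin] at h2
  have h3 : Subgroup.zpowers (⟨O.beta, O.beta_mem⟩ : Subgroup.centralizer ({O.beta} : Set Cfsg.Spor.Co1)) =
      (O.mu hB).ker := by
    refine Subgroup.eq_of_le_of_card_ge (Subgroup.zpowers_le.2 hb) ?_
    rw [Nat.card_zpowers, ← Subgroup.orderOf_coe, O.orderOf_beta]
    omega
  rw [← MonoidHom.mem_ker, ← h3, Subgroup.mem_zpowers_iff, Subgroup.mem_zpowers_iff]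
  exact exists_congr fun k => by rw [Subtype.ext_iff, SubgroupClass.coe_zpow]

theorem Dat.Ok.beta_stab (O : D.Ok) : O.beta ∈ classStab1 (e8 none) := by
  refine ⟨O.fix.pel, ?_, rfl⟩
  rw [SetLike.mem_coe, mem_classStab]
  refine ((cong_smul _ O.fix.e8_cong).trans ?_).trans (cong_symm O.fix.e8_cong)
  rw [O.fix.pel_comb]
  exact Cong2.refl' _

end Cfsg.Agent.Spor.CoLocal
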