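import Cfsg.Agent.Lib.Spor.CoLocal.Main

/-!
Small groups of permutations: containing the alternating group, and without normal 2-subgroups.
-/

set_option autoImplicit false

namespace Cfsg.Agent.Spor.CoLocal

open scoped Pointwise

/-- value of a word -/
def evalW {α : Type*} (P : ℕ → Equiv.Perm α) (w : List ℕ) : Equiv.Perm α := (w.map P).prod

theorem evalW_mem {α : Type*} {K : Subgroup (Equiv.Perm α)} {P : ℕ → Equiv.Perm α} (hP : ∀ k, P k ∈ K)
    (w : List ℕ) : evalW P w ∈ K :=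
  Subgroup.list_prod_mem K fun x hx => by
    obtain ⟨k, -, rfl⟩ := List.mem_map.1 hx
    exact hP k

theorem alternating_le {n : ℕ} (hn : 3 ≤ n) {K : Subgroup (Equiv.Perm (Fin n))}
    (h : ∀ a b c : Fin n, a ≠ b → a ≠ c → b ≠ c → Equiv.swap a b * Equiv.swap a c ∈ K) :
    alternatingGroup (Fin n) ≤ K := by
  rw [← Equiv.Perm.closure_three_cycles_eq_alternating, Subgroup.closure_le]
  intro σ hσ
  have h0 : (⟨0, by omega⟩ : Fin n) ≠ ⟨1, by omega⟩ := by simp [Fin.ext_iff]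
  have h1 : (⟨0, by omega⟩ : Fin n) ≠ ⟨2, by omega⟩ := by simp [Fin.ext_iff]
  have h2 : (⟨1, by omega⟩ : Fin n) ≠ ⟨2, by omega⟩ := by simp [Fin.ext_iff]
  have ht := Equiv.Perm.isThreeCycle_swap_mul_swap_same h0 h1 h2
  have hconj : IsConj (Equiv.swap (⟨0, by omega⟩ : Fin n) ⟨1, by omega⟩ *
      Equiv.swap (⟨0, by omega⟩ : Fin n) ⟨2, by omega⟩) σ := by
    rw [Equiv.Perm.isConj_iff_cycleType_eq]
    exact ht.cycleType.trans (Equiv.Perm.IsThreeCycle.cycleType hσ).symm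
  obtain ⟨π, rfl⟩ := isConj_iff.1 hconj
  have e : ∀ a b : Fin n, π * Equiv.swap a b * π⁻¹ = Equiv.swap (π a) (π b) := fun a b =>
    (Equiv.swap_apply_apply π a b).symm
  rw [show ∀ x y : Equiv.Perm (Fin n), π * (x * y) * π⁻¹ = (π * x * π⁻¹) * (π * y * π⁻¹) from
    fun x y => by group, e, e]
  exact h _ _ _ (π.injective.ne h0) (π.injective.ne h1) (π.injective.ne h2)

/-- the property of two elements fixing a point -/
def NoBlock {n : ℕ} (a : Fin n) (u v : Equiv.Perm (Fin n)) : Prop :=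
  ∀ S : Finset (Fin n), a ∈ S → (∀ i ∈ S, u i ∈ S) → (∀ i ∈ S, v i ∈ S) → S.card ∈ [2, 4, 8] → False

theorem no_two_normal {n : ℕ} (hn : n < 16) {K : Subgroup (Equiv.Perm (Fin n))} (a : Fin n)
    (htr : ∀ i, ∃ g ∈ K, g a = i) {u v : Equiv.Perm (Fin n)} (hu : u ∈ K) (hv : v ∈ K) (hua : u a = a)
    (hva : v a = a) (hB : NoBlock a u v) (N : Subgroup K) [hN : N.Normal] (h2 : IsPGroup 2 N) : N = ⊥ := by
  classical
  haveI : Fact (Nat.Prime 2) := ⟨Nat.prime_two⟩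
  letI : MulAction N (Fin n) := MulAction.compHom _ (K.subtype.comp N.subtype)
  set S : Finset (Fin n) := Finset.univ.filter fun i => i ∈ MulAction.orbit N a with hS
  have hmem : ∀ i, i ∈ S ↔ ∃ m : N, ((m : K) : Equiv.Perm (Fin n)) a = i := fun i => by
    rw [hS, Finset.mem_filter, MulAction.mem_orbit_iff]
    simp only [Finset.mem_univ, true_and]
    rfl
  have hclosed : ∀ g : Equiv.Perm (Fin n), g ∈ K → g a = a → ∀ i ∈ S, g i ∈ S := by
    intro g hg hga i hi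
    obtain ⟨m, rfl⟩ := (hmem i).1 hi
    refine (hmem _).2 ⟨⟨(⟨g, hg⟩ : K) * m * (⟨g, hg⟩ : K)⁻¹, hN.conj_mem _ m.2 _⟩, ?_⟩
    simp only [Subgroup.coe_mul, InvMemClass.coe_inv, Equiv.Perm.mul_apply]
    rw [show g⁻¹ a = a from Equiv.Perm.inv_eq_iff_eq.2 hga.symm]
  have hcard : ∃ k : ℕ, S.card = 2 ^ k := by
    obtain ⟨k, hk⟩ := h2.card_orbit a
    refine ⟨k, ?_⟩
    rw [← hk, Nat.card_eq_fintype_card, ← Set.toFinset_card]
    congr 1
    ext i; simp [hS]
  have haS : a ∈ S := (hmem a).2 ⟨1, rfl⟩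
  have h1 : S.card = 1 := by
    obtain ⟨k, hk⟩ := hcard
    have hle : S.card ≤ n := (Finset.card_le_univ S).trans (by simp)
    have hk4 : k < 4 := by
      by_contra hc
      have : 2 ^ 4 ≤ 2 ^ k := Nat.pow_le_pow_right (by norm_num) (by omega)
      omega
    interval_cases k
    · exact hk
    all_goals exact (hB S haS (hclosed u hu hua) (hclosed v hv hva) (by rw [hk]; simp)).elim
  have hfix : ∀ m : N, ((m : K) : Equiv.Perm (Fin n)) a = a := fun m => by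
    obtain ⟨b, hb⟩ := Finset.card_eq_one.1 h1
    have e1 := (hmem (((m : K) : Equiv.Perm (Fin n)) a)).2 ⟨m, rfl⟩
    rw [hb, Finset.mem_singleton] at e1
    rw [hb, Finset.mem_singleton] at haS
    rw [e1, haS]
  rw [Subgroup.eq_bot_iff_forall]
  intro m hm
  refine Subtype.ext (Equiv.ext fun i => ?_)
  obtain ⟨g, hg, rfl⟩ := htr i
  have e := hfix ⟨(⟨g, hg⟩ : K)⁻¹ * m * (⟨g, hg⟩ : K)⁻¹⁻¹, hN.conj_mem _ hm _⟩
  simp only [Subgroup.coe_mul, InvMemClass.coe_inv, inv_inv, Equiv.Perm.mul_apply, Equiv.Perm.inv_eq_iff_eq] at e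
  simpa using e

variable {D : Dat}

/-- what the local analysis needs from the group of permutations -/
structure Dat.Ok.Group (O : D.Ok) : Prop where
  big : O.Big
  noTwo : ∀ N : Subgroup O.K, N.Normal → IsPGroup 2 N → N = ⊥

theorem Dat.Ok.K_eq (O : D.Ok) (P : ℕ → Equiv.Perm (Fin D.n))
    (h : ∀ k, k < D.gens.length → ∀ i, D.gp k i = (P k i : ℕ)) :
    ∀ k, k < D.gens.length → P k ∈ O.K := fun k hk =>
  Subgroup.subset_closure ⟨⟨k, hk⟩, Equiv.ext fun i => Fin.ext (by rw [O.gtau_val]; exact h k hk i)⟩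

theorem Dat.Ok.K_le (O : D.Ok) (P : ℕ → Equiv.Perm (Fin D.n))
    (h : ∀ k, k < D.gens.length → ∀ i, D.gp k i = (P k i : ℕ)) {K : Subgroup (Equiv.Perm (Fin D.n))}
    (hK : ∀ k, k < D.gens.length → P k ∈ K) : O.K ≤ K := by
  rw [Dat.Ok.K, Subgroup.closure_le]
  rintro _ ⟨k, rfl⟩
  rw [show O.gtau k = P k from Equiv.ext fun i => Fin.ext (by rw [O.gtau_val]; exact h k k.2 i)]
  exact hK k k.2

end Cfsg.Agent.Spor.CoLocal
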