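import Cfsg.Agent.Lib.Spor.CoLocal.Fixed
import Cfsg.Agent.Lib.Spor.MonsterSplit
import Cfsg.Agent.Lib.Spor.Co1Seven

/-!
The centraliser of the element acts on the fixed classes; a bound on its order.
-/

set_option autoImplicit false

namespace Cfsg.Agent.Spor.CoLocal

open Cfsg Cfsg.Agent.Spor.MonsterFusion
open Co1Seven (congB congB_sound cong_symm cong_add cong_sum cong_neg cong_smul co0_neg units_ext)
open scoped Pointwise

local notation "Zv" => GolayPt → ℤ
set_option quotPrecheck false in
local notation "Lv" => ↥leechLattice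
local notation "V8" => Fin 8 → ZMod 2

/-- the conditions together -/
structure Dat.Ok (D : Dat) : Prop where
  fix : D.Fix
  chk : D.Chk
  cent : Nat.card (Subgroup.centralizer ({(⟨D.sigma, fix.mem⟩ : M24)} : Set M24)) ≤ D.centMax

variable {D : Dat}

/-- the centraliser in the lattice group -/
noncomputable def Dat.Ok.C0 (O : D.Ok) : Subgroup ↥Co0 := Subgroup.centralizer ({O.fix.pel} : Set ↥Co0)

theorem Dat.Ok.C0_comm (O : D.Ok) (g : O.C0) : (g : ↥Co0) * O.fix.pel = O.fix.pel * g :=
  Subgroup.mem_centralizer_singleton_iff.1 g.2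

theorem Dat.Ok.image_cong (O : D.Ok) (g : O.C0) (c : V8) :
    Cong2 (((g : ↥Co0) • O.fix.comb c : Lv) : Zv)
      ((O.fix.comb (D.coordF (((g : ↥Co0) • O.fix.comb c : Lv) : Zv)) : Lv) : Zv) := by
  refine O.fix.fixed_class ?_
  rw [← mul_smul, ← O.C0_comm g, mul_smul, O.fix.pel_comb]
  exact Cong2.refl' _

/-- action on classes -/
noncomputable def Dat.Ok.act (O : D.Ok) (g : O.C0) (c : V8) : V8 :=
  D.coordF (((g : ↥Co0) • O.fix.comb c : Lv) : Zv)

theorem Dat.Ok.act_mul (O : D.Ok) (g g' : O.C0) (c : V8) : O.act (g * g') c = O.act g (O.act g' c) := by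
  refine (O.fix.coord_cong ((g : ↥Co0) • O.fix.comb (O.act g' c) : Lv).2 ?_)
  rw [Subgroup.coe_mul, mul_smul]
  exact cong_smul _ (O.image_cong g' c)

theorem Dat.Ok.act_one (O : D.Ok) (c : V8) : O.act 1 c = c := by
  show D.coordF (((1 : ↥Co0) • O.fix.comb c : Lv) : Zv) = c
  rw [one_smul, O.fix.coord_comb]

theorem Dat.Ok.act_add (O : D.Ok) (g : O.C0) (c d : V8) : O.act g (c + d) = O.act g c + O.act g d := by
  show D.coordF _ = D.coordF _ + D.coordF _
  rw [← O.fix.coord_add ((g : ↥Co0) • O.fix.comb c : Lv).2 ((g : ↥Co0) • O.fix.comb d : Lv).2]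
  refine O.fix.coord_cong (add_mem ((g : ↥Co0) • O.fix.comb c : Lv).2 ((g : ↥Co0) • O.fix.comb d : Lv).2) ?_
  rw [← AddSubgroup.coe_add, ← co0_add]
  exact cong_smul _ (cong_symm (O.fix.comb_add_cong c d))

theorem Dat.Ok.act_bv (O : D.Ok) (g : O.C0) (j : Fin 8) :
    O.act g (Pi.single j 1) = D.coordF (((g : ↥Co0) • O.fix.bv j : Lv) : Zv) := by
  have hc : O.fix.comb (Pi.single j 1) = O.fix.bv j := by
    rw [Dat.Fix.comb, Finset.sum_eq_single j (fun i _ hi => by simp [hi]) (by simp)]
    simp
  show D.coordF _ = _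
  rw [hc]

/-- the representation on classes -/
noncomputable def Dat.Ok.rho (O : D.Ok) : O.C0 →* Equiv.Perm V8 :=
  MonoidHom.mk' (fun g =>
    { toFun := O.act g
      invFun := O.act g⁻¹
      left_inv := fun c => by rw [← O.act_mul, inv_mul_cancel, O.act_one]
      right_inv := fun c => by rw [← O.act_mul, mul_inv_cancel, O.act_one] })
    fun g g' => Equiv.ext fun c => O.act_mul g g' c

theorem Dat.Ok.rho_apply (O : D.Ok) (g : O.C0) (c : V8) : O.rho g c = O.act g c := rfl

/-! ### the bound -/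

theorem Dat.Ok.not_short (O : D.Ok) (g : O.C0) : D.isShort (O.act g base) = false := by
  rw [← Bool.not_eq_true]
  intro hs
  set v : Lv := (g : ↥Co0) • e8 none with hv
  have hn : sqNorm (v : Zv) = 64 := ((g : ↥Co0).2.2 _).trans (e8_norm none)
  have hc : Cong2 (v : Zv) ((O.fix.comb (O.act g base) : Lv) : Zv) :=
    (cong_smul _ O.fix.e8_cong).trans (O.image_cong g base)
  simp only [Dat.isShort, Bool.or_eq_true, decide_eq_true_eq, List.any_eq_true] at hs
  rcases hs with h0 | ⟨w, hw, hwc⟩
  · rw [h0, O.fix.comb_zero, AddSubgroup.coe_zero] at hc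
    obtain ⟨z, hz, e⟩ := hc
    rw [sub_zero] at e
    rw [e, ← natCast_zsmul, sqNorm_smul] at hn
    by_cases hz0 : z = 0
    · rw [hz0] at hn; simp [sqNorm] at hn
    · have := (leech_norm hz).2 hz0
      norm_num at hn
      omega
  · have hok := List.all_eq_true.1 O.chk.short_ok w hw
    simp only [Bool.and_eq_true, decide_eq_true_eq] at hok
    obtain ⟨⟨hmem, hle⟩, hcg⟩ := hok
    rw [hwc] at hcg
    rw [O.fix.comb_val] at hc
    have hvw := hc.trans (cong_symm (congB_sound hcg))
    have h := congruent_short v.2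
      (fun e => by rw [e] at hn; omega)
      (fun e => by rw [e, sqNorm_neg] at hn; omega) hn.le (by omega) hvw
    omega

theorem Dat.Ok.mono_form (O : D.Ok) (g : O.C0) (hg : O.act g base = base) :
    ∃ x : Subgroup.centralizer ({(⟨D.sigma, O.fix.mem⟩ : M24)} : Set M24),
      ∃ w : GolayPt → ZMod 2, wmask w ∈ D.masks ∧
        ∀ v : Lv, (((g : ↥Co0) • v : Lv) : Zv) = sgn w (prm ((x : M24) : Equiv.Perm GolayPt) (v : Zv)) := by
  have hmono : (g : ↥Co0) ∈ monoSub := by
    rw [← classStab_e8, mem_classStab]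
    refine ((cong_smul _ O.fix.e8_cong).trans (O.image_cong g base)).trans ?_
    rw [show D.coordF _ = base from hg]
    exact cong_symm O.fix.e8_cong
  obtain ⟨σ, hσ, w, hw, e⟩ := std_form (mem_monoSub.1 hmono)
  have z : ∀ v : Lv, ((O.fix.pel • v : Lv) : Zv) = sgn 0 (prm D.sigma (v : Zv)) := fun v => by
    rw [O.fix.pel_spec]; funext p; simp [sgn]
  obtain ⟨h1, h2⟩ := mono_unique (σ := σ * D.sigma) (τ := D.sigma * σ) (w := w + actW σ 0)
    (w' := 0 + actW D.sigma w) fun v => by
      rw [← mono_mul e z v, ← mono_mul z e v, O.C0_comm g]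
  rw [zero_add, show actW σ 0 = 0 from rfl, add_zero] at h2
  refine ⟨⟨⟨σ, hσ⟩, Subgroup.mem_centralizer_singleton_iff.2 (Subtype.ext h1)⟩, w, ?_, e⟩
  have hm := List.all_eq_true.1 O.chk.mask_ok _ (mem_code.1 hw)
  rw [Bool.or_eq_true, List.elem_iff] at hm
  refine hm.resolve_left ?_
  rw [Bool.not_eq_true', Bool.not_eq_false]
  refine List.all_eq_true.2 fun i hi => beq_iff_eq.2 ?_
  have hi24 := List.mem_range.1 hi
  have hp : w (D.sigma (pt i)) = w (pt i) := by
    conv_lhs => rw [h2]
    show w (D.sigma.symm (D.sigma (pt i))) = _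
    rw [Equiv.symm_apply_apply]
  have htb : ∀ p : GolayPt, Nat.testBit (wmask w) (idx p) = true ↔ w p = 1 := by
    intro p
    rw [wmask, testBit_mask_idx, mem_support₂]
    rcases word_eq_one_or_zero (w p) with hwp | hwp <;> simp [hwp]
  rw [show D.perm.getD i 0 = idx (D.sigma (pt i)) by
    have := rep_lperm (m24ok_lok O.fix.perm_ok) (pt i); rw [idx_pt i hi24] at this; exact this]
  conv_rhs => rw [← idx_pt i hi24]
  exact Bool.eq_iff_iff.2 (by rw [htb, htb, hp])

/-- the stabiliser of the base class -/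
noncomputable def Dat.Ok.stab (O : D.Ok) : Subgroup O.C0 where
  carrier := {g | O.act g base = base}
  one_mem' := O.act_one base
  mul_mem' := fun {a b} ha hb => by
    show O.act (a * b) base = base
    rw [O.act_mul, show O.act b base = base from hb]; exact ha
  inv_mem' := fun {a} ha => by
    show O.act a⁻¹ base = base
    conv_lhs => rw [← show O.act a base = base from ha]
    rw [← O.act_mul, inv_mul_cancel, O.act_one]

theorem wmask_inj {w w' : GolayPt → ZMod 2} (h : wmask w = wmask w') : w = w' := by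
  funext p
  have htb : ∀ u : GolayPt → ZMod 2, Nat.testBit (wmask u) (idx p) = true ↔ u p = 1 := by
    intro u
    rw [wmask, testBit_mask_idx, mem_support₂]
    rcases word_eq_one_or_zero (u p) with a | a <;> simp [a]
  have h1 : w p = 1 ↔ w' p = 1 := by rw [← htb w, ← htb w', h]
  rcases word_eq_one_or_zero (w p) with a | a <;> rcases word_eq_one_or_zero (w' p) with b | b <;>
    simp [a, b] at h1 ⊢

theorem Dat.Ok.card_stab (O : D.Ok) : Nat.card O.stab ≤ 16 * D.centMax := by
  classical
  choose x w hw e using fun g : O.stab => O.mono_form g.1 g.2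
  let f : O.stab → ↥D.masks.toFinset ×
      Subgroup.centralizer ({(⟨D.sigma, O.fix.mem⟩ : M24)} : Set M24) :=
    fun g => (⟨wmask (w g), List.mem_toFinset.2 (hw g)⟩, x g)
  have hf : Function.Injective f := by
    intro a b h
    have h1 : w a = w b := wmask_inj (congrArg (fun y => (y.1 : ℕ)) h)
    have h2 : x a = x b := congrArg Prod.snd h
    refine Subtype.ext (Subtype.ext (co0_ext fun v => ?_))
    rw [e, e, h1, h2]
  refine (Nat.card_le_card_of_injective f hf).trans ?_
  rw [Nat.card_prod, Nat.card_eq_fintype_card, Fintype.card_coe]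
  exact Nat.mul_le_mul ((List.toFinset_card_le _).trans O.chk.mask_len) O.cent

theorem Dat.Ok.C0_finite (O : D.Ok) : Finite O.C0 := by
  haveI := co0_finite
  infer_instance

theorem Dat.Ok.card_C0 (O : D.Ok) : Nat.card O.C0 ≤ D.orbMax * (16 * D.centMax) := by
  classical
  haveI := co0_finite
  rw [Subgroup.card_eq_card_quotient_mul_card_subgroup O.stab]
  refine Nat.mul_le_mul ?_ O.card_stab
  refine le_trans ?_ O.chk.orb_max
  rw [← Fintype.card_coe, ← Nat.card_eq_fintype_card]
  refine Nat.card_le_card_of_injective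
    (fun q : O.C0 ⧸ O.stab => (⟨O.act q.out base, by simp [O.not_short]⟩ :
      ↥(Finset.univ.filter fun c : V8 => D.isShort c = false))) fun a b h => ?_
  have h1 : O.act a.out base = O.act b.out base := congrArg Subtype.val h
  rw [← a.out_eq', ← b.out_eq']
  refine QuotientGroup.eq.2 ?_
  show O.act _ base = base
  rw [O.act_mul, ← h1, ← O.act_mul, inv_mul_cancel, O.act_one]

end Cfsg.Agent.Spor.CoLocal
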