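import Cfsg.Agent.Lib.Spor.CoLocal.ThreeCentData
import Cfsg.Agent.Lib.Spor.CoLocal.Fixed
import Cfsg.Agent.Lib.Spor.MathieuTwentyFourCounts

/-!
The centraliser in M24 of a fixed point free permutation of order three has at most 504 elements.
-/

set_option autoImplicit false
set_option maxRecDepth 100000
set_option maxHeartbeats 1000000

namespace Cfsg.Agent.Spor.CoLocal

open Cfsg
open scoped Pointwise

/-- commutation with the normalised permutation, packed -/
def commP (r : ℕ) (v : ℕ) : Bool :=
  (List.range 24).all fun i => pget r v (threeNormed.getD i 0) == threeNormed.getD (pget r v i) 0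

/-- the packed solutions -/
def threeSols : List (ℕ × ℕ) :=
  (threeTrans.map packList).flatMap fun r => (fix4Packed.filter (commP r)).map fun v => (r, v)

theorem three_sols_len : threeSols.length ≤ 21 := by decide +kernel

theorem three_norm_ok : m24ok threeNorm = true ∧ m24ok threeNormed = true ∧ threeTrans.all m24ok = true ∧
    threeNormed.getD 0 0 = 1 ∧ threeNormed.getD 1 0 = 2 ∧
    threeTrans.all (fun r => r.getD 0 0 == 0 && r.getD 1 0 == 1 && r.getD 2 0 == 2) = true ∧
    (∀ w : Fin 24, 3 ≤ (w : ℕ) → threeTrans.any (fun r => r.getD 3 0 == w) = true) ∧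
    lmul threeNorm threeDat.perm = lmul threeNormed threeNorm := by decide +kernel

/-- the normalised element -/
noncomputable def threeN : M24 := ⟨lperm threeNormed, lperm_mem three_norm_ok.2.1⟩

theorem threeN_apply (p : GolayPt) : idx (lperm threeNormed p) = threeNormed.getD (idx p) 0 :=
  (rep_lperm (m24ok_lok three_norm_ok.2.1) p).symm

theorem three_point_stab {τ : Equiv.Perm GolayPt} (hτ : τ ∈ M24) (hc : τ * lperm threeNormed = lperm threeNormed * τ)
    (h0 : τ (pt 0) = pt 0) : ∃ s ∈ threeSols, ∀ p, pget s.1 s.2 (idx p) = idx (τ p) := by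
  obtain ⟨-, hn, ht, e0, e1, h012, hw, -⟩ := three_norm_ok
  have hs : ∀ p, lperm threeNormed (τ p) = τ (lperm threeNormed p) := fun p =>
    (congrArg (fun f : Equiv.Perm GolayPt => f p) hc).symm
  have hi1 : lperm threeNormed (pt 0) = pt 1 := idx_injective (by
    rw [threeN_apply, idx_pt 0 (by norm_num), idx_pt 1 (by norm_num), e0])
  have hi2 : lperm threeNormed (pt 1) = pt 2 := idx_injective (by
    rw [threeN_apply, idx_pt 1 (by norm_num), idx_pt 2 (by norm_num), e1])
  have h1 : τ (pt 1) = pt 1 := by rw [← hi1, ← hs, h0]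
  have h2 : τ (pt 2) = pt 2 := by rw [← hi2, ← hs, h1]
  have h3 : 3 ≤ idx (τ (pt 3)) := by
    by_contra hlt
    have hinj : ∀ i, i < 3 → τ (pt i) = pt i := fun i hi => by interval_cases i <;> assumption
    have e : τ (pt 3) = τ (pt (idx (τ (pt 3)))) := by
      exact ((hinj (idx (τ (pt 3))) (by omega)).trans (pt_idx _)).symm
    have := congrArg idx (τ.injective e)
    rw [idx_pt 3 (by norm_num), idx_pt _ (idx_lt _)] at this
    omega
  obtain ⟨r, hr, hr3⟩ := List.any_eq_true.1 (hw ⟨_, idx_lt _⟩ h3)
  have hr012 := List.all_eq_true.1 h012 r hr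
  simp only [Bool.and_eq_true, beq_iff_eq] at hr012 hr3
  obtain ⟨v, hv, hrep⟩ := coset_repP (List.all_eq_true.1 ht r hr) hτ fun i hi => by
    interval_cases i
    · rw [h0, idx_pt 0 (by norm_num), hr012.1.1]
    · rw [h1, idx_pt 1 (by norm_num), hr012.1.2]
    · rw [h2, idx_pt 2 (by norm_num), hr012.2]
    · exact hr3.symm
  refine ⟨(packList r, v), List.mem_flatMap.2 ⟨_, List.mem_map.2 ⟨r, hr, rfl⟩,
    List.mem_map.2 ⟨v, List.mem_filter.2 ⟨hv, ?_⟩, rfl⟩⟩, hrep⟩
  refine List.all_eq_true.2 fun i hi => beq_iff_eq.2 ?_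
  have hi24 := List.mem_range.1 hi
  rw [← idx_pt i hi24, ← threeN_apply, hrep, hrep, ← threeN_apply, hs]

theorem three_centralizer_le : Nat.card (Subgroup.centralizer ({threeN} : Set M24)) ≤ 504 := by
  classical
  set C := Subgroup.centralizer ({threeN} : Set M24) with hC
  let S : Subgroup C := (MulAction.stabilizer (Equiv.Perm GolayPt) (pt 0)).comap
    (M24.subtype.comp C.subtype)
  have hmem : ∀ c : S, ∃ s : ↥threeSols.toFinset, ∀ p,
      pget s.1.1 s.1.2 (idx p) = idx ((((c : C) : M24) : Equiv.Perm GolayPt) p) := fun c => by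
    obtain ⟨s, hs, h⟩ := three_point_stab ((c : C) : M24).2
      (congrArg Subtype.val (Subgroup.mem_centralizer_singleton_iff.1 (c : C).2)) c.2
    exact ⟨⟨s, List.mem_toFinset.2 hs⟩, h⟩
  choose f hf using hmem
  have hS : Nat.card S ≤ 21 := by
    refine (Nat.card_le_card_of_injective f fun a b e => Subtype.ext (Subtype.ext (Subtype.ext
      (Equiv.ext fun p => idx_injective ?_)))).trans ?_
    · rw [← hf, ← hf, e]
    · rw [Nat.card_eq_fintype_card, Fintype.card_coe]
      exact (List.toFinset_card_le _).trans three_sols_len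
  rw [Subgroup.card_eq_card_quotient_mul_card_subgroup S]
  refine le_trans (Nat.mul_le_mul ?_ hS) (le_refl (24 * 21))
  refine (Nat.card_le_card_of_injective (fun q : C ⧸ S => ((q.out : C) : M24).1 (pt 0)) fun a b e => ?_).trans
    (by rw [Nat.card_eq_fintype_card]; rfl)
  rw [← a.out_eq', ← b.out_eq']
  refine QuotientGroup.eq.2 ?_
  show ((((a.out : C)⁻¹ * b.out : C) : M24) : Equiv.Perm GolayPt) (pt 0) = pt 0
  simp only [Subgroup.coe_mul, InvMemClass.coe_inv, Equiv.Perm.mul_apply]
  rw [Equiv.Perm.inv_eq_iff_eq]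
  exact e.symm

theorem three_cent (h : threeDat.Fix) :
    Nat.card (Subgroup.centralizer ({(⟨threeDat.sigma, h.mem⟩ : M24)} : Set M24)) ≤ threeDat.centMax := by
  obtain ⟨hk, hn, -, -, -, -, -, hconj⟩ := three_norm_ok
  set k : M24 := ⟨lperm threeNorm, lperm_mem hk⟩
  set σ : M24 := ⟨threeDat.sigma, h.mem⟩
  have e : k * σ = threeN * k := by
    refine Subtype.ext ?_
    show lperm threeNorm * lperm threeDat.perm = lperm threeNormed * lperm threeNorm
    exact rep_unique ((rep_lperm (m24ok_lok hk)).mul (rep_lperm (m24ok_lok h.perm_ok)))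
      (hconj ▸ (rep_lperm (m24ok_lok hn)).mul (rep_lperm (m24ok_lok hk)))
  refine le_trans (le_of_eq ?_) three_centralizer_le
  have e' : threeN = MulAut.conj k σ := by show threeN = k * σ * k⁻¹; rw [e, mul_inv_cancel_right]
  have hmap : (Subgroup.centralizer ({σ} : Set M24)).map (MulAut.conj k).toMonoidHom =
      Subgroup.centralizer ({threeN} : Set M24) := by
    ext x
    rw [Subgroup.mem_map, Subgroup.mem_centralizer_singleton_iff, e']
    constructor
    · rintro ⟨y, hy, rfl⟩
      show MulAut.conj k y * MulAut.conj k σ = _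
      rw [← map_mul, Subgroup.mem_centralizer_singleton_iff.1 hy, map_mul]
      rfl
    · intro hx
      refine ⟨(MulAut.conj k).symm x, ?_, (MulAut.conj k).apply_symm_apply x⟩
      rw [Subgroup.mem_centralizer_singleton_iff]
      apply (MulAut.conj k).injective
      rw [map_mul, map_mul, MulEquiv.apply_symm_apply]
      exact hx
  rw [← hmap, Subgroup.card_map_of_injective (MulAut.conj k).injective]

end Cfsg.Agent.Spor.CoLocal
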