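import Cfsg.Agent.Lib.Spor.CoLocal.ThreeData

/-!
The conditions on the data of order three.
-/

set_option autoImplicit false
set_option maxRecDepth 100000
set_option maxHeartbeats 2000000

namespace Cfsg.Agent.Spor.CoLocal

set_option synthInstance.maxSize 512 in
theorem three_fix : threeDat.Fix where
  prime := by show Nat.Prime 3; norm_num
  odd := rfl
  perm_ok := by decide +kernel
  pow := by decide +kernel
  moves := by decide +kernel
  reach := by decide +kernel
  orep_orb := by decide +kernel
  size := by decide +kernel
  basis_ok := by decide +kernel
  dual_ok := by decide +kernel
  pairing := by decide +kernel
  basis_fix := by decide +kernel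
  base_ok := by decide +kernel
  resid_ok := by decide +kernel
  resid_complete := by decide +kernel
  quad_ok := by decide +kernel

set_option synthInstance.maxSize 512 in
theorem three_chk : threeDat.Chk where
  short_ok := by decide +kernel
  orb_max := by decide +kernel
  mask_ok := by decide +kernel
  mask_len := by decide +kernel
  words := by decide +kernel
  comm := by decide +kernel
  lin_ok := by decide +kernel
  distinct := by decide +kernel

end Cfsg.Agent.Spor.CoLocal
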