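import Cfsg.Agent.Lib.Spor.CoLocal.PermGroup
import Cfsg.Agent.Lib.Spor.CoLocal.ThreeChk
import Cfsg.Agent.Lib.Spor.CoLocal.ThreeCent
import Cfsg.Agent.Lib.Spor.CoLocal.ThreeWords

/-!
The centraliser of the element of order three permutes nine objects as the alternating group.
-/

set_option autoImplicit false
set_option maxRecDepth 100000
set_option maxHeartbeats 2000000

namespace Cfsg.Agent.Spor.CoLocal

open Cfsg
open scoped Pointwise

theorem three_ok' : threeDat.Ok := ⟨three_fix, three_chk, three_cent three_fix⟩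

/-- the first permutation -/
def threeP0 : Equiv.Perm (Fin 9) :=
  ⟨![7, 8, 0, 1, 5, 6, 4, 2, 3], ![2, 3, 7, 8, 6, 4, 5, 0, 1], by decide +kernel, by decide +kernel⟩

/-- the second permutation -/
def threeP1 : Equiv.Perm (Fin 9) :=
  ⟨![0, 6, 4, 5, 8, 1, 3, 2, 7], ![0, 5, 7, 6, 2, 3, 1, 8, 4], by decide +kernel, by decide +kernel⟩

/-- the permutations -/
def threeP (k : ℕ) : Equiv.Perm (Fin 9) := if k = 0 then threeP0 else threeP1

theorem threeP_gp : ∀ k, k < 2 → ∀ i : Fin 9, (threeDat.gperm.getD k []).getD i 0 = (threeP k i : ℕ) := by decide +kernel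

theorem three_gens_len : threeDat.gens.length = 2 := rfl

/-- the group of permutations of objects, on plain points -/
noncomputable def threeKK : Subgroup (Equiv.Perm (Fin 9)) := three_ok'.K

theorem threeP_mem (k : ℕ) : threeP k ∈ threeKK := by
  have h : ∀ k, k < 2 → threeP k ∈ threeKK := fun k hk => three_ok'.K_eq threeP
    (fun k hk => threeP_gp k (three_gens_len ▸ hk)) k (three_gens_len ▸ hk)
  by_cases h0 : k = 0
  · subst h0; exact h 0 (by norm_num)
  · rw [show threeP k = threeP 1 by simp [threeP, h0]]; exact h 1 (by norm_num)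

theorem threeCyc_ok : ∀ a b c : Fin 9, a ≠ b → a ≠ c → b ≠ c →
    evalW threeP (threeCyc.getD (81 * a + 9 * b + c) []) = Equiv.swap a b * Equiv.swap a c := by decide +kernel

theorem three_even : ∀ k : Fin 2, Equiv.Perm.sign (threeP k) = 1 := by decide +kernel

theorem three_K : threeKK = alternatingGroup (Fin 9) := by
  refine le_antisymm (three_ok'.K_le threeP (fun k hk => threeP_gp k (three_gens_len ▸ hk)) fun k hk => ?_)
    (alternating_le (by norm_num) fun a b c ha hb hc => ?_)
  · rw [three_gens_len] at hk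
    exact Equiv.Perm.mem_alternatingGroup.2 (three_even ⟨k, hk⟩)
  · rw [← threeCyc_ok a b c ha hb hc]
    exact evalW_mem threeP_mem _

theorem three_big : three_ok'.Big := by
  show threeDat.orbMax * (16 * threeDat.centMax) ≤ 2 * threeDat.p * Nat.card threeKK
  rw [three_K]
  refine le_of_le_of_eq (le_of_eq (show _ = 2 * 3 * 181440 from rfl)) ?_
  rw [nat_card_alternatingGroup, Nat.card_fin]
  rfl

theorem threeStab_ok : ∀ j : Fin 2, evalW threeP (threeStab.getD j []) 0 = 0 := by decide +kernel

theorem threeMove_ok : ∀ i : Fin 9, evalW threeP (threeMove.getD i []) 0 = i := by decide +kernel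

set_option synthInstance.maxSize 512 in
theorem three_noblock : ∀ S : Finset (Fin 9), (0 : Fin 9) ∈ S →
    (∀ i ∈ S, evalW threeP (threeStab.getD 0 []) i ∈ S) → (∀ i ∈ S, evalW threeP (threeStab.getD 1 []) i ∈ S) →
    S.card ∈ [2, 4, 8] → False := by decide +kernel

theorem three_group : three_ok'.Group where
  big := three_big
  noTwo N hN h2 := by
    exact no_two_normal (n := 9) (K := threeKK) (N := N) (hN := hN) (by norm_num) (0 : Fin 9) (fun i => ⟨_, evalW_mem threeP_mem _, threeMove_ok i⟩)
      (evalW_mem threeP_mem _) (evalW_mem threeP_mem _) (threeStab_ok 0) (threeStab_ok 1) three_noblock h2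

theorem three_iso : Nonempty (↥three_ok'.K ≃* ↥(alternatingGroup (Fin 9))) :=
  ⟨(MulEquiv.subgroupCongr three_K :)⟩

end Cfsg.Agent.Spor.CoLocal
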