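import Cfsg.Agent.Lib.Spor.CoLocal.Defs

/-!
Data for the element of order three.
-/

set_option autoImplicit false
set_option maxRecDepth 100000

namespace Cfsg.Agent.Spor.CoLocal

/-- part of the data -/
def threeBasis0 : List (List ℤ) := [[0, 0, 8, 0, 0, 0, 0, 0, 0, 0, 0, 0, 8, 0, 0, 0, 0, 0, 0, 0, 0, 0, 0, 8],
    [2, 2, 2, 0, 2, 2, 2, 2, 0, 0, 0, 0, 2, 0, 2, 0, 2, 0, 2, 0, 0, 0, 0, 2],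
    [0, 2, 2, 2, 0, 0, 0, 2, 2, 0, 2, 2, 2, 2, 2, 0, 0, 2, 0, 0, 0, 0, 0, 2],
    [2, 0, 0, 2, 2, 2, 2, 0, 2, 0, 2, 2, 0, 2, 0, 0, 2, 2, 2, 0, 0, 0, 0, 0],
    [2, 0, 2, 2, 2, 2, 0, 0, 0, 2, 2, 0, 2, 0, 0, 0, 0, 2, 0, 2, 2, 0, 0, 2],
    [0, 2, 0, 2, 0, 0, 2, 2, 0, 2, 2, 0, 0, 0, 2, 0, 2, 2, 2, 2, 2, 0, 0, 0],
    [2, 2, 0, 0, 2, 2, 0, 2, 2, 2, 0, 2, 0, 2, 2, 0, 0, 0, 0, 2, 2, 0, 0, 0],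
    [5, 1, 1, 1, 5, 5, 1, 1, 1, 1, 1, 1, 1, 1, 1, 1, 1, 1, 1, 1, 1, 1, 1, 1]]

/-- part of the data -/
def threeDual0 : List (List ℤ) := [[5, 5, 3, 5, 5, 5, 3, 5, 3, 3, 5, 3, 3, 3, 5, 1, 3, 5, 3, 3, 3, 1, 1, 3],
    [6, 6, 4, 8, 6, 6, 4, 6, 6, 6, 8, 6, 4, 6, 6, 0, 4, 8, 4, 6, 6, 0, 0, 4],
    [8, 6, 12, 6, 8, 8, 6, 6, 4, 6, 6, 4, 12, 4, 6, 0, 6, 6, 6, 6, 6, 0, 0, 12],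
    [6, 8, 6, 6, 6, 6, 4, 8, 4, 6, 6, 4, 6, 4, 8, 0, 4, 6, 4, 6, 6, 0, 0, 6],
    [6, 8, 4, 6, 6, 6, 6, 8, 6, 4, 6, 6, 4, 6, 8, 0, 6, 6, 6, 4, 4, 0, 0, 4],
    [8, 6, 14, 6, 8, 8, 4, 6, 6, 4, 6, 6, 14, 6, 6, 0, 4, 6, 4, 4, 4, 0, 0, 14],
    [6, 6, 6, 8, 6, 6, 6, 6, 4, 4, 8, 4, 6, 4, 6, 0, 6, 8, 6, 4, 4, 0, 0, 6],
    [0, 0, 8, 0, 0, 0, 0, 0, 0, 0, 0, 0, 8, 0, 0, 0, 0, 0, 0, 0, 0, 0, 0, 8]]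

/-- part of the data -/
def threeResid0 : List (List ℤ) := [[0, 0, 0, 0, 0, 0, 0, 0, 0, 0, 0, 0, 0, 0, 0, 0, 0, 0, 0, 0, 0, 0, 0, 0],
    [2, 2, 2, 0, 2, 2, 2, 2, 0, 0, 0, 0, 2, 0, 2, 0, 2, 0, 2, 0, 0, 0, 0, 2],
    [0, 2, 2, 2, 0, 0, 0, 2, 2, 0, 2, 2, 2, 2, 2, 0, 0, 2, 0, 0, 0, 0, 0, 2],
    [2, 0, 0, 2, 2, 2, 2, 0, 2, 0, 2, 2, 0, 2, 0, 0, 2, 2, 2, 0, 0, 0, 0, 0],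
    [2, 0, 2, 2, 2, 2, 0, 0, 0, 2, 2, 0, 2, 0, 0, 0, 0, 2, 0, 2, 2, 0, 0, 2],
    [0, 2, 0, 2, 0, 0, 2, 2, 0, 2, 2, 0, 0, 0, 2, 0, 2, 2, 2, 2, 2, 0, 0, 0],
    [2, 2, 0, 0, 2, 2, 0, 2, 2, 2, 0, 2, 0, 2, 2, 0, 0, 0, 0, 2, 2, 0, 0, 0],
    [0, 0, 2, 0, 0, 0, 2, 0, 2, 2, 0, 2, 2, 2, 0, 0, 2, 0, 2, 2, 2, 0, 0, 2],
    [2, 2, 0, 2, 2, 2, 0, 2, 0, 0, 2, 0, 0, 0, 2, 2, 0, 2, 0, 0, 0, 2, 2, 0],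
    [0, 0, 2, 2, 0, 0, 2, 0, 0, 0, 2, 0, 2, 0, 0, 2, 2, 2, 2, 0, 0, 2, 2, 2],
    [2, 0, 2, 0, 2, 2, 0, 0, 2, 0, 0, 2, 2, 2, 0, 2, 0, 0, 0, 0, 0, 2, 2, 2],
    [0, 2, 0, 0, 0, 0, 2, 2, 2, 0, 0, 2, 0, 2, 2, 2, 2, 0, 2, 0, 0, 2, 2, 0],
    [0, 2, 2, 0, 0, 0, 0, 2, 0, 2, 0, 0, 2, 0, 2, 2, 0, 0, 0, 2, 2, 2, 2, 2],
    [2, 0, 0, 0, 2, 2, 2, 0, 0, 2, 0, 0, 0, 0, 0, 2, 2, 0, 2, 2, 2, 2, 2, 0],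
    [0, 0, 0, 2, 0, 0, 0, 0, 2, 2, 2, 2, 0, 2, 0, 2, 0, 2, 0, 2, 2, 2, 2, 0],
    [2, 2, 2, 2, 2, 2, 2, 2, 2, 2, 2, 2, 2, 2, 2, 2, 2, 2, 2, 2, 2, 2, 2, 2],
    [5, 1, 1, 1, 5, 5, 1, 1, 1, 1, 1, 1, 1, 1, 1, 1, 1, 1, 1, 1, 1, 1, 1, 1],
    [7, 3, 3, 1, 7, 7, 3, 3, 1, 1, 1, 1, 3, 1, 3, 1, 3, 1, 3, 1, 1, 1, 1, 3],
    [5, 3, 3, 3, 5, 5, 1, 3, 3, 1, 3, 3, 3, 3, 3, 1, 1, 3, 1, 1, 1, 1, 1, 3],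
    [7, 1, 1, 3, 7, 7, 3, 1, 3, 1, 3, 3, 1, 3, 1, 1, 3, 3, 3, 1, 1, 1, 1, 1],
    [7, 1, 3, 3, 7, 7, 1, 1, 1, 3, 3, 1, 3, 1, 1, 1, 1, 3, 1, 3, 3, 1, 1, 3],
    [5, 3, 1, 3, 5, 5, 3, 3, 1, 3, 3, 1, 1, 1, 3, 1, 3, 3, 3, 3, 3, 1, 1, 1],
    [7, 3, 1, 1, 7, 7, 1, 3, 3, 3, 1, 3, 1, 3, 3, 1, 1, 1, 1, 3, 3, 1, 1, 1],
    [5, 1, 3, 1, 5, 5, 3, 1, 3, 3, 1, 3, 3, 3, 1, 1, 3, 1, 3, 3, 3, 1, 1, 3],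
    [7, 3, 1, 3, 7, 7, 1, 3, 1, 1, 3, 1, 1, 1, 3, 3, 1, 3, 1, 1, 1, 3, 3, 1],
    [5, 1, 3, 3, 5, 5, 3, 1, 1, 1, 3, 1, 3, 1, 1, 3, 3, 3, 3, 1, 1, 3, 3, 3],
    [7, 1, 3, 1, 7, 7, 1, 1, 3, 1, 1, 3, 3, 3, 1, 3, 1, 1, 1, 1, 1, 3, 3, 3],
    [5, 3, 1, 1, 5, 5, 3, 3, 3, 1, 1, 3, 1, 3, 3, 3, 3, 1, 3, 1, 1, 3, 3, 1],
    [5, 3, 3, 1, 5, 5, 1, 3, 1, 3, 1, 1, 3, 1, 3, 3, 1, 1, 1, 3, 3, 3, 3, 3],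
    [7, 1, 1, 1, 7, 7, 3, 1, 1, 3, 1, 1, 1, 1, 1, 3, 3, 1, 3, 3, 3, 3, 3, 1],
    [5, 1, 1, 3, 5, 5, 1, 1, 3, 3, 3, 3, 1, 3, 1, 3, 1, 3, 1, 3, 3, 3, 3, 1],
    [7, 3, 3, 3, 7, 7, 3, 3, 3, 3, 3, 3, 3, 3, 3, 3, 3, 3, 3, 3, 3, 3, 3, 3]]

/-- part of the data -/
def threeShort0 : List (List ℤ) := [[-2, -2, -2, 0, -2, -2, -2, -2, 0, 0, 0, 0, -2, 0, -2, 0, -2, 0, -2, 0, 0, 0, 0, -2],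
    [0, 0, 0, -2, 0, 0, 0, 0, -2, -2, -2, -2, 0, -2, 0, -2, 0, -2, 0, -2, -2, -2, -2, 0],
    [0, -2, -2, -2, 0, 0, 0, -2, -2, 0, -2, -2, -2, -2, -2, 0, 0, -2, 0, 0, 0, 0, 0, -2],
    [-2, 0, 0, 0, -2, -2, -2, 0, 0, -2, 0, 0, 0, 0, 0, -2, -2, 0, -2, -2, -2, -2, -2, 0],
    [-2, 0, 0, 2, -2, -2, -2, 0, 2, 0, 2, 2, 0, 2, 0, 0, -2, 2, -2, 0, 0, 0, 0, 0],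
    [0, -2, -2, 0, 0, 0, 0, -2, 0, 2, 0, 0, -2, 0, -2, 2, 0, 0, 0, 2, 2, 2, 2, -2],
    [-2, 0, 0, -2, -2, -2, -2, 0, -2, 0, -2, -2, 0, -2, 0, 0, -2, -2, -2, 0, 0, 0, 0, 0],
    [0, -2, -2, 0, 0, 0, 0, -2, 0, -2, 0, 0, -2, 0, -2, -2, 0, 0, 0, -2, -2, -2, -2, -2],
    [0, -2, -2, 2, 0, 0, 0, -2, 2, 0, 2, 2, -2, 2, -2, 0, 0, 2, 0, 0, 0, 0, 0, -2],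
    [-2, 0, 0, 0, -2, -2, -2, 0, 0, 2, 0, 0, 0, 0, 0, 2, -2, 0, -2, 2, 2, 2, 2, 0],
    [-2, 2, 2, 0, -2, -2, -2, 2, 0, 0, 0, 0, 2, 0, 2, 0, -2, 0, -2, 0, 0, 0, 0, 2],
    [0, 0, 0, -2, 0, 0, 0, 0, -2, 2, -2, -2, 0, -2, 0, 2, 0, -2, 0, 2, 2, 2, 2, 0],
    [-2, 0, -2, -2, -2, -2, 0, 0, 0, -2, -2, 0, -2, 0, 0, 0, 0, -2, 0, -2, -2, 0, 0, -2],
    [0, -2, 0, 0, 0, 0, -2, -2, -2, 0, 0, -2, 0, -2, -2, -2, -2, 0, -2, 0, 0, -2, -2, 0],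
    [0, -2, 0, 2, 0, 0, -2, -2, 0, 2, 2, 0, 0, 0, -2, 0, -2, 2, -2, 2, 2, 0, 0, 0],
    [-2, 0, -2, 0, -2, -2, 0, 0, 2, 0, 0, 2, -2, 2, 0, 2, 0, 0, 0, 0, 0, 2, 2, -2],
    [-2, 2, 0, 0, -2, -2, 0, 2, 2, -2, 0, 2, 0, 2, 2, 0, 0, 0, 0, -2, -2, 0, 0, 0],
    [0, 0, -2, -2, 0, 0, 2, 0, 0, 0, -2, 0, -2, 0, 0, 2, 2, -2, 2, 0, 0, 2, 2, -2],
    [0, 0, -2, 0, 0, 0, 2, 0, 2, -2, 0, 2, -2, 2, 0, 0, 2, 0, 2, -2, -2, 0, 0, -2],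
    [-2, 2, 0, -2, -2, -2, 0, 2, 0, 0, -2, 0, 0, 0, 2, 2, 0, -2, 0, 0, 0, 2, 2, 0],
    [0, -2, 0, -2, 0, 0, -2, -2, 0, -2, -2, 0, 0, 0, -2, 0, -2, -2, -2, -2, -2, 0, 0, 0],
    [-2, 0, -2, 0, -2, -2, 0, 0, -2, 0, 0, -2, -2, -2, 0, -2, 0, 0, 0, 0, 0, -2, -2, -2],
    [-2, 0, -2, 2, -2, -2, 0, 0, 0, 2, 2, 0, -2, 0, 0, 0, 0, 2, 0, 2, 2, 0, 0, -2],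
    [0, -2, 0, 0, 0, 0, -2, -2, 2, 0, 0, 2, 0, 2, -2, 2, -2, 0, -2, 0, 0, 2, 2, 0],
    [0, 0, -2, 0, 0, 0, 2, 0, -2, 2, 0, -2, -2, -2, 0, 0, 2, 0, 2, 2, 2, 0, 0, -2],
    [-2, 2, 0, 2, -2, -2, 0, 2, 0, 0, 2, 0, 0, 0, 2, -2, 0, 2, 0, 0, 0, -2, -2, 0],
    [-2, 2, 0, 0, -2, -2, 0, 2, -2, 2, 0, -2, 0, -2, 2, 0, 0, 0, 0, 2, 2, 0, 0, 0],
    [0, 0, -2, 2, 0, 0, 2, 0, 0, 0, 2, 0, -2, 0, 0, -2, 2, 2, 2, 0, 0, -2, -2, -2],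
    [-2, 2, -2, 0, -2, -2, 2, 2, 0, 0, 0, 0, -2, 0, 2, 0, 2, 0, 2, 0, 0, 0, 0, -2],
    [0, 0, 0, -2, 0, 0, 0, 0, 2, -2, -2, 2, 0, 2, 0, 2, 0, -2, 0, -2, -2, 2, 2, 0],
    [0, 0, 0, -2, 0, 0, 0, 0, 2, 2, -2, 2, 0, 2, 0, -2, 0, -2, 0, 2, 2, -2, -2, 0],
    [-2, -2, 2, 0, -2, -2, 2, -2, 0, 0, 0, 0, 2, 0, -2, 0, 2, 0, 2, 0, 0, 0, 0, 2]]

/-- part of the data -/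
def threeShort1 : List (List ℤ) := [[-2, -2, 0, 0, -2, -2, 0, -2, -2, -2, 0, -2, 0, -2, -2, 0, 0, 0, 0, -2, -2, 0, 0, 0],
    [0, 0, -2, -2, 0, 0, -2, 0, 0, 0, -2, 0, -2, 0, 0, -2, -2, -2, -2, 0, 0, -2, -2, -2],
    [0, 0, -2, 0, 0, 0, -2, 0, 2, 2, 0, 2, -2, 2, 0, 0, -2, 0, -2, 2, 2, 0, 0, -2],
    [-2, -2, 0, 2, -2, -2, 0, -2, 0, 0, 2, 0, 0, 0, -2, 2, 0, 2, 0, 0, 0, 2, 2, 0],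
    [-2, 0, 2, 2, -2, -2, 0, 0, 0, -2, 2, 0, 2, 0, 0, 0, 0, 2, 0, -2, -2, 0, 0, 2],
    [0, -2, 0, 0, 0, 0, 2, -2, -2, 0, 0, -2, 0, -2, -2, 2, 2, 0, 2, 0, 0, 2, 2, 0],
    [0, -2, 0, 2, 0, 0, 2, -2, 0, -2, 2, 0, 0, 0, -2, 0, 2, 2, 2, -2, -2, 0, 0, 0],
    [-2, 0, 2, 0, -2, -2, 0, 0, -2, 0, 0, -2, 2, -2, 0, 2, 0, 0, 0, 0, 0, 2, 2, 2],
    [0, -2, 2, 2, 0, 0, 0, -2, -2, 0, 2, -2, 2, -2, -2, 0, 0, 2, 0, 0, 0, 0, 0, 2],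
    [-2, 0, 0, 0, -2, -2, 2, 0, 0, -2, 0, 0, 0, 0, 0, 2, 2, 0, 2, -2, -2, 2, 2, 0],
    [-2, 0, 0, 0, -2, -2, 2, 0, 0, 2, 0, 0, 0, 0, 0, -2, 2, 0, 2, 2, 2, -2, -2, 0],
    [0, -2, 2, -2, 0, 0, 0, -2, 2, 0, -2, 2, 2, 2, -2, 0, 0, -2, 0, 0, 0, 0, 0, 2],
    [-2, 0, 0, 2, -2, -2, 2, 0, -2, 0, 2, -2, 0, -2, 0, 0, 2, 2, 2, 0, 0, 0, 0, 0],
    [0, -2, 2, 0, 0, 0, 0, -2, 0, -2, 0, 0, 2, 0, -2, 2, 0, 0, 0, -2, -2, 2, 2, 2],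
    [0, -2, 2, 0, 0, 0, 0, -2, 0, 2, 0, 0, 2, 0, -2, -2, 0, 0, 0, 2, 2, -2, -2, 2],
    [-2, 0, 0, -2, -2, -2, 2, 0, 2, 0, -2, 2, 0, 2, 0, 0, 2, -2, 2, 0, 0, 0, 0, 0],
    [0, -2, 0, 0, 0, 0, 2, -2, 2, 0, 0, 2, 0, 2, -2, -2, 2, 0, 2, 0, 0, -2, -2, 0],
    [-2, 0, 2, -2, -2, -2, 0, 0, 0, 2, -2, 0, 2, 0, 0, 0, 0, -2, 0, 2, 2, 0, 0, 2],
    [-2, 0, 2, 0, -2, -2, 0, 0, 2, 0, 0, 2, 2, 2, 0, -2, 0, 0, 0, 0, 0, -2, -2, 2],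
    [0, -2, 0, -2, 0, 0, 2, -2, 0, 2, -2, 0, 0, 0, -2, 0, 2, -2, 2, 2, 2, 0, 0, 0],
    [0, 0, -2, 2, 0, 0, -2, 0, 0, 0, 2, 0, -2, 0, 0, 2, -2, 2, -2, 0, 0, 2, 2, -2],
    [-2, -2, 0, 0, -2, -2, 0, -2, 2, 2, 0, 2, 0, 2, -2, 0, 0, 0, 0, 2, 2, 0, 0, 0],
    [-2, -2, 0, -2, -2, -2, 0, -2, 0, 0, -2, 0, 0, 0, -2, -2, 0, -2, 0, 0, 0, -2, -2, 0],
    [0, 0, -2, 0, 0, 0, -2, 0, -2, -2, 0, -2, -2, -2, 0, 0, -2, 0, -2, -2, -2, 0, 0, -2],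
    [-3, 1, 1, 1, -3, -3, 1, 1, 1, 1, 1, 1, 1, 1, 1, 1, 1, 1, 1, 1, 1, 1, 1, 1],
    [3, -1, -1, 1, 3, 3, -1, -1, 1, 1, 1, 1, -1, 1, -1, 1, -1, 1, -1, 1, 1, 1, 1, -1],
    [-3, -1, -1, -1, -3, -3, 1, -1, -1, 1, -1, -1, -1, -1, -1, 1, 1, -1, 1, 1, 1, 1, 1, -1],
    [-1, 1, 1, -1, -1, -1, 3, 1, -1, 1, -1, -1, 1, -1, 1, 1, 3, -1, 3, 1, 1, 1, 1, 1],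
    [3, 1, 1, -1, 3, 3, -1, 1, -1, 1, -1, -1, 1, -1, 1, 1, -1, -1, -1, 1, 1, 1, 1, 1],
    [1, -1, -1, -1, 1, 1, -3, -1, -1, 1, -1, -1, -1, -1, -1, 1, -3, -1, -3, 1, 1, 1, 1, -1],
    [-1, -1, -1, 1, -1, -1, 3, -1, 1, 1, 1, 1, -1, 1, -1, 1, 3, 1, 3, 1, 1, 1, 1, -1],
    [1, 1, 1, 1, 1, 1, -3, 1, 1, 1, 1, 1, 1, 1, 1, 1, -3, 1, -3, 1, 1, 1, 1, 1]]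

/-- part of the data -/
def threeShort2 : List (List ℤ) := [[3, 1, -1, -1, 3, 3, 1, 1, 1, -1, -1, 1, -1, 1, 1, 1, 1, -1, 1, -1, -1, 1, 1, -1],
    [1, -1, -3, -1, 1, 1, -1, -1, 1, -1, -1, 1, -3, 1, -1, 1, -1, -1, -1, -1, -1, 1, 1, -3],
    [-1, -1, 1, 1, -1, -1, 1, -1, -1, 3, 1, -1, 1, -1, -1, 1, 1, 1, 1, 3, 3, 1, 1, 1],
    [1, 1, -1, 1, 1, 1, -1, 1, 3, -1, 1, 3, -1, 3, 1, 1, -1, 1, -1, -1, -1, 1, 1, -1],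
    [1, 1, -1, -3, 1, 1, -1, 1, -1, -1, -3, -1, -1, -1, 1, 1, -1, -3, -1, -1, -1, 1, 1, -1],
    [-1, -1, 1, 1, -1, -1, 1, -1, -1, -1, 1, -1, 1, -1, -1, -3, 1, 1, 1, -1, -1, -3, -3, 1],
    [1, 3, 1, -1, 1, 1, -1, 3, 1, -1, -1, 1, 1, 1, 3, 1, -1, -1, -1, -1, -1, 1, 1, 1],
    [-1, 1, -1, -1, -1, -1, -3, 1, 1, -1, -1, 1, -1, 1, 1, 1, -3, -1, -3, -1, -1, 1, 1, -1],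
    [-3, -1, 1, -1, -3, -3, -1, -1, 1, -1, -1, 1, 1, 1, -1, 1, -1, -1, -1, -1, -1, 1, 1, 1],
    [-1, 1, 3, -1, -1, -1, 1, 1, 1, -1, -1, 1, 3, 1, 1, 1, 1, -1, 1, -1, -1, 1, 1, 3],
    [1, 1, -1, 1, 1, 1, -1, 1, -1, -1, 1, -1, -1, -1, 1, -3, -1, 1, -1, -1, -1, -3, -3, -1],
    [-1, -1, 1, -3, -1, -1, 1, -1, -1, -1, -3, -1, 1, -1, -1, 1, 1, -3, 1, -1, -1, 1, 1, 1],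
    [-1, -1, 1, 1, -1, -1, 1, -1, 3, -1, 1, 3, 1, 3, -1, 1, 1, 1, 1, -1, -1, 1, 1, 1],
    [1, 1, -1, 1, 1, 1, -1, 1, -1, 3, 1, -1, -1, -1, 1, 1, -1, 1, -1, 3, 3, 1, 1, -1],
    [-1, -3, -1, -1, -1, -1, 1, -3, 1, -1, -1, 1, -1, 1, -3, 1, 1, -1, 1, -1, -1, 1, 1, -1],
    [1, -1, 1, -1, 1, 1, 3, -1, 1, -1, -1, 1, 1, 1, -1, 1, 3, -1, 3, -1, -1, 1, 1, 1],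
    [-1, -1, 3, 1, -1, -1, -1, -1, 1, 1, 1, 1, 3, 1, -1, 1, -1, 1, -1, 1, 1, 1, 1, 3],
    [1, 1, -3, 1, 1, 1, 1, 1, 1, 1, 1, 1, -3, 1, 1, 1, 1, 1, 1, 1, 1, 1, 1, -3],
    [-1, -3, 1, -1, -1, -1, -1, -3, -1, 1, -1, -1, 1, -1, -3, 1, -1, -1, -1, 1, 1, 1, 1, 1],
    [1, -1, 3, -1, 1, 1, 1, -1, -1, 1, -1, -1, 3, -1, -1, 1, 1, -1, 1, 1, 1, 1, 1, 3],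
    [1, 3, -1, -1, 1, 1, 1, 3, -1, 1, -1, -1, -1, -1, 3, 1, 1, -1, 1, 1, 1, 1, 1, -1],
    [-1, 1, -3, -1, -1, -1, -1, 1, -1, 1, -1, -1, -3, -1, 1, 1, -1, -1, -1, 1, 1, 1, 1, -3],
    [1, -3, 1, 1, 1, 1, 1, -3, 1, 1, 1, 1, 1, 1, -3, 1, 1, 1, 1, 1, 1, 1, 1, 1],
    [-1, 3, -1, 1, -1, -1, -1, 3, 1, 1, 1, 1, -1, 1, 3, 1, -1, 1, -1, 1, 1, 1, 1, -1],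
    [3, -1, 1, 1, 3, 3, 1, -1, -1, -1, 1, -1, 1, -1, -1, 1, 1, 1, 1, -1, -1, 1, 1, 1],
    [1, -3, -1, 1, 1, 1, -1, -3, -1, -1, 1, -1, -1, -1, -3, 1, -1, 1, -1, -1, -1, 1, 1, -1],
    [-1, 1, -1, -1, -1, -1, 1, 1, 1, 3, -1, 1, -1, 1, 1, 1, 1, -1, 1, 3, 3, 1, 1, -1],
    [1, -1, 1, 3, 1, 1, -1, -1, 1, -1, 3, 1, 1, 1, -1, 1, -1, 3, -1, -1, -1, 1, 1, 1],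
    [1, -1, 1, -1, 1, 1, -1, -1, -3, -1, -1, -3, 1, -3, -1, 1, -1, -1, -1, -1, -1, 1, 1, 1],
    [-1, 1, -1, -1, -1, -1, 1, 1, 1, -1, -1, 1, -1, 1, 1, -3, 1, -1, 1, -1, -1, -3, -3, -1],
    [1, 1, 3, 1, 1, 1, -1, 1, -1, -1, 1, -1, 3, -1, 1, 1, -1, 1, -1, -1, -1, 1, 1, 3],
    [-1, -1, 1, 1, -1, -1, -3, -1, -1, -1, 1, -1, 1, -1, -1, 1, -3, 1, -3, -1, -1, 1, 1, 1]]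

/-- part of the data -/
def threeShort3 : List (List ℤ) := [[1, -1, -1, -1, 1, 1, 1, -1, -1, -3, -1, -1, -1, -1, -1, 1, 1, -1, 1, -3, -3, 1, 1, -1],
    [-1, 1, 1, -1, -1, -1, -1, 1, -1, 1, -1, -1, 1, -1, 1, -3, -1, -1, -1, 1, 1, -3, -3, 1],
    [1, 1, 1, 1, 1, 1, 1, 1, 1, -3, 1, 1, 1, 1, 1, 1, 1, 1, 1, -3, -3, 1, 1, 1],
    [-1, -1, -1, 1, -1, -1, -1, -1, 1, -3, 1, 1, -1, 1, -1, 1, -1, 1, -1, -3, -3, 1, 1, -1],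
    [-1, -1, -1, 1, -1, -1, -1, -1, 1, 1, 1, 1, -1, 1, -1, -3, -1, 1, -1, 1, 1, -3, -3, -1],
    [1, 1, 1, 1, 1, 1, 1, 1, 1, 1, 1, 1, 1, 1, 1, -3, 1, 1, 1, 1, 1, -3, -3, 1],
    [-1, 1, 1, -1, -1, -1, -1, 1, -1, -3, -1, -1, 1, -1, 1, 1, -1, -1, -1, -3, -3, 1, 1, 1],
    [1, -1, -1, -1, 1, 1, 1, -1, -1, 1, -1, -1, -1, -1, -1, -3, 1, -1, 1, 1, 1, -3, -3, -1],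
    [-1, 1, 1, -1, -1, -1, -1, 1, 3, 1, -1, 3, 1, 3, 1, 1, -1, -1, -1, 1, 1, 1, 1, 1],
    [1, -1, -1, 3, 1, 1, 1, -1, -1, 1, 3, -1, -1, -1, -1, 1, 1, 3, 1, 1, 1, 1, 1, -1],
    [-1, -1, -1, -3, -1, -1, -1, -1, 1, 1, -3, 1, -1, 1, -1, 1, -1, -3, -1, 1, 1, 1, 1, -1],
    [1, 1, 1, -3, 1, 1, 1, 1, 1, 1, -3, 1, 1, 1, 1, 1, 1, -3, 1, 1, 1, 1, 1, 1],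
    [1, 1, 1, 1, 1, 1, 1, 1, -3, 1, 1, -3, 1, -3, 1, 1, 1, 1, 1, 1, 1, 1, 1, 1],
    [-1, -1, -1, 1, -1, -1, -1, -1, -3, 1, 1, -3, -1, -3, -1, 1, -1, 1, -1, 1, 1, 1, 1, -1],
    [1, -1, -1, -1, 1, 1, 1, -1, 3, 1, -1, 3, -1, 3, -1, 1, 1, -1, 1, 1, 1, 1, 1, -1],
    [-1, 1, 1, 3, -1, -1, -1, 1, -1, 1, 3, -1, 1, -1, 1, 1, -1, 3, -1, 1, 1, 1, 1, 1],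
    [1, 1, -1, 1, 1, 1, 3, 1, -1, -1, 1, -1, -1, -1, 1, 1, 3, 1, 3, -1, -1, 1, 1, -1],
    [-1, -1, -3, 1, -1, -1, 1, -1, -1, -1, 1, -1, -3, -1, -1, 1, 1, 1, 1, -1, -1, 1, 1, -3],
    [1, -1, 1, -1, 1, 1, -1, -1, 1, 3, -1, 1, 1, 1, -1, 1, -1, -1, -1, 3, 3, 1, 1, 1],
    [-1, 1, -1, 3, -1, -1, 1, 1, 1, -1, 3, 1, -1, 1, 1, 1, 1, 3, 1, -1, -1, 1, 1, -1],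
    [-1, 1, -1, -1, -1, -1, 1, 1, -3, -1, -1, -3, -1, -3, 1, 1, 1, -1, 1, -1, -1, 1, 1, -1],
    [1, -1, 1, -1, 1, 1, -1, -1, 1, -1, -1, 1, 1, 1, -1, -3, -1, -1, -1, -1, -1, -3, -3, 1],
    [-1, 3, 1, 1, -1, -1, 1, 3, -1, -1, 1, -1, 1, -1, 3, 1, 1, 1, 1, -1, -1, 1, 1, 1],
    [-3, 1, -1, 1, -3, -3, -1, 1, -1, -1, 1, -1, -1, -1, 1, 1, -1, 1, -1, -1, -1, 1, 1, -1]]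

/-- part of the data -/
def threeTrace0x0 : List (List (List ℤ)) := [[[0, 0, 2, -2, 0, 0, 2, 0, 0, 0, -2, 0, 2, 0, -4, 2, -2, 2, 2, 0, 0, -2, -2, 2],
      [-2, 2, 0, -4, 0, 0, 0, 2, -2, 0, 0, 0, 2, 0, 2, 2, -2, 0, 2, -2, 0, -2, 0, 2],
      [-2, 2, 0, 4, 0, 0, 0, 2, -2, 0, 0, 0, -2, 0, 2, -2, -2, 0, 2, 2, 0, -2, 0, -2],
      [-4, 0, -2, 2, 0, 0, 0, -2, 0, 0, 0, 0, 2, 0, -2, 0, 0, 0, -2, -4, 0, 2, 0, 2],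
      [0, 0, 0, 0, 0, 0, -2, -4, 2, 2, 0, 2, -4, 0, 0, 2, -2, 0, 0, -2, 0, 0, -2, 0],
      [0, 0, 0, 0, 0, 0, 2, -4, 2, -2, 0, 2, 4, 0, 0, 2, -2, 0, 0, 2, 0, 0, 2, 0],
      [0, 0, 0, 0, 0, 0, 0, 4, 0, 4, 0, 0, -4, 0, 0, 0, 4, 0, 0, 0, 0, 0, 0, 0],
      [4, 4, -4, 4, 0, 0, 0, 0, 0, 0, 0, 0, 0, 0, 0, 0, 0, 0, 0, 0, 0, 0, 0, 0],
      [4, -4, -4, -4, 0, 0, 0, 0, 0, 0, 0, 0, 0, 0, 0, 0, 0, 0, 0, 0, 0, 0, 0, 0],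
      [8, 0, 0, 0, 0, 0, 0, 0, 0, 0, 0, 0, 0, 0, 0, 0, 0, 0, 0, 0, 0, 0, 0, 0],
      [8, 0, 0, 0, 0, 0, 0, 0, 0, 0, 0, 0, 0, 0, 0, 0, 0, 0, 0, 0, 0, 0, 0, 0],
      [8, 0, 0, 0, 0, 0, 0, 0, 0, 0, 0, 0, 0, 0, 0, 0, 0, 0, 0, 0, 0, 0, 0, 0]],
    [[0, 0, -2, -2, 0, 0, -2, 0, -4, 0, -2, 0, -2, 0, 0, -2, 2, 2, -2, 0, 0, -2, -2, 2],
      [-2, -2, 0, 0, 0, 0, 0, -2, 2, 0, 0, 0, -2, -4, 2, -2, -2, 0, -2, -2, 0, -2, 0, 2],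
      [-2, -2, 0, 0, 0, 0, 0, -2, 2, 0, 0, 0, 2, 4, 2, 2, -2, 0, -2, 2, 0, -2, 0, -2],
      [0, 0, 2, 2, 0, 0, 0, 2, 0, 0, 0, 0, -2, -4, -2, 0, 4, 0, 2, 0, 0, 2, 0, 2],
      [0, 0, 0, 0, 0, 0, 2, 0, 2, -2, 0, 2, 0, 0, -4, 2, 2, 0, 0, 2, 0, 0, -2, 4],
      [0, 0, 0, 0, 0, 0, -2, 0, 2, 2, 0, 2, 0, 0, -4, 2, 2, 0, 0, -2, 0, 0, 2, 4],
      [0, 0, 0, 0, 0, 0, 4, 0, 0, 0, 0, 0, 0, 0, 4, 0, 0, 0, 0, 4, 0, 0, 0, -4],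
      [0, 0, 0, 0, 0, 4, 0, 0, 0, 0, 0, 0, 0, 0, 4, 0, 0, 4, 0, 0, 0, 0, 0, -4],
      [0, 0, 0, 0, 0, -4, 0, 0, 0, 0, 0, 0, 0, 0, 4, 0, 0, 4, 0, 0, 0, 0, 0, 4],
      [0, 0, 0, 0, 0, 8, 0, 0, 0, 0, 0, 0, 0, 0, 0, 0, 0, 0, 0, 0, 0, 0, 0, 0],
      [0, 0, 0, 0, 0, 8, 0, 0, 0, 0, 0, 0, 0, 0, 0, 0, 0, 0, 0, 0, 0, 0, 0, 0],
      [0, 8, 0, 0, 0, 0, 0, 0, 0, 0, 0, 0, 0, 0, 0, 0, 0, 0, 0, 0, 0, 0, 0, 0]],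
    [[-2, -2, 0, 0, -2, 2, 0, -2, -2, -2, 0, -2, 0, -2, 2, 4, 0, 0, 0, 2, -2, 0, 0, 0],
      [0, 0, -2, 2, -2, 2, -2, 4, 0, 2, -2, -2, 0, -2, 0, 0, 0, -2, 0, 0, -2, 0, -2, 0],
      [0, 0, 2, -2, 2, -2, 2, 4, 0, 2, -2, 2, 0, 2, 0, 0, 0, -2, 0, 0, 2, 0, -2, 0],
      [0, 0, 2, -2, 0, 0, 0, -2, 0, 0, 4, 0, 2, 0, -2, 0, 0, 0, 2, 0, 0, 2, 4, -2],
      [0, 0, 0, 0, 0, 0, 2, 0, 2, 2, 0, -2, 0, 4, 0, -2, 2, 0, 0, -2, 4, 0, -2, 0],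
      [0, 0, 0, 0, 0, 0, -2, 0, 2, -2, 0, -2, 0, 4, 0, -2, 2, 0, 0, 2, 4, 0, 2, 0],
      [0, 0, 0, 0, 0, 0, 0, 0, 0, 0, 0, 0, 0, 0, 0, 4, 0, 0, 4, 0, 0, 4, -4, 0],
      [0, 0, 0, 0, 4, 0, 0, -4, 0, 0, 4, 0, 4, 0, 0, 0, 0, 0, 0, 0, 0, 0, 0, 0],
      [0, 0, 0, 0, 4, 0, 0, 4, 0, 0, 4, 0, -4, 0, 0, 0, 0, 0, 0, 0, 0, 0, 0, 0],
      [0, 0, 0, 0, 0, 0, 0, 0, 0, 0, 0, 0, 8, 0, 0, 0, 0, 0, 0, 0, 0, 0, 0, 0],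
      [0, 0, 0, 0, 0, 0, 0, 0, 0, 0, 0, 0, 8, 0, 0, 0, 0, 0, 0, 0, 0, 0, 0, 0],
      [0, 0, 8, 0, 0, 0, 0, 0, 0, 0, 0, 0, 0, 0, 0, 0, 0, 0, 0, 0, 0, 0, 0, 0]],
    [[-2, -2, 0, 0, -2, 2, 0, -2, -2, 2, 0, 2, 0, 2, -2, 0, 0, 0, 0, -2, 2, 0, 0, -4],
      [0, 0, 2, -2, -2, 2, 2, 0, 0, -2, 2, -2, 0, -2, 0, 0, 0, 2, 0, 0, -2, 0, -2, -4],
      [0, 0, -2, 2, 2, -2, -2, 0, 0, -2, 2, 2, 0, 2, 0, 0, 0, 2, 0, 0, 2, 0, -2, 4],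
      [0, 0, -2, 2, 0, 4, 0, 2, 0, 0, 0, -4, 2, 0, 2, 0, 0, 0, 2, 0, 0, 2, 0, -2],
      [0, 0, -4, 4, 0, 0, 2, 0, 2, 2, 0, 2, 0, 0, 0, -2, -2, 0, 0, 2, 0, 0, 2, 0],
      [0, 0, 4, -4, 0, 0, -2, 0, 2, -2, 0, 2, 0, 0, 0, -2, -2, 0, 0, -2, 0, 0, -2, 0],
      [0, 0, 4, -4, 0, 0, 0, 0, -4, 0, 0, -4, 0, 0, 0, 0, 0, 0, 0, 0, 0, 0, 0, 0],
      [0, 0, 0, 0, 0, 0, 0, 0, 0, 0, 0, 0, 0, -4, 0, 0, 0, 0, -4, 0, 4, -4, 0, 0],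
      [0, 0, 0, 0, 0, 0, 0, 0, 0, 0, 0, 0, 0, 4, 0, 0, 0, 0, 4, 0, -4, 4, 0, 0],
      [0, 0, 0, 0, 0, 0, 0, 0, 0, 0, 0, 0, 0, 0, 0, 0, 0, 0, 0, 0, 8, 0, 0, 0],
      [0, 0, 0, 0, 0, 0, 0, 0, 0, 0, 0, 0, 0, 0, 0, 0, 0, 0, 0, 0, 8, 0, 0, 0],
      [0, 0, 0, 8, 0, 0, 0, 0, 0, 0, 0, 0, 0, 0, 0, 0, 0, 0, 0, 0, 0, 0, 0, 0]],
    [[0, -4, 2, 2, 0, 0, 2, 0, 0, 0, -2, 0, 2, 0, 0, -2, 2, -2, -2, 0, 0, 2, -2, 2],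
      [2, -2, 0, 0, 0, 0, 0, -2, 2, 0, 0, -4, 2, 0, -2, 2, -2, 0, 2, -2, 0, 2, 0, 2],
      [2, -2, 0, 0, 0, 0, 0, -2, 2, 0, 0, 4, -2, 0, -2, -2, -2, 0, 2, 2, 0, 2, 0, -2],
      [2, -2, 0, 0, -2, -2, 2, 0, -2, 2, -2, -2, 0, 2, 0, 2, 2, -2, 0, -2, 2, 0, 2, 0],
      [-2, -2, -2, -2, -2, 2, 0, 2, 0, 0, 2, 0, -2, 2, 2, 0, 0, 2, -2, 0, -2, 2, 0, 2],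
      [-2, 2, 2, 2, 2, 2, 0, 2, 0, 0, -2, 0, 2, 2, 2, 0, 0, -2, 2, 0, -2, 2, 0, 2],
      [-4, 0, 0, 0, 0, 0, 0, 0, 0, 0, 4, 0, 0, 0, 0, 0, 0, 4, 0, 0, 4, 0, 0, 0],
      [0, 0, 0, 0, 0, 0, 0, 0, -4, 0, 0, 0, 0, 0, 0, 4, 4, 0, 0, 4, 0, 0, 0, 0],
      [0, 0, 0, 0, 0, 0, 0, 0, 4, 0, 0, 0, 0, 0, 0, -4, -4, 0, 0, -4, 0, 0, 0, 0],
      [0, 0, 0, 0, 0, 0, 0, 0, -8, 0, 0, 0, 0, 0, 0, 0, 0, 0, 0, 0, 0, 0, 0, 0],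
      [0, 0, 0, 0, 0, 0, 0, 0, 8, 0, 0, 0, 0, 0, 0, 0, 0, 0, 0, 0, 0, 0, 0, 0],
      [0, 0, 0, 0, 8, 0, 0, 0, 0, 0, 0, 0, 0, 0, 0, 0, 0, 0, 0, 0, 0, 0, 0, 0]],
    [[0, 0, 2, -2, 0, 0, -2, -4, 0, 0, 2, 0, 2, 0, 0, -2, 2, -2, 2, 0, 0, -2, 2, 2],
      [-2, 2, 0, 0, 0, 0, 0, -2, 2, 0, 0, 0, 2, 0, -2, 2, 2, 0, -2, 2, 0, -2, -4, 2],
      [-2, 2, 0, 0, 0, 0, 0, -2, 2, 0, 0, 0, -2, 0, -2, -2, 2, 0, -2, -2, 0, -2, -4, -2],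
      [-2, 2, 0, 0, -2, -2, -2, 0, -2, -2, -2, -2, 0, -2, 0, 2, -2, -2, 0, 2, -2, 0, 2, 0],
      [-2, -2, -2, -2, 2, -2, 0, -2, 0, 0, -2, 0, 2, 2, -2, 0, 0, -2, -2, 0, -2, 2, 0, -2],
      [-2, 2, 2, 2, -2, -2, 0, -2, 0, 0, 2, 0, -2, 2, -2, 0, 0, 2, 2, 0, -2, 2, 0, -2],
      [-4, 0, 0, 0, 0, 0, 0, 0, 0, 0, -4, 0, 0, 0, 0, 0, 0, -4, 0, 0, 4, 0, 0, 0],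
      [0, 0, 0, 0, 0, 0, 0, 0, -4, 0, 0, 0, 0, 0, 0, -4, -4, 0, 0, 4, 0, 0, 0, 0],
      [0, 0, 0, 0, 0, 0, 0, 0, 4, 0, 0, 0, 0, 0, 0, 4, 4, 0, 0, -4, 0, 0, 0, 0],
      [0, 0, 0, 0, 0, 0, 0, 0, 0, 0, 0, 0, 0, 0, 0, 0, 0, 0, 0, 8, 0, 0, 0, 0],
      [0, 0, 0, 0, 0, 0, 0, 0, 0, 0, 0, 0, 0, 0, 0, 0, 0, 0, 0, 8, 0, 0, 0, 0],
      [0, 0, 0, 0, 0, 8, 0, 0, 0, 0, 0, 0, 0, 0, 0, 0, 0, 0, 0, 0, 0, 0, 0, 0]],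
    [[2, -2, 0, 0, -2, -2, 0, 2, -2, 2, 0, -2, 0, 2, 2, 0, 0, 0, 4, 2, 2, 0, 0, 0],
      [0, 4, 2, 2, 2, -2, 2, 0, 0, 2, -2, -2, 0, -2, 0, 0, 0, 2, 0, 0, -2, 0, 2, 0],
      [0, 4, -2, -2, -2, 2, -2, 0, 0, 2, -2, 2, 0, 2, 0, 0, 0, 2, 0, 0, 2, 0, 2, 0],
      [0, 4, -2, -2, 0, 0, 4, -2, 0, 0, 0, 0, -2, 0, 2, 0, 0, 0, 2, 0, 0, 2, 0, 2],
      [0, 0, 0, 0, 4, 0, 2, 0, 2, -2, 4, -2, 0, 0, 0, 2, -2, 0, 0, -2, 0, 0, 2, 0],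
      [0, 0, 0, 0, -4, 0, -2, 0, 2, 2, -4, -2, 0, 0, 0, 2, -2, 0, 0, 2, 0, 0, -2, 0],
      [0, 0, 0, 0, 0, 0, 0, -4, 0, -4, 0, 0, -4, 0, 0, 0, 4, 0, 0, 0, 0, 0, 0, 0],
      [4, -4, -4, -4, 0, 0, 0, 0, 0, 0, 0, 0, 0, 0, 0, 0, 0, 0, 0, 0, 0, 0, 0, 0],
      [4, 4, -4, 4, 0, 0, 0, 0, 0, 0, 0, 0, 0, 0, 0, 0, 0, 0, 0, 0, 0, 0, 0, 0],
      [0, 0, -8, 0, 0, 0, 0, 0, 0, 0, 0, 0, 0, 0, 0, 0, 0, 0, 0, 0, 0, 0, 0, 0],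
      [0, 0, 8, 0, 0, 0, 0, 0, 0, 0, 0, 0, 0, 0, 0, 0, 0, 0, 0, 0, 0, 0, 0, 0],
      [0, 0, 0, 0, 0, 0, 8, 0, 0, 0, 0, 0, 0, 0, 0, 0, 0, 0, 0, 0, 0, 0, 0, 0]],
    [[0, 0, 2, 2, 0, 0, -2, 0, 0, 0, -2, 0, -2, -4, 0, -2, -2, -2, 2, 0, 0, -2, -2, -2],
      [-2, 2, -4, 0, 0, 0, 0, -2, -2, 0, 0, 0, -2, 0, -2, 2, -2, 0, -2, -2, 0, 2, 0, -2],
      [-2, 2, 4, 0, 0, 0, 0, -2, -2, 0, 0, 0, 2, 0, -2, -2, -2, 0, -2, 2, 0, 2, 0, 2],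
      [-4, 0, 2, -2, 0, 0, 0, 2, 0, 0, 0, 0, -2, 0, 2, 0, 0, 0, 2, -4, 0, -2, 0, -2],
      [0, 0, 0, 0, 0, 0, 2, -4, -2, -2, 0, -2, -4, 0, 0, -2, 2, 0, 0, 2, 0, 0, 2, 0],
      [0, 0, 0, 0, 0, 0, -2, -4, -2, 2, 0, -2, 4, 0, 0, -2, 2, 0, 0, -2, 0, 0, -2, 0],
      [0, 0, 0, 0, 0, 0, 0, 4, 0, -4, 0, 0, -4, 0, 0, 0, -4, 0, 0, 0, 0, 0, 0, 0],
      [-4, -4, -4, 4, 0, 0, 0, 0, 0, 0, 0, 0, 0, 0, 0, 0, 0, 0, 0, 0, 0, 0, 0, 0],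
      [-4, 4, -4, -4, 0, 0, 0, 0, 0, 0, 0, 0, 0, 0, 0, 0, 0, 0, 0, 0, 0, 0, 0, 0],
      [0, 8, 0, 0, 0, 0, 0, 0, 0, 0, 0, 0, 0, 0, 0, 0, 0, 0, 0, 0, 0, 0, 0, 0],
      [0, 8, 0, 0, 0, 0, 0, 0, 0, 0, 0, 0, 0, 0, 0, 0, 0, 0, 0, 0, 0, 0, 0, 0],
      [0, 0, 0, 0, 0, 0, 0, 8, 0, 0, 0, 0, 0, 0, 0, 0, 0, 0, 0, 0, 0, 0, 0, 0]]]

/-- part of the data -/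
def threeTrace0x1 : List (List (List ℤ)) := [[[0, 0, -2, -2, 4, 0, -2, 0, 0, 0, -2, 0, 2, 0, 0, 2, 2, -2, 2, 0, 0, 2, -2, -2],
      [2, 2, 0, 0, 0, 0, 0, 2, 2, 0, 0, 0, 2, 0, -2, -2, -2, 0, -2, -2, 4, -2, 0, -2],
      [2, 2, 0, 0, 0, 0, 0, 2, 2, 0, 0, 0, -2, 0, -2, 2, -2, 0, -2, 2, -4, -2, 0, 2],
      [0, 0, -2, -2, 0, 0, 0, -2, 0, 0, 0, 0, 2, -4, 2, 0, 4, 0, -2, 0, 0, -2, 0, -2],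
      [0, 0, 0, 0, 0, 0, -2, 0, -2, 2, 0, -2, 0, 0, -4, -2, -2, 0, 0, -2, 0, 0, 2, 4],
      [0, 0, 0, 0, 0, 0, 2, 0, -2, -2, 0, -2, 0, 0, -4, -2, -2, 0, 0, 2, 0, 0, -2, 4],
      [0, 0, 0, 0, 0, 0, -4, 0, 0, 0, 0, 0, 0, 0, 4, 0, 0, 0, 0, -4, 0, 0, 0, -4],
      [0, 0, 0, 0, 0, -4, 0, 0, 0, 0, 0, 0, 0, 0, 4, 0, 0, -4, 0, 0, 0, 0, 0, -4],
      [0, 0, 0, 0, 0, 4, 0, 0, 0, 0, 0, 0, 0, 0, 4, 0, 0, -4, 0, 0, 0, 0, 0, 4],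
      [0, 0, 0, 0, 0, 0, 0, 0, 0, 0, 0, 0, 0, 0, 0, 0, 0, 8, 0, 0, 0, 0, 0, 0],
      [0, 0, 0, 0, 0, 0, 0, 0, 0, 0, 0, 0, 0, 0, 0, 0, 0, 8, 0, 0, 0, 0, 0, 0],
      [0, 0, 0, 0, 0, 0, 0, 0, 8, 0, 0, 0, 0, 0, 0, 0, 0, 0, 0, 0, 0, 0, 0, 0]],
    [[0, 0, -2, 2, 0, 0, -2, 0, 0, 0, -2, 0, 2, 0, 0, 2, -2, -2, -2, 0, 4, -2, 2, 2],
      [-2, -2, 0, 0, 0, 0, 0, 2, -2, 0, 0, 0, 2, 0, -2, -2, 2, 4, -2, -2, 0, 2, 0, 2],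
      [-2, -2, 0, 0, 0, 0, 0, 2, -2, 0, 0, 0, -2, 0, -2, 2, 2, 4, -2, 2, 0, 2, 0, -2],
      [0, 0, 2, 2, 0, 0, 0, -2, 4, 0, 0, 0, 2, 0, 2, 0, 0, -4, 2, 0, 0, -2, 0, 2],
      [4, -4, 0, 0, 0, 0, 2, 0, -2, 2, 0, 2, 0, 0, 0, 2, 2, 0, 0, -2, 0, 0, 2, 0],
      [4, 4, 0, 0, 0, 0, -2, 0, -2, -2, 0, 2, 0, 0, 0, 2, 2, 0, 0, 2, 0, 0, -2, 0],
      [0, 0, -4, -4, 0, 0, 0, 0, 4, 0, 0, -4, 0, 0, 0, 0, 0, 0, 0, 0, 0, 0, 0, 0],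
      [0, 0, 0, 0, 0, 0, 0, 0, 0, 0, 0, 0, 0, -4, 0, 0, 0, 0, 4, 0, -4, -4, 0, 0],
      [0, 0, 0, 0, 0, 0, 0, 0, 0, 0, 0, 0, 0, 4, 0, 0, 0, 0, -4, 0, 4, 4, 0, 0],
      [0, 0, 0, 0, 0, 0, 0, 0, 0, 0, 0, 0, 0, 0, 0, 0, 0, 0, 8, 0, 0, 0, 0, 0],
      [0, 0, 0, 0, 0, 0, 0, 0, 0, 0, 0, 0, 0, 0, 0, 0, 0, 0, 8, 0, 0, 0, 0, 0],
      [0, 0, 0, 0, 0, 0, 0, 0, 0, 8, 0, 0, 0, 0, 0, 0, 0, 0, 0, 0, 0, 0, 0, 0]],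
    [[2, -2, -4, 0, -2, -2, 0, -2, 2, 2, 0, 2, 0, -2, -2, 0, 0, 0, 0, 2, -2, 0, 0, 0],
      [0, 0, -2, -2, 2, -2, 2, 0, 0, 2, 2, -2, 0, 2, 0, -4, 0, -2, 0, 0, -2, 0, -2, 0],
      [0, 0, 2, 2, -2, 2, -2, 0, 0, 2, 2, 2, 0, -2, 0, 4, 0, -2, 0, 0, 2, 0, -2, 0],
      [-2, -2, 0, 0, 2, -2, 2, 0, 2, -2, -2, -2, 0, 2, 0, -2, 2, 2, 0, 2, -2, 0, 2, 0],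
      [2, 2, -2, -2, -2, -2, 0, -2, 0, 0, 2, 0, 2, 2, 2, 0, 0, -2, 2, 0, -2, -2, 0, 2],
      [2, -2, 2, 2, 2, -2, 0, -2, 0, 0, -2, 0, -2, 2, 2, 0, 0, 2, -2, 0, -2, -2, 0, 2],
      [0, -4, 0, 0, -4, 4, 0, 0, 0, 0, 0, 0, 0, -4, 0, 0, 0, 0, 0, 0, 0, 0, 0, 0],
      [0, 0, 0, 0, 0, 0, -4, 0, 0, -4, 0, -4, 0, 0, 0, 0, 0, 0, 0, 0, 0, 0, 4, 0],
      [0, 0, 0, 0, 0, 0, 4, 0, 0, -4, 0, 4, 0, 0, 0, 0, 0, 0, 0, 0, 0, 0, 4, 0],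
      [0, 0, 0, 0, 0, 0, 0, 0, 0, 8, 0, 0, 0, 0, 0, 0, 0, 0, 0, 0, 0, 0, 0, 0],
      [0, 0, 0, 0, 0, 0, 0, 0, 0, 8, 0, 0, 0, 0, 0, 0, 0, 0, 0, 0, 0, 0, 0, 0],
      [0, 0, 0, 0, 0, 0, 0, 0, 0, 0, 8, 0, 0, 0, 0, 0, 0, 0, 0, 0, 0, 0, 0, 0]],
    [[4, 0, 2, -2, 0, 0, 2, 0, 0, 0, -2, 0, -2, 0, 0, 2, 2, -2, -2, 0, 0, -2, 2, -2],
      [-2, -2, 0, 0, 4, 0, 0, 2, 2, 0, 0, 0, -2, 0, -2, 2, 2, 0, 2, -2, 0, -2, 0, -2],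
      [-2, -2, 0, 0, -4, 0, 0, 2, 2, 0, 0, 0, 2, 0, -2, -2, 2, 0, 2, 2, 0, -2, 0, 2],
      [0, 0, 2, 2, 4, 0, 0, -2, 0, 0, 0, 0, -2, 0, 2, 4, 0, 0, -2, 0, 0, 2, 0, -2],
      [0, 0, 0, 0, 0, 0, -2, 0, 2, -2, 0, 2, 0, 0, 0, -2, 2, 0, 4, -2, 0, 4, 2, 0],
      [0, 0, 0, 0, 0, 0, 2, 0, 2, 2, 0, 2, 0, 0, 0, -2, 2, 0, -4, 2, 0, 4, -2, 0],
      [0, 0, 0, 0, 0, 0, 0, 0, 0, 0, 0, 0, 0, 0, 0, 4, 0, 0, 4, 0, 0, -4, 4, 0],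
      [0, 0, 0, 0, -4, 0, 0, 4, 0, 0, 4, 0, 4, 0, 0, 0, 0, 0, 0, 0, 0, 0, 0, 0],
      [0, 0, 0, 0, -4, 0, 0, -4, 0, 0, 4, 0, -4, 0, 0, 0, 0, 0, 0, 0, 0, 0, 0, 0],
      [0, 0, 0, 0, 0, 0, 0, 0, 0, 0, -8, 0, 0, 0, 0, 0, 0, 0, 0, 0, 0, 0, 0, 0],
      [0, 0, 0, 0, 0, 0, 0, 0, 0, 0, 8, 0, 0, 0, 0, 0, 0, 0, 0, 0, 0, 0, 0, 0],
      [0, 0, 0, 0, 0, 0, 0, 0, 0, 0, 0, 8, 0, 0, 0, 0, 0, 0, 0, 0, 0, 0, 0, 0]],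
    [[2, 2, 0, 0, -2, -2, 0, -2, -2, -2, 0, -2, 0, -2, -2, 0, 0, 0, 0, -2, 2, 4, 0, 0],
      [4, 0, -2, -2, 2, -2, -2, 0, 0, -2, -2, 2, 0, -2, 0, 0, 0, 2, 0, 0, -2, 0, -2, 0],
      [4, 0, 2, 2, -2, 2, 2, 0, 0, -2, -2, -2, 0, 2, 0, 0, 0, 2, 0, 0, 2, 0, -2, 0],
      [0, -4, -2, -2, 0, 0, -4, -2, 0, 0, 0, 0, -2, 0, 2, 0, 0, 0, 2, 0, 0, 2, 0, 2],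
      [0, 0, 0, 0, -4, 0, 2, 0, 2, -2, -4, -2, 0, 0, 0, 2, -2, 0, 0, -2, 0, 0, 2, 0],
      [0, 0, 0, 0, 4, 0, -2, 0, 2, 2, 4, -2, 0, 0, 0, 2, -2, 0, 0, 2, 0, 0, -2, 0],
      [0, 0, 0, 0, 0, 0, 0, 4, 0, -4, 0, 0, 4, 0, 0, 0, 4, 0, 0, 0, 0, 0, 0, 0],
      [4, -4, 4, 4, 0, 0, 0, 0, 0, 0, 0, 0, 0, 0, 0, 0, 0, 0, 0, 0, 0, 0, 0, 0],
      [4, 4, 4, -4, 0, 0, 0, 0, 0, 0, 0, 0, 0, 0, 0, 0, 0, 0, 0, 0, 0, 0, 0, 0],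
      [0, 0, 0, -8, 0, 0, 0, 0, 0, 0, 0, 0, 0, 0, 0, 0, 0, 0, 0, 0, 0, 0, 0, 0],
      [0, 0, 0, 8, 0, 0, 0, 0, 0, 0, 0, 0, 0, 0, 0, 0, 0, 0, 0, 0, 0, 0, 0, 0],
      [0, 0, 0, 0, 0, 0, 0, 0, 0, 0, 0, 0, 8, 0, 0, 0, 0, 0, 0, 0, 0, 0, 0, 0]],
    [[0, 0, -2, -2, 0, 4, 2, 0, 0, 0, -2, 0, -2, 0, 0, -2, -2, -2, 2, 0, 0, 2, 2, 2],
      [2, 2, 0, 0, 0, 4, 0, -2, -2, 0, 0, 0, -2, 0, -2, -2, 2, 0, 2, -2, 0, -2, 0, 2],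
      [2, 2, 0, 0, 0, -4, 0, -2, -2, 0, 0, 0, 2, 0, -2, 2, 2, 0, 2, 2, 0, -2, 0, -2],
      [0, 0, -2, -2, 0, 0, 0, 2, 4, 0, 0, 0, -2, 0, -2, 0, 0, -4, -2, 0, 0, 2, 0, -2],
      [4, -4, 0, 0, 0, 0, -2, 0, 2, -2, 0, -2, 0, 0, 0, -2, -2, 0, 0, 2, 0, 0, -2, 0],
      [4, 4, 0, 0, 0, 0, 2, 0, 2, 2, 0, -2, 0, 0, 0, -2, -2, 0, 0, -2, 0, 0, 2, 0],
      [0, 0, -4, -4, 0, 0, 0, 0, -4, 0, 0, 4, 0, 0, 0, 0, 0, 0, 0, 0, 0, 0, 0, 0],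
      [0, 0, 0, 0, 0, 0, 0, 0, 0, 0, 0, 0, 0, -4, 0, 0, 0, 0, -4, 0, -4, 4, 0, 0],
      [0, 0, 0, 0, 0, 0, 0, 0, 0, 0, 0, 0, 0, 4, 0, 0, 0, 0, 4, 0, 4, -4, 0, 0],
      [0, 0, 0, 0, 0, 0, 0, 0, 0, 0, 0, 0, 0, 0, 0, 0, 0, 0, 0, 0, 0, 8, 0, 0],
      [0, 0, 0, 0, 0, 0, 0, 0, 0, 0, 0, 0, 0, 0, 0, 0, 0, 0, 0, 0, 0, 8, 0, 0],
      [0, 0, 0, 0, 0, 0, 0, 0, 0, 0, 0, 0, 0, 8, 0, 0, 0, 0, 0, 0, 0, 0, 0, 0]],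
    [[0, 0, -2, -2, 0, 0, 2, 0, 0, 0, 2, -4, 2, 0, 0, -2, -2, -2, -2, 0, 0, -2, -2, -2],
      [-2, -2, 0, 0, 0, 0, 0, -2, -2, 0, -4, 0, 2, 0, -2, -2, -2, 0, 2, 2, 0, -2, 0, -2],
      [-2, -2, 0, 0, 0, 0, 0, -2, -2, 0, -4, 0, -2, 0, -2, 2, -2, 0, 2, -2, 0, -2, 0, 2],
      [0, 0, 2, 2, -4, 0, 0, -2, 0, 0, 0, 0, -2, 0, 2, -4, 0, 0, -2, 0, 0, 2, 0, -2],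
      [0, 0, 0, 0, 0, 0, -2, 0, 2, -2, 0, 2, 0, 0, 0, -2, 2, 0, -4, -2, 0, -4, 2, 0],
      [0, 0, 0, 0, 0, 0, 2, 0, 2, 2, 0, 2, 0, 0, 0, -2, 2, 0, 4, 2, 0, -4, -2, 0],
      [0, 0, 0, 0, 0, 0, 0, 0, 0, 0, 0, 0, 0, 0, 0, 4, 0, 0, -4, 0, 0, 4, 4, 0],
      [0, 0, 0, 0, 4, 0, 0, 4, 0, 0, -4, 0, 4, 0, 0, 0, 0, 0, 0, 0, 0, 0, 0, 0],
      [0, 0, 0, 0, 4, 0, 0, -4, 0, 0, -4, 0, -4, 0, 0, 0, 0, 0, 0, 0, 0, 0, 0, 0],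
      [0, 0, 0, 0, -8, 0, 0, 0, 0, 0, 0, 0, 0, 0, 0, 0, 0, 0, 0, 0, 0, 0, 0, 0],
      [0, 0, 0, 0, 8, 0, 0, 0, 0, 0, 0, 0, 0, 0, 0, 0, 0, 0, 0, 0, 0, 0, 0, 0],
      [0, 0, 0, 0, 0, 0, 0, 0, 0, 0, 0, 0, 0, 0, 8, 0, 0, 0, 0, 0, 0, 0, 0, 0]],
    [[-2, 2, 0, 0, -2, -2, 0, -2, 2, 2, -4, -2, 0, 2, 2, 0, 0, 0, 0, -2, -2, 0, 0, 0],
      [0, 0, 2, 2, -2, -2, 2, 0, 0, -2, -2, 2, 0, 2, 0, 0, 0, -2, 0, -4, -2, 0, -2, 0],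
      [0, 0, -2, -2, 2, 2, -2, 0, 0, -2, -2, -2, 0, -2, 0, 0, 0, -2, 0, 4, 2, 0, -2, 0],
      [2, 2, 0, 0, -2, -2, -2, 0, 2, -2, 2, -2, 0, 2, 0, 2, 2, 2, 0, -2, -2, 0, -2, 0],
      [2, 2, -2, -2, 2, -2, 0, 2, 0, 0, -2, 0, -2, -2, 2, 0, 0, -2, -2, 0, 2, 2, 0, 2],
      [2, -2, 2, 2, -2, -2, 0, 2, 0, 0, 2, 0, 2, -2, 2, 0, 0, 2, 2, 0, 2, 2, 0, 2],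
      [0, -4, 0, 0, 4, 4, 0, 0, 0, 0, 0, 0, 0, 4, 0, 0, 0, 0, 0, 0, 0, 0, 0, 0],
      [0, 0, 0, 0, 0, 0, -4, 0, 0, 4, 0, 4, 0, 0, 0, 0, 0, 0, 0, 0, 0, 0, 4, 0],
      [0, 0, 0, 0, 0, 0, 4, 0, 0, 4, 0, -4, 0, 0, 0, 0, 0, 0, 0, 0, 0, 0, 4, 0],
      [0, 0, 0, 0, 0, 0, 0, 0, 0, 0, 0, 8, 0, 0, 0, 0, 0, 0, 0, 0, 0, 0, 0, 0],
      [0, 0, 0, 0, 0, 0, 0, 0, 0, 0, 0, 8, 0, 0, 0, 0, 0, 0, 0, 0, 0, 0, 0, 0],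
      [0, 0, 0, 0, 0, 0, 0, 0, 0, 0, 0, 0, 0, 0, 0, 8, 0, 0, 0, 0, 0, 0, 0, 0]]]

/-- part of the data -/
def threeTrace0x2 : List (List (List ℤ)) := [[[-2, 2, 0, 0, 2, -2, 4, -2, -2, 2, 0, 2, 0, -2, 2, 0, 0, 0, 0, 2, 2, 0, 0, 0],
      [0, 0, -2, 2, -2, -2, 2, 0, 0, 2, 2, 2, 0, -2, 0, 0, 0, 2, 4, 0, 2, 0, -2, 0],
      [0, 0, 2, -2, 2, 2, -2, 0, 0, 2, 2, -2, 0, 2, 0, 0, 0, 2, 4, 0, -2, 0, -2, 0],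
      [0, 0, 2, -2, 0, 0, 0, 2, 0, -4, 0, 0, 2, 0, 2, 0, 0, 0, -2, 0, 4, 2, 0, 2],
      [0, 0, 0, 0, 0, 4, -2, 0, 2, 2, 0, -2, 0, 0, 0, 2, 2, -4, 0, 2, 0, 0, 2, 0],
      [0, 0, 0, 0, 0, 4, 2, 0, 2, -2, 0, -2, 0, 0, 0, 2, 2, 4, 0, -2, 0, 0, -2, 0],
      [0, 0, 0, 0, 0, 0, -4, 0, 0, 0, 0, 0, 0, 0, 4, 0, 0, 0, 0, 4, 0, 0, 0, 4],
      [0, 0, 0, 0, 0, -4, 0, 0, 0, 0, 0, 0, 0, 0, 4, 0, 0, 4, 0, 0, 0, 0, 0, 4],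
      [0, 0, 0, 0, 0, 4, 0, 0, 0, 0, 0, 0, 0, 0, 4, 0, 0, 4, 0, 0, 0, 0, 0, -4],
      [0, 0, 0, 0, 0, 0, 0, 0, 0, 0, 0, 0, 0, 0, 0, 0, 0, 0, 0, 0, 0, 0, 0, 8],
      [0, 0, 0, 0, 0, 0, 0, 0, 0, 0, 0, 0, 0, 0, 0, 0, 0, 0, 0, 0, 0, 0, 0, 8],
      [0, 0, 0, 0, 0, 0, 0, 0, 0, 0, 0, 0, 0, 0, 0, 0, 8, 0, 0, 0, 0, 0, 0, 0]],
    [[-2, -2, 0, 0, 2, -2, 0, -2, 2, -2, 0, -2, -4, 2, -2, 0, 0, 0, 0, 2, 2, 0, 0, 0],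
      [0, 0, 2, -2, -2, -2, -2, 0, 0, 2, -2, -2, -4, 2, 0, 0, 0, 2, 0, 0, 2, 0, -2, 0],
      [0, 0, -2, 2, 2, 2, 2, 0, 0, 2, -2, 2, 4, -2, 0, 0, 0, 2, 0, 0, -2, 0, -2, 0],
      [0, 0, -2, 2, 0, 0, 0, 2, 0, 0, 4, 0, -2, 0, 2, 0, 0, 0, -2, 0, 0, -2, 4, 2],
      [0, 0, 0, 0, 0, 0, -2, 0, -2, -2, 0, 2, 0, 4, 0, 2, -2, 0, 0, 2, 4, 0, 2, 0],
      [0, 0, 0, 0, 0, 0, 2, 0, -2, 2, 0, 2, 0, 4, 0, 2, -2, 0, 0, -2, 4, 0, -2, 0],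
      [0, 0, 0, 0, 0, 0, 0, 0, 0, 0, 0, 0, 0, 0, 0, -4, 0, 0, 4, 0, 0, 4, 4, 0],
      [0, 0, 0, 0, 4, 0, 0, 4, 0, 0, 4, 0, -4, 0, 0, 0, 0, 0, 0, 0, 0, 0, 0, 0],
      [0, 0, 0, 0, 4, 0, 0, -4, 0, 0, 4, 0, 4, 0, 0, 0, 0, 0, 0, 0, 0, 0, 0, 0],
      [0, 0, 0, 0, 0, 0, 0, 8, 0, 0, 0, 0, 0, 0, 0, 0, 0, 0, 0, 0, 0, 0, 0, 0],
      [0, 0, 0, 0, 0, 0, 0, 8, 0, 0, 0, 0, 0, 0, 0, 0, 0, 0, 0, 0, 0, 0, 0, 0],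
      [0, 0, 0, 0, 0, 0, 0, 0, 0, 0, 0, 0, 0, 0, 0, 0, 0, 8, 0, 0, 0, 0, 0, 0]],
    [[-2, 2, 0, 0, -2, 2, 0, 2, 2, 2, 0, -2, 0, -2, -2, 0, 4, 0, 0, 2, 2, 0, 0, 0],
      [0, 0, -2, -2, -2, 2, 2, 0, 4, 2, -2, 2, 0, 2, 0, 0, 0, 2, 0, 0, -2, 0, 2, 0],
      [0, 0, 2, 2, 2, -2, -2, 0, 4, 2, -2, -2, 0, -2, 0, 0, 0, 2, 0, 0, 2, 0, 2, 0],
      [-2, -2, 0, 0, -2, 2, 2, 0, -2, -2, 2, 2, 0, 2, 0, 2, 2, -2, 0, 2, -2, 0, -2, 0],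
      [-2, -2, 2, 2, -2, -2, 0, -2, 0, 0, 2, 0, 2, -2, 2, 0, 0, -2, -2, 0, 2, 2, 0, 2],
      [-2, 2, -2, -2, 2, -2, 0, -2, 0, 0, -2, 0, -2, -2, 2, 0, 0, 2, 2, 0, 2, 2, 0, 2],
      [0, 4, 0, 0, -4, 4, 0, 0, 0, 0, 0, 0, 0, 4, 0, 0, 0, 0, 0, 0, 0, 0, 0, 0],
      [0, 0, 0, 0, 0, 0, 4, 0, 0, -4, 0, 4, 0, 0, 0, 0, 0, 0, 0, 0, 0, 0, 4, 0],
      [0, 0, 0, 0, 0, 0, -4, 0, 0, -4, 0, -4, 0, 0, 0, 0, 0, 0, 0, 0, 0, 0, 4, 0],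
      [0, 0, 0, 0, 0, 0, 0, 0, 0, 0, 0, 0, 0, 0, 0, 0, 0, 0, 0, 0, 0, 0, -8, 0],
      [0, 0, 0, 0, 0, 0, 0, 0, 0, 0, 0, 0, 0, 0, 0, 0, 0, 0, 0, 0, 0, 0, 8, 0],
      [0, 0, 0, 0, 0, 0, 0, 0, 0, 0, 0, 0, 0, 0, 0, 0, 0, 0, 8, 0, 0, 0, 0, 0]],
    [[0, 0, 2, -2, 0, 0, -2, 0, 0, 4, 2, 0, -2, 0, 0, 2, -2, -2, -2, 0, 0, 2, -2, 2],
      [2, -2, 0, 0, 0, 0, 4, 2, -2, 0, 0, 0, -2, 0, -2, 2, -2, 0, -2, 2, 0, -2, 0, 2],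
      [2, -2, 0, 0, 0, 0, -4, 2, -2, 0, 0, 0, 2, 0, -2, -2, -2, 0, -2, -2, 0, -2, 0, -2],
      [2, -2, 0, 0, 2, -2, 2, 0, -2, -2, 2, -2, 0, -2, 0, -2, -2, -2, 0, -2, -2, 0, -2, 0],
      [-2, -2, -2, -2, -2, -2, 0, 2, 0, 0, 2, 0, -2, -2, -2, 0, 0, -2, 2, 0, 2, -2, 0, -2],
      [-2, 2, 2, 2, 2, -2, 0, 2, 0, 0, -2, 0, 2, -2, -2, 0, 0, 2, -2, 0, 2, -2, 0, -2],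
      [-4, 0, 0, 0, 0, 0, 0, 0, 0, 0, 4, 0, 0, 0, 0, 0, 0, -4, 0, 0, -4, 0, 0, 0],
      [0, 0, 0, 0, 0, 0, 0, 0, -4, 0, 0, 0, 0, 0, 0, 4, -4, 0, 0, -4, 0, 0, 0, 0],
      [0, 0, 0, 0, 0, 0, 0, 0, 4, 0, 0, 0, 0, 0, 0, -4, 4, 0, 0, 4, 0, 0, 0, 0],
      [0, 0, 0, 0, 0, 0, 0, 0, 0, 0, 0, 0, 0, 0, 0, 8, 0, 0, 0, 0, 0, 0, 0, 0],
      [0, 0, 0, 0, 0, 0, 0, 0, 0, 0, 0, 0, 0, 0, 0, 8, 0, 0, 0, 0, 0, 0, 0, 0],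
      [0, 0, 0, 0, 0, 0, 0, 0, 0, 0, 0, 0, 0, 0, 0, 0, 0, 0, 0, 8, 0, 0, 0, 0]],
    [[0, 0, 2, -2, 0, 0, -2, 0, 0, 0, -2, 0, 2, 0, 0, -2, -2, 2, -2, 4, 0, 2, 2, -2],
      [2, -2, 0, 0, 0, 0, 0, -2, -2, 4, 0, 0, 2, 0, 2, 2, 2, 0, -2, -2, 0, -2, 0, -2],
      [2, -2, 0, 0, 0, 0, 0, -2, -2, 4, 0, 0, -2, 0, 2, -2, 2, 0, -2, 2, 0, -2, 0, 2],
      [2, -2, 0, 0, -2, 2, 2, 0, 2, -2, -2, 2, 0, -2, 0, 2, -2, 2, 0, -2, -2, 0, 2, 0],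
      [2, 2, 2, 2, -2, -2, 0, 2, 0, 0, 2, 0, -2, 2, -2, 0, 0, -2, -2, 0, -2, 2, 0, -2],
      [2, -2, -2, -2, 2, -2, 0, 2, 0, 0, -2, 0, 2, 2, -2, 0, 0, 2, 2, 0, -2, 2, 0, -2],
      [4, 0, 0, 0, 0, 0, 0, 0, 0, 0, 4, 0, 0, 0, 0, 0, 0, -4, 0, 0, 4, 0, 0, 0],
      [0, 0, 0, 0, 0, 0, 0, 0, 4, 0, 0, 0, 0, 0, 0, 4, -4, 0, 0, 4, 0, 0, 0, 0],
      [0, 0, 0, 0, 0, 0, 0, 0, -4, 0, 0, 0, 0, 0, 0, -4, 4, 0, 0, -4, 0, 0, 0, 0],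
      [0, 0, 0, 0, 0, 0, 0, 0, 0, 0, 0, 0, 0, 0, 0, 0, -8, 0, 0, 0, 0, 0, 0, 0],
      [0, 0, 0, 0, 0, 0, 0, 0, 0, 0, 0, 0, 0, 0, 0, 0, 8, 0, 0, 0, 0, 0, 0, 0],
      [0, 0, 0, 0, 0, 0, 0, 0, 0, 0, 0, 0, 0, 0, 0, 0, 0, 0, 0, 0, 8, 0, 0, 0]],
    [[-2, 2, 0, 0, -2, -2, 0, 2, -2, -2, 0, 2, 0, 2, -2, 0, 0, -4, 0, 2, -2, 0, 0, 0],
      [0, 0, 2, -2, -2, -2, -2, 0, 0, 2, 2, 2, 0, -2, -4, 0, 0, -2, 0, 0, -2, 0, 2, 0],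
      [0, 0, -2, 2, 2, 2, 2, 0, 0, 2, 2, -2, 0, 2, -4, 0, 0, -2, 0, 0, 2, 0, 2, 0],
      [0, 0, -2, 2, 0, -4, 0, 2, 0, 0, 0, 4, 2, 0, 2, 0, 0, 0, 2, 0, 0, 2, 0, -2],
      [0, 0, 4, -4, 0, 0, 2, 0, 2, 2, 0, 2, 0, 0, 0, -2, -2, 0, 0, 2, 0, 0, 2, 0],
      [0, 0, -4, 4, 0, 0, -2, 0, 2, -2, 0, 2, 0, 0, 0, -2, -2, 0, 0, -2, 0, 0, -2, 0],
      [0, 0, -4, 4, 0, 0, 0, 0, -4, 0, 0, -4, 0, 0, 0, 0, 0, 0, 0, 0, 0, 0, 0, 0],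
      [0, 0, 0, 0, 0, 0, 0, 0, 0, 0, 0, 0, 0, 4, 0, 0, 0, 0, -4, 0, -4, -4, 0, 0],
      [0, 0, 0, 0, 0, 0, 0, 0, 0, 0, 0, 0, 0, -4, 0, 0, 0, 0, 4, 0, 4, 4, 0, 0],
      [0, 0, 0, 0, 0, 0, 0, 0, 0, 0, 0, 0, 0, 8, 0, 0, 0, 0, 0, 0, 0, 0, 0, 0],
      [0, 0, 0, 0, 0, 0, 0, 0, 0, 0, 0, 0, 0, 8, 0, 0, 0, 0, 0, 0, 0, 0, 0, 0],
      [0, 0, 0, 0, 0, 0, 0, 0, 0, 0, 0, 0, 0, 0, 0, 0, 0, 0, 0, 0, 0, 8, 0, 0]],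
    [[-2, -2, 0, -4, -2, -2, 0, 2, 2, -2, 0, 2, 0, -2, 2, 0, 0, 0, 0, -2, 2, 0, 0, 0],
      [0, 0, -2, 2, -2, -2, -2, 0, 0, -2, 2, -2, 0, 2, 0, 0, 0, 2, 0, 0, -2, -4, 2, 0],
      [0, 0, 2, -2, 2, 2, 2, 0, 0, -2, 2, 2, 0, -2, 0, 0, 0, 2, 0, 0, 2, -4, 2, 0],
      [0, 0, 2, -2, 0, 0, 0, 2, 0, 4, 0, 0, 2, 0, 2, 0, 0, 0, -2, 0, -4, 2, 0, 2],
      [0, 0, 0, 0, 0, -4, -2, 0, 2, 2, 0, -2, 0, 0, 0, 2, 2, 4, 0, 2, 0, 0, 2, 0],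
      [0, 0, 0, 0, 0, -4, 2, 0, 2, -2, 0, -2, 0, 0, 0, 2, 2, -4, 0, -2, 0, 0, -2, 0],
      [0, 0, 0, 0, 0, 0, -4, 0, 0, 0, 0, 0, 0, 0, -4, 0, 0, 0, 0, 4, 0, 0, 0, -4],
      [0, 0, 0, 0, 0, -4, 0, 0, 0, 0, 0, 0, 0, 0, -4, 0, 0, 4, 0, 0, 0, 0, 0, -4],
      [0, 0, 0, 0, 0, 4, 0, 0, 0, 0, 0, 0, 0, 0, -4, 0, 0, 4, 0, 0, 0, 0, 0, 4],
      [0, 0, 0, 0, 0, 0, 0, 0, 0, 0, 0, 0, 0, 0, 8, 0, 0, 0, 0, 0, 0, 0, 0, 0],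
      [0, 0, 0, 0, 0, 0, 0, 0, 0, 0, 0, 0, 0, 0, 8, 0, 0, 0, 0, 0, 0, 0, 0, 0],
      [0, 0, 0, 0, 0, 0, 0, 0, 0, 0, 0, 0, 0, 0, 0, 0, 0, 0, 0, 0, 0, 0, 8, 0]],
    [[-2, -2, 0, 0, 2, -2, 0, 2, -2, 2, 0, -2, 0, -2, -2, 0, 0, 0, 0, -2, -2, 0, 4, 0],
      [0, 0, -2, -2, -2, -2, 2, 0, 0, -2, -2, -2, 0, -2, 0, 0, 4, -2, 0, 0, 2, 0, 2, 0],
      [0, 0, 2, 2, 2, 2, -2, 0, 0, -2, -2, 2, 0, 2, 0, 0, 4, -2, 0, 0, -2, 0, 2, 0],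
      [-2, -2, 0, 0, -2, -2, 2, 0, 2, 2, 2, -2, 0, -2, 0, 2, -2, 2, 0, 2, 2, 0, -2, 0],
      [2, 2, -2, -2, -2, 2, 0, -2, 0, 0, 2, 0, 2, -2, -2, 0, 0, 2, -2, 0, 2, 2, 0, -2],
      [2, -2, 2, 2, 2, 2, 0, -2, 0, 0, -2, 0, -2, -2, -2, 0, 0, -2, 2, 0, 2, 2, 0, -2],
      [0, -4, 0, 0, -4, -4, 0, 0, 0, 0, 0, 0, 0, 4, 0, 0, 0, 0, 0, 0, 0, 0, 0, 0],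
      [0, 0, 0, 0, 0, 0, -4, 0, 0, -4, 0, 4, 0, 0, 0, 0, 0, 0, 0, 0, 0, 0, -4, 0],
      [0, 0, 0, 0, 0, 0, 4, 0, 0, -4, 0, -4, 0, 0, 0, 0, 0, 0, 0, 0, 0, 0, -4, 0],
      [0, 0, 0, 0, 0, 0, -8, 0, 0, 0, 0, 0, 0, 0, 0, 0, 0, 0, 0, 0, 0, 0, 0, 0],
      [0, 0, 0, 0, 0, 0, 8, 0, 0, 0, 0, 0, 0, 0, 0, 0, 0, 0, 0, 0, 0, 0, 0, 0],
      [0, 0, 0, 0, 0, 0, 0, 0, 0, 0, 0, 0, 0, 0, 0, 0, 0, 0, 0, 0, 0, 0, 0, 8]]]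

/-- part of the data -/
def threeTrace0x3 : List (List (List ℤ)) := [[[-2, -2, 0, 0, -2, -2, 0, -2, -6, -2, 0, -6, 0, -6, -2, 4, 0, 0, 0, -2, -2, 4, 4, 0],
      [4, 0, -6, -2, -2, -2, -2, 4, 0, -2, -6, -2, 0, -6, 0, 0, 4, -2, 0, 0, -2, 0, -2, 0],
      [4, 0, 6, 2, 2, 2, 2, 4, 0, -2, -6, 2, 0, 6, 0, 0, 4, -2, 0, 0, 2, 0, -2, 0],
      [-2, -6, 0, -4, -2, -2, -2, -4, 2, 2, 6, -2, 0, -2, 0, 2, -2, 2, 4, 2, 2, 4, 2, 0],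
      [2, 2, -2, -2, -6, 2, 4, -2, 4, 0, -2, -4, 2, 2, -2, 0, 0, 2, -2, -4, 6, 2, 0, -2],
      [2, -2, 2, 2, 6, 2, -4, -2, 4, 0, 2, -4, -2, 2, -2, 0, 0, -2, 2, 4, 6, 2, 0, -2],
      [0, -4, 0, 0, -4, -4, 0, 4, 0, -4, 0, 0, 4, 4, 0, 4, 4, 0, 4, 0, 0, 4, -4, 0],
      [4, -4, 4, 4, 4, 0, -4, -4, 0, -4, 4, 4, 4, 0, 0, 0, 0, 0, 0, 0, 0, 0, -4, 0],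
      [4, 4, 4, -4, 4, 0, 4, 4, 0, -4, 4, -4, -4, 0, 0, 0, 0, 0, 0, 0, 0, 0, -4, 0],
      [0, 0, 0, -8, 0, 0, -8, 0, 0, 0, 0, 0, 8, 0, 0, 0, 0, 0, 0, 0, 0, 0, 0, 0],
      [0, 0, 0, 8, 0, 0, 8, 0, 0, 0, 0, 0, 8, 0, 0, 0, 0, 0, 0, 0, 0, 0, 0, 0],
      [0, 0, 8, 0, 0, 0, 0, 0, 0, 0, 0, 0, 8, 0, 0, 0, 0, 0, 0, 0, 0, 0, 0, 8]],
    [[-1, -1, 1, -1, -1, -1, 1, -1, -3, 1, -1, -3, 1, -3, -1, -1, 1, -1, 1, 1, 1, -1, -1, 1],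
      [-1, 1, -3, -1, -1, -1, 1, -1, 1, 1, -3, -1, 1, -3, -1, 1, -1, 1, 1, -1, -1, -1, -1, 1],
      [-1, 1, 3, 1, 1, 1, -1, -1, 1, 1, -3, 1, -1, 3, -1, -1, -1, 1, 1, 1, 1, -1, -1, -1],
      [-3, -1, 1, -1, -3, -1, 1, -1, -1, -1, 1, -1, -1, -1, 1, 1, 1, -1, 1, -1, 1, 3, 1, 1],
      [-1, -1, -1, -1, -1, 1, 1, -3, 3, -1, 1, -1, -1, 1, -1, 1, 1, -1, -3, -1, 1, 1, 1, 1],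
      [-1, 1, 1, 1, 1, 1, -1, -3, 3, 1, -1, -1, 1, 1, -1, 1, 1, 1, 3, 1, 1, 1, -1, 1],
      [-2, 0, 0, 0, -2, 0, 0, 2, 0, -2, 0, 0, -2, 2, 2, 2, 2, 0, 0, 2, 2, 2, 0, 0],
      [2, -2, -2, 2, 2, 0, 0, 0, -2, -2, 0, 2, 2, 0, 2, 0, 0, 2, 0, 2, 0, 0, 0, 0],
      [2, 2, -2, -2, 2, 0, 0, 0, 2, -2, 0, -2, -2, 0, 2, 0, 0, 2, 0, -2, 0, 0, 0, 0],
      [2, 2, -2, -2, -2, 2, -2, 0, -2, 0, 0, 0, 2, 0, 0, 0, 0, 0, 0, 2, 0, 0, -2, 2],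
      [2, 2, 2, 2, 2, 2, 2, 0, 2, 0, 0, 0, 2, 0, 0, 0, 0, 0, 0, 2, 0, 0, 2, 2],
      [2, 2, 2, 0, 2, 2, 2, 2, 0, 0, 0, 0, 2, 0, 2, 0, 2, 0, 2, 0, 0, 0, 0, 2]],
    [[0, -2, -2, -2, 0, 0, 0, -2, -2, 0, -2, -2, -2, -2, -2, 0, 0, -2, 0, 0, 0, 0, 0, -2],
      [0, 0, -2, -2, 0, 0, 0, 0, 0, 0, -2, -2, -2, -2, -2, -2, 0, 0, 0, -2, 0, -2, -2, -2],
      [0, 0, 2, 2, 0, 0, 0, 0, 0, 0, -2, 2, 2, 2, -2, 2, 0, 0, 0, 2, 0, -2, -2, 2],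
      [-2, -2, 0, 0, 0, 0, 0, 0, 2, 0, 2, -2, -2, -2, 2, 0, 2, 0, 0, 0, 0, 2, 2, -2],
      [2, 0, -2, 0, -2, 0, 0, -2, 2, -2, 0, 0, 0, 2, -2, -2, 0, 0, 0, 0, 2, 0, 2, 2],
      [2, 0, 2, 0, 2, 0, 0, -2, 2, 2, 0, 0, 0, 2, -2, -2, 0, 0, 0, 0, 2, 0, -2, 2],
      [0, -2, 0, -2, -2, 0, 0, 2, -2, -2, 0, 0, 0, 0, 2, 2, 0, 0, 2, 0, 0, 2, 2, -2],
      [0, -2, 0, 2, 2, 0, -2, 2, 0, -2, 2, 0, 2, -2, 2, 0, 0, 0, -2, 0, 0, 0, 0, -2],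
      [0, 2, 0, -2, 2, 0, 2, -2, 0, -2, 2, 0, -2, 2, 2, 0, 0, 0, 2, 0, 0, 0, 0, 2],
      [0, 2, 0, -2, -2, 2, -2, 2, 0, 2, -2, 0, 2, 0, 0, 0, 0, 2, 0, 0, 2, 2, 0, 0],
      [0, 2, 0, 2, 2, 2, 2, 2, 0, 2, 2, 0, 2, 0, 0, 0, 0, 2, 0, 0, 2, 2, 0, 0],
      [0, 2, 2, 2, 0, 0, 0, 2, 2, 0, 2, 2, 2, 2, 2, 0, 0, 2, 0, 0, 0, 0, 0, 2]],
    [[0, -2, 0, -2, 0, 0, 2, -2, 0, 2, -2, 0, 0, 0, -2, 0, 2, -2, 2, 2, 2, 0, 0, 0],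
      [0, 2, 0, -2, 0, 0, 2, 0, 2, 2, 0, -2, 0, 0, -2, 0, 0, 2, 2, -2, 0, -2, -2, 0],
      [0, 2, 0, 2, 0, 0, -2, 0, 2, 2, 0, 2, 0, 0, -2, 0, 0, 2, 2, 2, 0, -2, -2, 0],
      [-2, 0, -2, 0, 0, 0, 2, 0, 0, -2, 0, -2, 0, 0, 2, 2, 2, -2, -2, 0, 0, 2, 2, 0],
      [0, -2, -2, 0, 0, 0, -2, -2, 2, 0, 2, 0, 0, 2, 0, 0, -2, -2, 0, 0, 0, 2, 2, 2],
      [0, 2, 2, 0, 0, 0, 2, -2, 2, 0, -2, 0, 0, 2, 0, 0, -2, 2, 0, 0, 0, 2, -2, 2],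
      [-2, 0, 0, -2, -2, 2, -2, 0, -2, 0, 0, 0, -2, 0, 2, 0, 2, 0, 2, 0, 2, 0, 2, 0],
      [2, 0, -2, 0, 0, -2, 0, 2, -2, -2, 2, 0, 0, -2, 2, 0, 0, 0, -2, 2, 0, 0, 2, 0],
      [2, 0, -2, 0, 0, 2, 0, -2, 2, -2, 2, 0, 0, 2, 2, 0, 0, 0, 2, -2, 0, 0, 2, 0],
      [2, 0, -2, 0, 0, 0, 0, 2, -2, 2, -2, 0, 0, 0, 0, 0, 0, 2, 0, 2, 2, 2, -2, 2],
      [2, 0, 2, 0, 0, 0, 0, 2, 2, 2, 2, 0, 0, 0, 0, 0, 0, 2, 0, 2, 2, 2, 2, 2],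
      [2, 0, 0, 2, 2, 2, 2, 0, 2, 0, 2, 2, 0, 2, 0, 0, 2, 2, 2, 0, 0, 0, 0, 0]],
    [[-1, -3, 1, -1, -1, -1, -1, -3, -1, 1, -1, -1, 1, -1, -3, 1, -1, -1, -1, 1, 1, 1, 1, 1],
      [1, -1, -1, -3, -1, -1, 1, 1, -1, 1, -1, -3, 1, -1, -1, 1, 1, 1, -1, -1, -1, -1, -3, 1],
      [1, -1, 1, 3, 1, 1, -1, 1, -1, 1, -1, 3, -1, 1, -1, -1, 1, 1, -1, 1, 1, -1, -3, -1],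
      [-1, -3, -1, 1, -1, -1, 1, -1, 1, -1, 1, -3, 1, -1, 1, 1, -1, -1, 1, -1, -1, 1, 3, 1],
      [1, -1, -3, -1, -3, -1, 1, -1, 1, 1, 1, 1, -1, 3, -1, 1, -1, -1, -1, -1, 1, 1, 1, -1],
      [1, 1, 3, 1, 3, -1, -1, -1, 1, -1, -1, 1, 1, 3, -1, 1, -1, 1, 1, 1, 1, 1, -1, -1],
      [-2, -2, 0, -2, -2, 0, 0, 2, 0, 0, 2, -2, 0, 0, 0, 0, 2, -2, 2, 0, 2, 2, 0, 0],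
      [2, 0, 0, 2, 2, 0, -2, 0, -2, -2, 2, 0, 0, -2, 0, 2, -2, 0, 0, 2, 0, -2, 0, 0],
      [2, 0, 0, -2, 2, 0, 2, 0, 2, -2, 2, 0, 0, 2, 0, -2, 2, 0, 0, -2, 0, 2, 0, 0],
      [2, 0, 0, -2, 0, 0, -2, 2, -2, 2, 0, 0, 2, 0, 0, 2, -2, 0, 2, 2, 2, 0, 0, 0],
      [2, 0, 0, 2, 0, 0, 2, 2, 2, 2, 0, 0, 2, 0, 0, 2, 2, 0, 2, 2, 2, 0, 0, 0],
      [2, 0, 2, 2, 2, 2, 0, 0, 0, 2, 2, 0, 2, 0, 0, 0, 0, 2, 0, 2, 2, 0, 0, 2]],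
    [[-1, -1, -1, -1, -1, -1, -1, -1, -1, 3, -1, -1, -1, -1, -1, -1, -1, -1, -1, 3, 3, -1, -1, -1],
      [-1, -1, -1, -1, -1, -1, 3, -1, -1, 3, -1, -1, -1, -1, -1, -1, -1, 3, -1, -1, -1, -1, -1, -1],
      [-1, -1, 1, 1, 1, 1, -3, -1, -1, 3, -1, 1, 1, 1, -1, 1, -1, 3, -1, 1, 1, -1, -1, 1],
      [-1, -1, 1, 1, -1, 1, 3, 1, 1, -3, 1, -1, -1, -1, 3, -1, 1, -1, 1, -1, -1, 1, 1, 1],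
      [1, -1, -1, 1, -1, -1, 1, -1, 1, -1, 3, 1, -1, 1, -1, 1, 1, -3, -1, 1, 1, -1, 3, 1],
      [1, 1, 1, -1, 1, -1, -1, -1, 1, 1, -3, 1, 1, 1, -1, 1, 1, 3, 1, -1, 1, -1, -3, 1],
      [0, 0, 0, -2, -2, 2, 0, 0, 0, -2, 2, -2, -2, 0, 2, 0, 0, -2, 0, 2, 0, 2, 2, 0],
      [0, -2, -2, 0, 2, 0, 0, 2, 0, -2, 0, 0, 0, -2, 2, 2, -2, 2, 0, 0, 0, -2, 2, 0],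
      [0, 2, -2, 0, 2, 0, 0, -2, 0, -2, 0, 0, 0, 2, 2, -2, 2, 2, 0, 0, 0, 2, 2, 0],
      [0, 2, -2, 0, -2, 2, 0, 2, 0, 2, 0, 0, 0, 0, 0, 2, -2, 0, 2, 0, 2, 0, -2, 2],
      [0, 2, 2, 0, 2, 2, 0, 2, 0, 2, 0, 0, 0, 0, 0, 2, 2, 0, 2, 0, 2, 0, 2, 2],
      [0, 2, 0, 2, 0, 0, 2, 2, 0, 2, 2, 0, 0, 0, 2, 0, 2, 2, 2, 2, 2, 0, 0, 0]],
    [[1, -1, 1, -3, 1, 1, -1, -1, -1, 1, -3, -1, 1, -1, -1, -1, -1, -3, -1, 1, 1, -1, -1, 1],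
      [-1, -1, -1, -1, 1, 1, 1, -1, -1, 1, -1, -1, 1, -1, -3, 1, -1, 1, -1, -3, 1, -3, -1, 1],
      [-1, -1, 1, 1, -1, -1, -1, -1, -1, 1, -1, 1, -1, 1, -3, -1, -1, 1, -1, 3, -1, -3, -1, -1],
      [-1, -1, 1, 1, -1, -1, 1, -1, 1, -1, -1, -1, -1, -3, 1, 1, 1, -3, -1, -3, -1, 1, 1, -1],
      [1, -3, -1, -1, -1, -1, -1, -1, 1, -1, 1, 1, -3, 1, -3, -1, 1, -1, -1, -1, -1, 1, 1, 1],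
      [1, 3, 1, 1, 1, -1, 1, -1, 1, 1, -1, 1, 3, 1, -3, -1, 1, 1, 1, 1, -1, 1, -1, 1],
      [-2, 0, -2, -2, 0, 0, 0, 2, 0, 0, 2, 0, -2, 0, 2, 2, 0, -2, 0, 0, 2, 0, 2, -2],
      [0, 0, -2, 2, 0, 0, 0, 2, -2, 0, 0, 0, 2, -2, 2, 2, -2, 0, 0, 2, -2, 0, 0, -2],
      [0, 0, -2, -2, 0, 0, 0, -2, 2, 0, 0, 0, -2, 2, 2, -2, 2, 0, 0, -2, 2, 0, 0, 2],
      [2, 2, 0, 0, -2, 2, 0, 0, -2, 0, -2, 0, 0, 0, 0, 2, -2, 2, 2, 2, 0, 2, 0, 0],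
      [2, 2, 0, 0, 2, 2, 0, 0, 2, 0, 2, 0, 0, 0, 0, 2, 2, 2, 2, 2, 0, 2, 0, 0],
      [2, 2, 0, 0, 2, 2, 0, 2, 2, 2, 0, 2, 0, 2, 2, 0, 0, 0, 0, 2, 2, 0, 0, 0]],
    [[-1, -3, 3, -3, -1, -1, 1, -3, -1, 1, -3, -1, 3, -1, -3, -1, 1, -3, 1, 1, 1, -1, -1, 3],
      [-1, 1, -1, -3, -1, -1, 1, -1, 1, 1, -1, -3, 3, -1, -3, 3, -1, 1, 1, -3, -1, -3, -3, 3],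
      [-1, 1, 1, 3, 1, 1, -1, -1, 1, 1, -1, 3, -3, 1, -3, -3, -1, 1, 1, 3, 1, -3, -3, -3],
      [-3, -1, -1, 1, -3, -3, 1, -1, -1, -1, -1, -3, 1, -1, 1, 3, 1, -3, -1, -3, -1, 3, 3, 1],
      [-1, -3, -3, -3, -1, -1, -1, -3, 3, 1, 1, 1, -3, 3, -1, 1, -1, -1, -3, -1, -1, 3, 1, 1],
      [-1, 3, 3, 3, 1, -1, 1, -3, 3, -1, -1, 1, 3, 3, -1, 1, -1, 1, 3, 1, -1, 3, -1, 1],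
      [-5, -1, -1, -1, -1, 1, -1, 3, -1, 1, 1, -1, -3, 1, 1, 1, 3, -1, 1, 1, 5, 1, 1, -1],
      [3, 1, -3, 3, 1, -1, -1, 1, -5, -1, 1, 1, 1, -1, 1, 1, -1, 1, -1, 5, -1, -1, 1, -1],
      [3, -1, -3, -3, 1, 1, 1, -1, 5, -1, 1, -1, -1, 1, 1, -1, 1, 1, 1, -5, 1, 1, 1, 1],
      [5, 1, -1, -1, -1, 1, -1, 1, -5, 1, -1, 1, 1, 1, 1, 1, -1, 1, 1, 5, 1, 1, -1, 1],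
      [5, 1, 1, 1, 1, 1, 1, 1, 5, 1, 1, 1, 1, 1, 1, 1, 1, 1, 1, 5, 1, 1, 1, 1],
      [5, 1, 1, 1, 5, 5, 1, 1, 1, 1, 1, 1, 1, 1, 1, 1, 1, 1, 1, 1, 1, 1, 1, 1]]]

/-- part of the data -/
def threeTrace1x0 : List (List (List ℤ)) := [[[0, 0, 0, 0, 0, 0, 0, 0, 0, 0, 0, 0, 0, 0, 0, 0, 0, 0, 0, 0, 8, 0, 0, 0],
      [8, 0, 0, 0, 0, 0, 0, 0, 0, 0, 0, 0, 0, 0, 0, 0, 0, 0, 0, 0, 0, 0, 0, 0]],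
    [[0, 0, 8, 0, 0, 0, 0, 0, 0, 0, 0, 0, 0, 0, 0, 0, 0, 0, 0, 0, 0, 0, 0, 0],
      [0, 8, 0, 0, 0, 0, 0, 0, 0, 0, 0, 0, 0, 0, 0, 0, 0, 0, 0, 0, 0, 0, 0, 0]],
    [[8, 0, 0, 0, 0, 0, 0, 0, 0, 0, 0, 0, 0, 0, 0, 0, 0, 0, 0, 0, 0, 0, 0, 0],
      [0, 0, 8, 0, 0, 0, 0, 0, 0, 0, 0, 0, 0, 0, 0, 0, 0, 0, 0, 0, 0, 0, 0, 0]],
    [[0, 0, 0, 0, 0, 0, 0, 0, 0, 0, 0, 0, 0, 8, 0, 0, 0, 0, 0, 0, 0, 0, 0, 0],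
      [0, 0, 0, 8, 0, 0, 0, 0, 0, 0, 0, 0, 0, 0, 0, 0, 0, 0, 0, 0, 0, 0, 0, 0]],
    [[0, 0, 0, 0, 0, 0, 0, 0, 0, 8, 0, 0, 0, 0, 0, 0, 0, 0, 0, 0, 0, 0, 0, 0],
      [0, 0, 0, 0, 8, 0, 0, 0, 0, 0, 0, 0, 0, 0, 0, 0, 0, 0, 0, 0, 0, 0, 0, 0]],
    [[0, 0, 0, 0, 0, 0, 0, 0, 0, 0, 0, 0, 0, 0, 0, 0, 0, 0, 0, 8, 0, 0, 0, 0],
      [0, 0, 0, 0, 0, 8, 0, 0, 0, 0, 0, 0, 0, 0, 0, 0, 0, 0, 0, 0, 0, 0, 0, 0]],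
    [[0, 0, 0, 0, 0, 0, 0, 0, 0, 0, 8, 0, 0, 0, 0, 0, 0, 0, 0, 0, 0, 0, 0, 0],
      [0, 0, 0, 0, 0, 0, 8, 0, 0, 0, 0, 0, 0, 0, 0, 0, 0, 0, 0, 0, 0, 0, 0, 0]],
    [[0, 0, 0, 0, 0, 0, 0, 0, 0, 0, 0, 0, 8, 0, 0, 0, 0, 0, 0, 0, 0, 0, 0, 0],
      [0, 0, 0, 0, 0, 0, 0, 8, 0, 0, 0, 0, 0, 0, 0, 0, 0, 0, 0, 0, 0, 0, 0, 0]]]

/-- part of the data -/
def threeTrace1x1 : List (List (List ℤ)) := [[[0, 0, 0, 0, 0, 0, 0, 0, 0, 0, 0, 0, 0, 0, 0, 8, 0, 0, 0, 0, 0, 0, 0, 0],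
      [0, 0, 0, 0, 0, 0, 0, 0, 8, 0, 0, 0, 0, 0, 0, 0, 0, 0, 0, 0, 0, 0, 0, 0]],
    [[0, 0, 0, 0, 0, 0, 0, 8, 0, 0, 0, 0, 0, 0, 0, 0, 0, 0, 0, 0, 0, 0, 0, 0],
      [0, 0, 0, 0, 0, 0, 0, 0, 0, 8, 0, 0, 0, 0, 0, 0, 0, 0, 0, 0, 0, 0, 0, 0]],
    [[0, 0, 0, 0, 0, 0, 0, 0, 0, 0, 0, 8, 0, 0, 0, 0, 0, 0, 0, 0, 0, 0, 0, 0],
      [0, 0, 0, 0, 0, 0, 0, 0, 0, 0, 8, 0, 0, 0, 0, 0, 0, 0, 0, 0, 0, 0, 0, 0]],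
    [[0, 0, 0, 0, 0, 0, 0, 0, 0, 0, 0, 0, 0, 0, 0, 0, 0, 0, 0, 0, 0, 0, 8, 0],
      [0, 0, 0, 0, 0, 0, 0, 0, 0, 0, 0, 8, 0, 0, 0, 0, 0, 0, 0, 0, 0, 0, 0, 0]],
    [[0, 0, 0, 0, 8, 0, 0, 0, 0, 0, 0, 0, 0, 0, 0, 0, 0, 0, 0, 0, 0, 0, 0, 0],
      [0, 0, 0, 0, 0, 0, 0, 0, 0, 0, 0, 0, 8, 0, 0, 0, 0, 0, 0, 0, 0, 0, 0, 0]],
    [[0, 0, 0, 0, 0, 0, 0, 0, 0, 0, 0, 0, 0, 0, 0, 0, 0, 0, 0, 0, 0, 8, 0, 0],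
      [0, 0, 0, 0, 0, 0, 0, 0, 0, 0, 0, 0, 0, 8, 0, 0, 0, 0, 0, 0, 0, 0, 0, 0]],
    [[0, 0, 0, 0, 0, 0, 0, 0, 0, 0, 0, 0, 0, 0, 0, 0, 0, 0, 0, 0, 0, 0, 0, 8],
      [0, 0, 0, 0, 0, 0, 0, 0, 0, 0, 0, 0, 0, 0, 8, 0, 0, 0, 0, 0, 0, 0, 0, 0]],
    [[0, 0, 0, 0, 0, 0, 0, 0, 0, 0, 0, 0, 0, 0, 0, 0, 8, 0, 0, 0, 0, 0, 0, 0],
      [0, 0, 0, 0, 0, 0, 0, 0, 0, 0, 0, 0, 0, 0, 0, 8, 0, 0, 0, 0, 0, 0, 0, 0]]]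

/-- part of the data -/
def threeTrace1x2 : List (List (List ℤ)) := [[[0, 0, 0, 0, 0, 0, 0, 0, 0, 0, 0, 0, 0, 0, 0, 0, 0, 8, 0, 0, 0, 0, 0, 0],
      [0, 0, 0, 0, 0, 0, 0, 0, 0, 0, 0, 0, 0, 0, 0, 0, 8, 0, 0, 0, 0, 0, 0, 0]],
    [[0, 0, 0, 0, 0, 0, 0, 0, 8, 0, 0, 0, 0, 0, 0, 0, 0, 0, 0, 0, 0, 0, 0, 0],
      [0, 0, 0, 0, 0, 0, 0, 0, 0, 0, 0, 0, 0, 0, 0, 0, 0, 8, 0, 0, 0, 0, 0, 0]],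
    [[0, 0, 0, 8, 0, 0, 0, 0, 0, 0, 0, 0, 0, 0, 0, 0, 0, 0, 0, 0, 0, 0, 0, 0],
      [0, 0, 0, 0, 0, 0, 0, 0, 0, 0, 0, 0, 0, 0, 0, 0, 0, 0, 8, 0, 0, 0, 0, 0]],
    [[0, 0, 0, 0, 0, 0, 0, 0, 0, 0, 0, 0, 0, 0, 8, 0, 0, 0, 0, 0, 0, 0, 0, 0],
      [0, 0, 0, 0, 0, 0, 0, 0, 0, 0, 0, 0, 0, 0, 0, 0, 0, 0, 0, 8, 0, 0, 0, 0]],
    [[0, 8, 0, 0, 0, 0, 0, 0, 0, 0, 0, 0, 0, 0, 0, 0, 0, 0, 0, 0, 0, 0, 0, 0],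
      [0, 0, 0, 0, 0, 0, 0, 0, 0, 0, 0, 0, 0, 0, 0, 0, 0, 0, 0, 0, 8, 0, 0, 0]],
    [[0, 0, 0, 0, 0, 0, 0, 0, 0, 0, 0, 0, 0, 0, 0, 0, 0, 0, 8, 0, 0, 0, 0, 0],
      [0, 0, 0, 0, 0, 0, 0, 0, 0, 0, 0, 0, 0, 0, 0, 0, 0, 0, 0, 0, 0, 8, 0, 0]],
    [[0, 0, 0, 0, 0, 0, 8, 0, 0, 0, 0, 0, 0, 0, 0, 0, 0, 0, 0, 0, 0, 0, 0, 0],
      [0, 0, 0, 0, 0, 0, 0, 0, 0, 0, 0, 0, 0, 0, 0, 0, 0, 0, 0, 0, 0, 0, 8, 0]],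
    [[0, 0, 0, 0, 0, 8, 0, 0, 0, 0, 0, 0, 0, 0, 0, 0, 0, 0, 0, 0, 0, 0, 0, 0],
      [0, 0, 0, 0, 0, 0, 0, 0, 0, 0, 0, 0, 0, 0, 0, 0, 0, 0, 0, 0, 0, 0, 0, 8]]]

/-- part of the data -/
def threeTrace1x3 : List (List (List ℤ)) := [[[8, 0, 0, 0, 8, 8, 0, 0, 0, 0, 0, 0, 0, 0, 0, 0, 0, 0, 0, 0, 0, 0, 0, 0],
      [0, 0, 8, 0, 0, 0, 0, 0, 0, 0, 0, 0, 8, 0, 0, 0, 0, 0, 0, 0, 0, 0, 0, 8]],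
    [[2, 0, 2, 2, 2, 2, 0, 0, 0, 2, 2, 0, 2, 0, 0, 0, 0, 2, 0, 2, 2, 0, 0, 2],
      [2, 2, 2, 0, 2, 2, 2, 2, 0, 0, 0, 0, 2, 0, 2, 0, 2, 0, 2, 0, 0, 0, 0, 2]],
    [[2, 0, 2, 0, 2, 2, 0, 0, 2, 0, 0, 2, 2, 2, 0, 2, 0, 0, 0, 0, 0, 2, 2, 2],
      [0, 2, 2, 2, 0, 0, 0, 2, 2, 0, 2, 2, 2, 2, 2, 0, 0, 2, 0, 0, 0, 0, 0, 2]],
    [[0, 0, 0, 2, 0, 0, 0, 0, 2, 2, 2, 2, 0, 2, 0, 2, 0, 2, 0, 2, 2, 2, 2, 0],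
      [2, 0, 0, 2, 2, 2, 2, 0, 2, 0, 2, 2, 0, 2, 0, 0, 2, 2, 2, 0, 0, 0, 0, 0]],
    [[2, 2, 0, 0, 2, 2, 0, 2, 2, 2, 0, 2, 0, 2, 2, 0, 0, 0, 0, 2, 2, 0, 0, 0],
      [2, 0, 2, 2, 2, 2, 0, 0, 0, 2, 2, 0, 2, 0, 0, 0, 0, 2, 0, 2, 2, 0, 0, 2]],
    [[0, 2, 2, 2, 0, 0, 0, 2, 2, 0, 2, 2, 2, 2, 2, 0, 0, 2, 0, 0, 0, 0, 0, 2],
      [0, 2, 0, 2, 0, 0, 2, 2, 0, 2, 2, 0, 0, 0, 2, 0, 2, 2, 2, 2, 2, 0, 0, 0]],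
    [[0, 2, 2, 0, 0, 0, 0, 2, 0, 2, 0, 0, 2, 0, 2, 2, 0, 0, 0, 2, 2, 2, 2, 2],
      [2, 2, 0, 0, 2, 2, 0, 2, 2, 2, 0, 2, 0, 2, 2, 0, 0, 0, 0, 2, 2, 0, 0, 0]],
    [[1, 1, 1, 1, 1, 1, 1, 1, 1, 5, 1, 1, 1, 1, 1, 1, 1, 1, 1, 5, 5, 1, 1, 1],
      [5, 1, 1, 1, 5, 5, 1, 1, 1, 1, 1, 1, 1, 1, 1, 1, 1, 1, 1, 1, 1, 1, 1, 1]]]

/-- the data -/
def threeDat : Dat where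
  p := 3
  n := 9
  perm := [4, 7, 12, 10, 5, 0, 16, 14, 13, 19, 17, 8, 23, 11, 1, 21, 18, 3, 6, 20, 9, 22, 15, 2]
  reps := [0, 1, 2, 3, 6, 8, 9, 15]
  orbNum := [0, 1, 2, 3, 0, 0, 4, 1, 5, 6, 3, 5, 2, 5, 1, 7, 4, 3, 4, 6, 6, 7, 7, 2]
  orbPos := [0, 0, 0, 0, 1, 2, 0, 1, 0, 0, 1, 2, 1, 1, 2, 0, 1, 2, 2, 1, 2, 1, 2, 2]
  basis := threeBasis0
  dual := threeDual0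
  resid := threeResid0
  short := threeShort0 ++ threeShort1 ++ threeShort2 ++ threeShort3
  orbMax := 135
  centMax := 504
  masks := [0, 470393, 1600435, 2049738, 6472891, 6678978, 8040200, 8225393, 8551822, 8737015, 10098237, 10304324, 14727477, 15176780, 16306822, 16777215]
  gens := [[.plO [4, 11, 15, 21, 20, 5, 18, 22, 13, 6, 19, 10, 12, 2, 3, 7, 8, 14, 1, 9, 17, 0, 16, 23], .sgO 10008700, .xiO, .plO [7, 4, 16, 11, 18, 3, 10, 19, 0, 17, 20, 2, 9, 14, 22, 21, 23, 1, 6, 12, 5, 8, 13, 15], .sgO 5117534, .xiO, .plO [8, 6, 20, 13, 9, 22, 5, 3, 18, 1, 15, 21, 2, 11, 14, 12, 0, 16, 10, 17, 19, 4, 7, 23], .sgO 12433898, .xiO, .sgO 4261212, .plO [0, 7, 6, 12, 14, 1, 23, 17, 4, 10, 11, 15,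 2, 21, 22, 19, 20, 8, 9, 5, 3, 13, 18, 16]],
    [.plO [2, 20, 1, 18, 12, 23, 22, 9, 17, 4, 6, 10, 7, 3, 19, 8, 15, 16, 21, 5, 0, 13, 11, 14]]]
  traces := [threeTrace0x0 ++ threeTrace0x1 ++ threeTrace0x2 ++ threeTrace0x3, threeTrace1x0 ++ threeTrace1x1 ++ threeTrace1x2 ++ threeTrace1x3]
  objs := [76062807862254423875040816709635, 14474066368636122308205121631918338285342871493631425002718437830965050998785, 28269769137328078308647393666301007829452865587208629967864463536773136385, 1809251421306381945178307203005860818913604078333885581327936880337825562625, 57896045050018893104678178806192984327142685031376204010277887910135761731585, 15018200155928659295961841567149433796503177026700034805681091357196681217,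 3644122123767991462380703354969719183409891667057026988534259285946793985, 226170231154320158925000533270607236735506722990036625734559139602160943105, 904627429343106153730994087205854091092385598754061746764444036946349522945]
  gperm := [[7, 8, 0, 1, 5, 6, 4, 2, 3], [0, 6, 4, 5, 8, 1, 3, 2, 7]]

end Cfsg.Agent.Spor.CoLocal
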