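import Cfsg.Agent.Lib.Spor.CoLocal.Three
import Cfsg.Agent.Lib.Spor.CoLocal.Main
import Cfsg.Agent.Lib.Small.AltDeg.Central

/-!
The normaliser of the group of order three generated by a fixed point free element of the first Conway
group is the product of a symmetric group of degree three and an alternating group of degree nine.
-/

set_option autoImplicit false
set_option maxRecDepth 100000
set_option linter.unusedSectionVars false
set_option linter.style.haveILetI false

namespace Cfsg.Agent.Spor.CoLocal

open Cfsg Cfsg.Agent.Spor.MonsterFusion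
open Co1Seven (congB congB_sound cong_symm cong_add cong_sum cong_neg cong_smul co0_neg units_ext pr)
open scoped Pointwise

local notation "Zv" => GolayPt → ℤ
set_option quotPrecheck false in
local notation "Lv" => ↥leechLattice
local notation "V8" => Fin 8 → ZMod 2
local notation "Co1" => Cfsg.Spor.Co1

instance co1FiniteInst : Finite Co1 := by haveI := co0_finite; infer_instance

/-- a permutation inverting the element and fixing all classes -/
def threeFlip : List ℕ := [0, 1, 2, 3, 5, 4, 16, 14, 11, 19, 17, 8, 23, 13, 7, 22, 6, 10, 18, 9, 20, 21, 15, 12]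

theorem threeFlip_ok : m24ok threeFlip = true ∧
    (∀ i < 24, threeFlip.getD (threeDat.perm.getD (threeDat.perm.getD i 0) 0) 0 =
      threeDat.perm.getD (threeFlip.getD i 0) 0) := by decide +kernel

theorem threeFlip_class : ∀ j : Fin 8,
    threeDat.coordF (fun p => threeDat.bF j (pt (threeFlip.getD (idx p) 0))) = Pi.single j 1 := by decide +kernel

theorem threeFlip_inv : ∀ i < 24, threeFlip.getD (threeFlip.getD i 0) 0 = i := by decide +kernel

theorem flip_idx (p : GolayPt) : idx (lperm threeFlip p) = threeFlip.getD (idx p) 0 :=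
  (rep_lperm (m24ok_lok threeFlip_ok.1) p).symm

theorem sigma_idx (p : GolayPt) : idx (threeDat.sigma p) = threeDat.perm.getD (idx p) 0 :=
  (rep_lperm (m24ok_lok three_fix.perm_ok) p).symm

theorem flip_sq : lperm threeFlip * lperm threeFlip = 1 := Equiv.ext fun p => idx_injective (by
  rw [Equiv.Perm.mul_apply, flip_idx, flip_idx, threeFlip_inv _ (idx_lt p)]; rfl)

theorem flip_rel : lperm threeFlip * (threeDat.sigma * threeDat.sigma) = threeDat.sigma * lperm threeFlip :=
  Equiv.ext fun p => idx_injective (by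
    simp only [Equiv.Perm.mul_apply]
    rw [flip_idx, sigma_idx, sigma_idx, sigma_idx, flip_idx, threeFlip_ok.2 _ (idx_lt p)])

theorem flip_exists : ∃ t : ↥Co0, ∀ v : Lv, ((t • v : Lv) : Zv) = prm (lperm threeFlip) (v : Zv) :=
  exists_prm (lperm_mem threeFlip_ok.1)

/-- the lift -/
noncomputable def flipEl : ↥Co0 := flip_exists.choose

theorem flipEl_spec (v : Lv) : ((flipEl • v : Lv) : Zv) = prm (lperm threeFlip) (v : Zv) :=
  flip_exists.choose_spec v

theorem flipEl_sq : flipEl * flipEl = 1 := co0_ext fun v => by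
  rw [mul_smul, flipEl_spec, flipEl_spec, ← prm_comp, flip_sq, one_smul]
  funext q; simp [prm, Equiv.Perm.one_def]

theorem flipEl_conj : flipEl * three_fix.pel = three_fix.pel⁻¹ * flipEl := by
  have h : flipEl * (three_fix.pel * three_fix.pel) = three_fix.pel * flipEl := co0_ext fun v => by
    rw [mul_smul, mul_smul, mul_smul, flipEl_spec, three_fix.pel_spec, three_fix.pel_spec, three_fix.pel_spec,
      flipEl_spec, ← prm_comp, ← prm_comp, ← prm_comp, mul_assoc, flip_rel]
  have h3 : three_fix.pel ^ 3 = 1 := three_fix.pel_pow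
  rw [pow_succ, pow_succ, pow_succ, pow_zero, one_mul] at h3
  have h4 : flipEl * (three_fix.pel * three_fix.pel) * three_fix.pel = three_fix.pel * flipEl * three_fix.pel := by
    rw [h]
  rw [mul_assoc flipEl, h3, mul_one] at h4
  rw [eq_inv_mul_iff_mul_eq, ← mul_assoc]
  exact h4.symm

theorem flipEl_class (c : V8) :
    Cong2 ((flipEl • three_fix.comb c : Lv) : Zv) ((three_fix.comb c : Lv) : Zv) := by
  have hfix : three_fix.pel • flipEl • three_fix.comb c = flipEl • three_fix.comb c := by
    rw [← mul_smul, show three_fix.pel * flipEl = flipEl * three_fix.pel⁻¹ by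
      rw [eq_mul_inv_iff_mul_eq, mul_assoc, flipEl_conj, mul_inv_cancel_left], mul_smul]
    congr 1
    conv_lhs => rw [← three_fix.pel_comb c]
    rw [inv_smul_smul]
  have h1 := three_fix.fixed_class (v := flipEl • three_fix.comb c) (by rw [hfix]; exact Cong2.refl' _)
  suffices e : threeDat.coordF ((flipEl • three_fix.comb c : Lv) : Zv) = c by rwa [e] at h1
  let f : Lv →+ Lv := AddMonoidHom.mk' (fun u => flipEl • u) (co0_add flipEl)
  show three_fix.coordHom (f (three_fix.comb c)) = c
  have hb : ∀ j, three_fix.coordHom (f (three_fix.bv j)) = Pi.single j 1 := fun j => by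
    rw [← threeFlip_class j]
    show threeDat.coordF ((flipEl • three_fix.bv j : Lv) : Zv) = _
    rw [flipEl_spec]
    refine congrArg threeDat.coordF (funext fun p => ?_)
    show threeDat.bF j ((lperm threeFlip).symm p) = _
    rw [show (lperm threeFlip).symm p = lperm threeFlip p by
      rw [Equiv.symm_apply_eq]; exact (congrArg (fun e : Equiv.Perm GolayPt => e p) flip_sq).symm]
    exact congrArg _ (idx_injective (by rw [idx_pt _ (by rw [← flip_idx]; exact idx_lt _), flip_idx]))
  rw [Dat.Fix.comb, map_sum, map_sum]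
  funext i
  rw [Finset.sum_apply, Finset.sum_eq_single i]
  · split_ifs with e
    · rw [hb, Pi.single_eq_same, e]
    · rw [map_zero, map_zero, Pi.zero_apply]
      exact ((word_eq_one_or_zero (c i)).resolve_right e).symm
  · intro j _ hji
    split_ifs
    · rw [hb, Pi.single_eq_of_ne (Ne.symm hji)]
    · rw [map_zero, map_zero, Pi.zero_apply]
  · simp

/-- the centraliser -/
abbrev CB : Subgroup Co1 := Subgroup.centralizer ({three_ok'.beta} : Set Co1)

/-- its action on the nine objects -/
noncomputable def muA : ↥CB →* ↥(alternatingGroup (Fin 9)) :=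
  three_iso.some.toMonoidHom.comp (three_ok'.mu three_group.big)

theorem muA_surj : Function.Surjective muA :=
  three_iso.some.surjective.comp (three_ok'.mu_surj three_group.big)

theorem muA_ker (a : ↥CB) : muA a = 1 ↔ (a : Co1) ∈ Subgroup.zpowers three_ok'.beta := by
  rw [← three_ok'.mu_ker three_group.big]
  exact map_eq_one_iff (three_iso.some) three_iso.some.injective

/-- the involution -/
noncomputable def flipT : Co1 := pr flipEl

theorem flipT_sq : flipT * flipT = 1 := by rw [flipT, ← map_mul, flipEl_sq, map_one]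

theorem flipT_beta : flipT * three_ok'.beta = three_ok'.beta⁻¹ * flipT := by
  rw [flipT, Dat.Ok.beta, ← map_inv, ← map_mul, ← map_mul, flipEl_conj]

theorem flipT_mem {a : Co1} (ha : a ∈ CB) : flipT * a * flipT⁻¹ ∈ CB := by
  have h1 : flipT * a * flipT⁻¹ * three_ok'.beta⁻¹ = three_ok'.beta⁻¹ * (flipT * a * flipT⁻¹) := by
    have e : flipT * three_ok'.beta * flipT⁻¹ = three_ok'.beta⁻¹ := by rw [flipT_beta, mul_inv_cancel_right]
    rw [← e]
    calc flipT * a * flipT⁻¹ * (flipT * three_ok'.beta * flipT⁻¹)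
        = flipT * (a * three_ok'.beta) * flipT⁻¹ := by group
      _ = flipT * (three_ok'.beta * a) * flipT⁻¹ := by rw [Subgroup.mem_centralizer_singleton_iff.1 ha]
      _ = _ := by group
  exact Subgroup.mem_centralizer_singleton_iff.2 (Commute.inv_right_iff.1 h1)

/-- the involution acts trivially on the objects -/
theorem muA_flip (a : ↥CB) : muA ⟨flipT * a * flipT⁻¹, flipT_mem a.2⟩ = muA a := by
  refine congrArg three_iso.some ?_
  obtain ⟨g, hg⟩ := three_ok'.exists_lift a
  have hmem : flipEl * (g : ↥Co0) * flipEl⁻¹ ∈ three_ok'.C0 := by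
    refine Subgroup.mem_centralizer_singleton_iff.2 ?_
    have e : flipEl * three_fix.pel * flipEl⁻¹ = three_fix.pel⁻¹ := by rw [flipEl_conj, mul_inv_cancel_right]
    refine (Commute.inv_right_iff (a := flipEl * (g : ↥Co0) * flipEl⁻¹)).1 ?_
    show Commute _ three_fix.pel⁻¹
    rw [← e]
    exact (Commute.conj_iff flipEl).2 (three_ok'.C0_comm g)
  rw [three_ok'.mu_eq three_group.big (g := ⟨_, hmem⟩) (by
    show pr (flipEl * (g : ↥Co0) * flipEl⁻¹) = flipT * a * flipT⁻¹
    rw [map_mul, map_mul, map_inv, hg]; rfl), three_ok'.mu_eq three_group.big hg]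
  refine three_ok'.nu_eq three_group.big (g := ⟨_, hmem⟩) (τ := three_ok'.nu three_group.big g) ?_
  suffices e : three_ok'.rho ⟨_, hmem⟩ = three_ok'.rho g by
    rw [e]; exact (three_ok'.range_eq three_group.big g).choose_spec.2
  refine Equiv.ext fun c => ?_
  rw [three_ok'.rho_apply, three_ok'.rho_apply]
  have hinv : flipEl⁻¹ = flipEl := inv_eq_of_mul_eq_one_right flipEl_sq
  have h1 : Cong2 (((flipEl * (g : ↥Co0) * flipEl⁻¹) • three_fix.comb c : Lv) : Zv)
      ((three_fix.comb (three_ok'.act g c) : Lv) : Zv) := by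
    rw [mul_smul, mul_smul, hinv]
    exact ((cong_smul flipEl (cong_smul (g : ↥Co0) (flipEl_class c))).trans
      (cong_smul flipEl (three_ok'.image_cong g c))).trans (flipEl_class _)
  exact (three_fix.coord_cong (three_fix.comb (three_ok'.act g c)).2 h1).trans (three_fix.coord_comb _)

theorem beta_ord : orderOf three_ok'.beta = 3 := three_ok'.orderOf_beta

/-- the derived group maps isomorphically onto the alternating group -/
theorem derived_iso : Function.Bijective (muA.comp (commutator ↥CB).subtype) := by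
  have halt : IsSimpleGroup ↥(alternatingGroup (Fin 9)) := alternatingGroup.isSimpleGroup (by simp)
  have hperf : commutator ↥(alternatingGroup (Fin 9)) = ⊤ := by
    refine ((IsSimpleGroup.eq_bot_or_eq_top_of_normal _ (Subgroup.commutator_normal ⊤ ⊤)).resolve_left fun e => ?_)
    have h1 := Subgroup.commutator_eq_bot_iff_le_centralizer.1 e
    rw [Subgroup.coe_top, Subgroup.centralizer_univ, alternatingGroup.center_eq_bot (by simp), top_le_iff] at h1
    exact bot_ne_top h1
  have hrange : (commutator ↥CB).map muA = ⊤ := by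
    rw [commutator_def, Subgroup.map_commutator, Subgroup.map_top_of_surjective _ muA_surj, ← commutator_def, hperf]
  refine ⟨?_, fun y => ?_⟩
  · rw [injective_iff_map_eq_one]
    rintro ⟨a, ha⟩ hm
    by_contra hne
    have hab : (a : Co1) ∈ Subgroup.zpowers three_ok'.beta := (muA_ker a).1 hm
    have hb : (⟨three_ok'.beta, three_ok'.beta_mem⟩ : ↥CB) ∈ commutator ↥CB := by
      haveI : Fact (Nat.Prime 3) := ⟨Nat.prime_three⟩
      have h1 : (a : Co1) ≠ 1 := fun e => hne (Subtype.ext (Subtype.ext e))
      have hz : Subgroup.zpowers (a : Co1) = Subgroup.zpowers three_ok'.beta :=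
        Subgroup.eq_of_le_of_card_ge (Subgroup.zpowers_le.2 hab) (by
          rw [Nat.card_zpowers, Nat.card_zpowers, beta_ord,
            orderOf_eq_prime (by
              have := orderOf_dvd_natCard (⟨(a : Co1), hab⟩ : Subgroup.zpowers three_ok'.beta)
              rw [Nat.card_zpowers, beta_ord, Subgroup.orderOf_mk] at this
              exact orderOf_dvd_iff_pow_eq_one.1 this) h1])
      obtain ⟨k, hk⟩ := Subgroup.mem_zpowers_iff.1 (hz.symm ▸ Subgroup.mem_zpowers three_ok'.beta :
        three_ok'.beta ∈ Subgroup.zpowers (a : Co1))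
      have : (⟨three_ok'.beta, three_ok'.beta_mem⟩ : ↥CB) = a ^ k := Subtype.ext (by simpa using hk.symm)
      rw [this]; exact Subgroup.zpow_mem _ ha k
    have htop : commutator ↥CB = ⊤ := by
      refine top_le_iff.1 fun g _ => ?_
      obtain ⟨d, hd, he⟩ := (hrange.symm ▸ Subgroup.mem_top (muA g) : muA g ∈ (commutator ↥CB).map muA)
      have h2 : muA (d⁻¹ * g) = 1 := by rw [map_mul, map_inv, he, inv_mul_cancel]
      obtain ⟨k, hk⟩ := Subgroup.mem_zpowers_iff.1 ((muA_ker _).1 h2)
      have h3 : d⁻¹ * g = (⟨three_ok'.beta, three_ok'.beta_mem⟩ : ↥CB) ^ k := Subtype.ext (by simpa using hk.symm)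
      rw [show g = d * (d⁻¹ * g) by group, h3]
      exact mul_mem hd (Subgroup.zpow_mem _ hb k)
    have hext : Small.AltDeg.IsExt muA := ⟨muA_surj, fun z hz g => Subtype.ext (by
      obtain ⟨k, hk⟩ := Subgroup.mem_zpowers_iff.1 ((muA_ker z).1 hz)
      show (z : Co1) * g = g * z
      rw [← hk]
      exact ((show Commute (g : Co1) three_ok'.beta from Subgroup.mem_centralizer_singleton_iff.1 g.2).symm.zpow_left k).eq), le_rfl⟩
    obtain ⟨ζ, -, hζ2, hker, -⟩ := hext.dichotomy htop
    rcases hker ⟨three_ok'.beta, three_ok'.beta_mem⟩ ((muA_ker _).2 (Subgroup.mem_zpowers _)) with e | e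
    · have := congrArg orderOf (congrArg Subtype.val e)
      rw [OneMemClass.coe_one, orderOf_one, beta_ord] at this
      omega
    · rw [← e] at hζ2
      have h2 := orderOf_dvd_of_pow_eq_one (x := three_ok'.beta) (n := 2)
        (by rw [pow_two]; exact congrArg Subtype.val hζ2)
      rw [beta_ord] at h2
      norm_num at h2
  · obtain ⟨d, hd, he⟩ := (hrange.symm ▸ Subgroup.mem_top y : y ∈ (commutator ↥CB).map muA)
    exact ⟨⟨d, hd⟩, he⟩

/-- the alternating group inside -/
noncomputable def altIn : ↥(alternatingGroup (Fin 9)) →* Co1 :=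
  (CB.subtype.comp (commutator ↥CB).subtype).comp (MulEquiv.ofBijective _ derived_iso).symm.toMonoidHom

theorem altIn_mem (k : ↥(alternatingGroup (Fin 9))) : altIn k ∈ CB :=
  ((((MulEquiv.ofBijective _ derived_iso).symm k : ↥(commutator ↥CB)) : ↥CB)).2

theorem muA_altIn (k : ↥(alternatingGroup (Fin 9))) : muA ⟨altIn k, altIn_mem k⟩ = k :=
  (MulEquiv.ofBijective _ derived_iso).apply_symm_apply k

theorem altIn_inj : Function.Injective altIn := fun a b e => by
  rw [← muA_altIn a, ← muA_altIn b]
  exact congrArg muA (Subtype.ext e)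

theorem altIn_beta (k : ↥(alternatingGroup (Fin 9))) : Commute (altIn k) three_ok'.beta :=
  Subgroup.mem_centralizer_singleton_iff.1 (altIn_mem k)

theorem flipT_altIn (k : ↥(alternatingGroup (Fin 9))) : Commute flipT (altIn k) := by
  have hz : ∀ a : ↥(alternatingGroup (Fin 9)),
      flipT * altIn a * flipT⁻¹ * (altIn a)⁻¹ ∈ Subgroup.zpowers three_ok'.beta := fun a => by
    refine (muA_ker (⟨flipT * altIn a * flipT⁻¹, flipT_mem (altIn_mem a)⟩ * ⟨altIn a, altIn_mem a⟩⁻¹)).1 ?_
    rw [map_mul, map_inv, muA_flip ⟨altIn a, altIn_mem a⟩, mul_inv_cancel]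
  have hc : ∀ a b : ↥(alternatingGroup (Fin 9)), Commute (flipT * altIn a * flipT⁻¹ * (altIn a)⁻¹) (altIn b) :=
    fun a b => by
      obtain ⟨i, hi⟩ := Subgroup.mem_zpowers_iff.1 (hz a)
      rw [← hi]; exact (altIn_beta b).symm.zpow_left i
  let φ : ↥(alternatingGroup (Fin 9)) →* Subgroup.zpowers three_ok'.beta :=
    MonoidHom.mk' (fun a => ⟨_, hz a⟩) fun a b => Subtype.ext (by
      show flipT * altIn (a * b) * flipT⁻¹ * (altIn (a * b))⁻¹ =
        flipT * altIn a * flipT⁻¹ * (altIn a)⁻¹ * (flipT * altIn b * flipT⁻¹ * (altIn b)⁻¹)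
      calc flipT * altIn (a * b) * flipT⁻¹ * (altIn (a * b))⁻¹
          = flipT * altIn a * flipT⁻¹ * ((flipT * altIn b * flipT⁻¹ * (altIn b)⁻¹) * (altIn a)⁻¹) := by
            rw [map_mul]; group
        _ = flipT * altIn a * flipT⁻¹ * ((altIn a)⁻¹ * (flipT * altIn b * flipT⁻¹ * (altIn b)⁻¹)) := by
            rw [((hc b a).inv_right).eq]
        _ = _ := by group)
  haveI : IsSimpleGroup ↥(alternatingGroup (Fin 9)) := alternatingGroup.isSimpleGroup (by simp)
  rcases IsSimpleGroup.eq_bot_or_eq_top_of_normal φ.ker φ.normal_ker with e | e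
  · exfalso
    have hle := Nat.card_le_card_of_injective φ ((MonoidHom.ker_eq_bot_iff φ).1 e)
    rw [Nat.card_zpowers, beta_ord, nat_card_alternatingGroup, Nat.card_fin] at hle
    norm_num [Nat.factorial] at hle
  · have h1 : φ k = 1 := MonoidHom.mem_ker.1 (e ▸ Subgroup.mem_top k)
    have h2 : flipT * altIn k * flipT⁻¹ * (altIn k)⁻¹ = 1 := congrArg Subtype.val h1
    exact mul_inv_eq_iff_eq_mul.1 (mul_inv_eq_one.1 h2)

/-- powers of the element -/
noncomputable def bp (i : ZMod 3) : Co1 := three_ok'.beta ^ i.val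

theorem bp_add (i j : ZMod 3) : bp (i + j) = bp i * bp j := by
  rw [bp, bp, bp, ← pow_add, pow_eq_pow_iff_modEq, beta_ord, ZMod.val_add]
  exact Nat.mod_modEq _ _

theorem bp_neg (i : ZMod 3) : bp (-i) = (bp i)⁻¹ := by
  refine eq_inv_of_mul_eq_one_left ?_
  rw [← bp_add, neg_add_cancel, bp, ZMod.val_zero, pow_zero]

theorem flipT_bp (i : ZMod 3) : flipT * bp i = bp (-i) * flipT := by
  rw [bp_neg]
  have h : ∀ n : ℕ, flipT * three_ok'.beta ^ n = (three_ok'.beta ^ n)⁻¹ * flipT := fun n => by
    induction n with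
    | zero => simp
    | succ n ih =>
      rw [pow_succ, ← mul_assoc, ih, mul_assoc, flipT_beta, ← mul_assoc, ← pow_succ, ← mul_inv_rev, ← pow_succ']
  exact h i.val

theorem bp_flipT (i : ZMod 3) : bp i * flipT = flipT * bp (-i) := by rw [flipT_bp, neg_neg]

/-- the dihedral group inside -/
noncomputable def dihIn : DihedralGroup 3 →* Co1 :=
  MonoidHom.mk' (fun
    | .r i => bp i
    | .sr i => flipT * bp i) fun a b => by
    rcases a with i | i <;> rcases b with j | j
    · exact bp_add i j
    · show flipT * bp (j - i) = bp i * (flipT * bp j)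
      rw [← mul_assoc, bp_flipT, mul_assoc, ← bp_add, neg_add_eq_sub]
    · show flipT * bp (i + j) = flipT * bp i * bp j
      rw [bp_add, mul_assoc]
    · show bp (j - i) = flipT * bp i * (flipT * bp j)
      rw [mul_assoc, ← mul_assoc (bp i), bp_flipT, ← mul_assoc, ← mul_assoc, flipT_sq, one_mul, ← bp_add,
        neg_add_eq_sub]

theorem flipT_not : flipT ∉ CB := fun h => by
  have e := flipT_beta
  rw [Subgroup.mem_centralizer_singleton_iff.1 h, mul_left_inj] at e
  have := congrArg (· * three_ok'.beta) e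
  simp only [inv_mul_cancel] at this
  have h2 := orderOf_dvd_of_pow_eq_one (x := three_ok'.beta) (n := 2) (by rw [pow_two]; exact this)
  rw [beta_ord] at h2
  norm_num at h2

theorem bp_mem (i : ZMod 3) : bp i ∈ CB :=
  Subgroup.pow_mem _ three_ok'.beta_mem _

theorem prod_inj : Function.Injective (MonoidHom.noncommCoprod dihIn altIn fun a k => by
    rcases a with i | i
    · exact ((altIn_beta k).pow_right _).symm
    · exact (flipT_altIn k).mul_left ((altIn_beta k).pow_right _).symm) := by
  rw [injective_iff_map_eq_one]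
  rintro ⟨a, k⟩ h
  rw [MonoidHom.noncommCoprod_apply] at h
  have ha : dihIn a ∈ CB := by rw [eq_inv_of_mul_eq_one_left h]; exact inv_mem (altIn_mem k)
  rcases a with i | i
  · have hk : k = 1 := by
      have h1 : altIn k ∈ Subgroup.zpowers three_ok'.beta := by
        rw [eq_inv_of_mul_eq_one_right h]; exact inv_mem (Subgroup.npow_mem_zpowers _ _)
      exact (muA_altIn k).symm.trans ((muA_ker _).2 h1)
    rw [hk, map_one, mul_one] at h
    change three_ok'.beta ^ i.val = 1 at h
    have h2 := orderOf_dvd_of_pow_eq_one h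
    rw [beta_ord] at h2
    have h3 := ZMod.val_lt i
    have h4 : i.val = 0 := Nat.eq_zero_of_dvd_of_lt h2 h3
    rw [hk, (ZMod.val_eq_zero i).1 h4]; rfl
  · refine absurd ?_ flipT_not
    have := mul_mem ha (inv_mem (bp_mem i))
    change flipT * bp i * (bp i)⁻¹ ∈ CB at this
    rwa [mul_inv_cancel_right] at this

/-- the dihedral group of order six is the symmetric group of degree three -/
def dihPerm : DihedralGroup 3 →* Equiv.Perm (Fin 3) :=
  MonoidHom.mk' (fun
    | .r i => (finRotate 3) ^ i.val
    | .sr i => Equiv.swap 0 1 * (finRotate 3) ^ i.val) (by decide +kernel)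

theorem dihPerm_bij : Function.Bijective dihPerm := by
  refine (Nat.bijective_iff_injective_and_card _).2 ⟨?_, ?_⟩
  · exact (show ∀ a b, dihPerm a = dihPerm b → a = b by decide +kernel)
  · rw [Nat.card_eq_fintype_card, Nat.card_eq_fintype_card, DihedralGroup.card, Fintype.card_perm, Fintype.card_fin]
    rfl

/-- the normaliser -/
theorem three_normalizer : Nat.card (Subgroup.zpowers three_ok'.beta) = 3 ∧
    Nonempty (↥(Subgroup.normalizer ((Subgroup.zpowers three_ok'.beta : Subgroup Co1) : Set Co1)) ≃*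
      Equiv.Perm (Fin 3) × ↥(alternatingGroup (Fin 9))) := by
  refine ⟨by rw [Nat.card_zpowers, beta_ord], ⟨?_⟩⟩
  let Φ := MonoidHom.noncommCoprod dihIn altIn (fun a k => by
    rcases a with i | i
    · exact ((altIn_beta k).pow_right _).symm
    · exact (flipT_altIn k).mul_left ((altIn_beta k).pow_right _).symm)
  have hflip : flipT ∈ Subgroup.normalizer ((Subgroup.zpowers three_ok'.beta : Subgroup Co1) : Set Co1) := by
    refine Subgroup.mem_normalizer_iff.2 fun x => ?_
    have e : flipT * three_ok'.beta * flipT⁻¹ = three_ok'.beta⁻¹ := by rw [flipT_beta, mul_inv_cancel_right]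
    have hmap : (Subgroup.zpowers three_ok'.beta).map (MulAut.conj flipT).toMonoidHom =
        Subgroup.zpowers three_ok'.beta := by
      rw [MonoidHom.map_zpowers]
      show Subgroup.zpowers (flipT * three_ok'.beta * flipT⁻¹) = _
      rw [e, Subgroup.zpowers_inv]
    conv_rhs => rw [← hmap]
    exact (Subgroup.mem_map_iff_mem (MulAut.conj flipT).injective).symm
  have hCB : CB ≤ Subgroup.normalizer ((Subgroup.zpowers three_ok'.beta : Subgroup Co1) : Set Co1) := by
    intro a ha
    refine Subgroup.centralizer_le_normalizer _ (Subgroup.mem_centralizer_iff.2 fun x hx => ?_)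
    obtain ⟨k, rfl⟩ := Subgroup.mem_zpowers_iff.1 hx
    exact ((show Commute a three_ok'.beta from Subgroup.mem_centralizer_singleton_iff.1 ha).zpow_right k).symm.eq
  have hdec : ∀ a ∈ CB, ∃ i k, bp i * altIn k = a := fun a ha => by
    obtain ⟨n, hn⟩ := Subgroup.mem_zpowers_iff.1 ((muA_ker (⟨a, ha⟩ * ⟨altIn (muA ⟨a, ha⟩), altIn_mem _⟩⁻¹)).1 (by
      rw [map_mul, map_inv, muA_altIn, mul_inv_cancel]))
    refine ⟨(n : ZMod 3), muA ⟨a, ha⟩, ?_⟩
    have hb : three_ok'.beta ^ n = bp (n : ZMod 3) := by
      rw [bp, ← zpow_natCast, ZMod.val_intCast, ← beta_ord, zpow_mod_orderOf]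
    rw [← hb, hn]
    show a * (altIn (muA ⟨a, ha⟩))⁻¹ * altIn (muA ⟨a, ha⟩) = a
    rw [inv_mul_cancel_right]
  have hrange : Φ.range = Subgroup.normalizer ((Subgroup.zpowers three_ok'.beta : Subgroup Co1) : Set Co1) := by
    refine le_antisymm ?_ fun n hn => ?_
    · rintro _ ⟨⟨a, k⟩, rfl⟩
      rw [MonoidHom.noncommCoprod_apply]
      refine mul_mem ?_ (hCB (altIn_mem k))
      rcases a with i | i
      · exact hCB (bp_mem i)
      · exact mul_mem hflip (hCB (bp_mem i))
    · have h1 := (Subgroup.mem_normalizer_iff.1 hn _).1 (Subgroup.mem_zpowers three_ok'.beta)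
      obtain ⟨j, hj⟩ := Subgroup.mem_zpowers_iff.1 h1
      have hj3 : n * three_ok'.beta * n⁻¹ = bp (j : ZMod 3) := by
        rw [bp, ← zpow_natCast, ZMod.val_intCast, ← beta_ord, zpow_mod_orderOf, hj]
      rcases (show ∀ i : ZMod 3, i = 0 ∨ i = 1 ∨ i = -1 by decide) (j : ZMod 3) with e | e | e <;> rw [e] at hj3
      · rw [bp, ZMod.val_zero, pow_zero, conj_eq_one_iff] at hj3
        have := beta_ord; rw [hj3, orderOf_one] at this; omega
      · obtain ⟨i, k, hik⟩ := hdec n (Subgroup.mem_centralizer_singleton_iff.2 (mul_inv_eq_iff_eq_mul.1 (by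
          rw [hj3, bp, show (1 : ZMod 3).val = 1 from rfl, pow_one])))
        exact ⟨(.r i, k), hik⟩
      · rw [bp_neg, bp, show (1 : ZMod 3).val = 1 from rfl, pow_one] at hj3
        have hn' : flipT * n ∈ CB := Subgroup.mem_centralizer_singleton_iff.2 (mul_inv_eq_iff_eq_mul.1 (by
          calc flipT * n * three_ok'.beta * (flipT * n)⁻¹ = (flipT * (n * three_ok'.beta * n⁻¹) * flipT⁻¹) := by group
            _ = (flipT * three_ok'.beta * flipT⁻¹)⁻¹ := by rw [hj3]; group
            _ = three_ok'.beta := by rw [flipT_beta, mul_inv_cancel_right, inv_inv]))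
        obtain ⟨i, k, hik⟩ := hdec _ hn'
        refine ⟨(.sr i, k), ?_⟩
        show flipT * bp i * altIn k = n
        rw [mul_assoc, hik, ← mul_assoc, flipT_sq, one_mul]
  exact (MulEquiv.subgroupCongr hrange.symm).trans ((MonoidHom.ofInjective prod_inj).symm.trans
    ((MulEquiv.ofBijective dihPerm dihPerm_bij).prodCongr (MulEquiv.refl _)))

end Cfsg.Agent.Spor.CoLocal
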